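import Cfsg.Agent.H26.AIC.Basic

/-!
helper34: piece S2202-PSL of helper26's team project S2202 (layer 1): `psl_equiv_sl`,
`charP_two_of_card` (exact skeleton statements of `Cfsg/Agent/H26/AIC/L1.lean`).
-/

set_option autoImplicit false
set_option linter.unusedVariables false

namespace Cfsg.Agent.H34.AIC

open Subgroup Cfsg.Agent.H26 Cfsg.Agent.H26.AIC

theorem sl2_center_eq_bot (F : Type*) [Field F] [CharP F 2] :
    Subgroup.center (Matrix.SpecialLinearGroup (Fin 2) F) = ⊥ := by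
  rw [eq_bot_iff]
  intro A hA
  rw [Matrix.SpecialLinearGroup.mem_center_iff] at hA
  obtain ⟨r, hr, hA⟩ := hA
  rw [Subgroup.mem_bot]
  have h2 : (2 : F) = 0 := by
    have := CharP.cast_eq_zero F 2
    exact_mod_cast this
  have hr1 : r = 1 := by
    rw [Fintype.card_fin] at hr
    have h3 : (r - 1) ^ 2 = 0 := by
      have : (r - 1) ^ 2 = r ^ 2 - 2 * r + 1 := by ring
      rw [this, hr, h2]
      have h4 : (1 : F) + 1 = 0 := by rw [one_add_one_eq_two, h2]
      rw [zero_mul, sub_zero, h4]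
    have h5 : r - 1 = 0 := pow_eq_zero_iff (two_ne_zero) |>.1 h3
    exact sub_eq_zero.1 h5
  apply Subtype.ext
  rw [← hA, hr1]
  simp

theorem psl_equiv_sl (F : Type) [Field F] [Fintype F] [CharP F 2] :
    Nonempty (Matrix.ProjectiveSpecialLinearGroup (Fin 2) F ≃* Matrix.SpecialLinearGroup (Fin 2) F) := by
  have h := sl2_center_eq_bot F
  exact ⟨(QuotientGroup.quotientMulEquivOfEq h).trans QuotientGroup.quotientBot⟩

theorem charP_two_of_card (F : Type) [Field F] [Fintype F] {k : ℕ} (hk : 1 ≤ k)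
    (h : Fintype.card F = 2 ^ k) : CharP F 2 := by
  obtain ⟨p, hp⟩ := CharP.exists F
  obtain ⟨n, hpp, hn⟩ := FiniteField.card F p
  have h1 : p ^ (n : ℕ) = 2 ^ k := by rw [← hn, h]
  have h2 : p ∣ 2 ^ k := by
    rw [← h1]
    exact dvd_pow_self p n.pos.ne'
  have h3 : p = 2 := (Nat.prime_dvd_prime_iff_eq hpp Nat.prime_two).1 (hpp.dvd_of_dvd_pow h2)
  rw [← h3]
  exact hp

end Cfsg.Agent.H34.AIC
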