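import Cfsg.Agent.H26.AIC.L1

/-!
helper34: piece S2202-SLSYL of helper26's team project S2202 (layer 2): `sl2_sylow_cyclic`
(exact skeleton statement of `Cfsg/Agent/H26/AIC/L2.lean`).
-/

set_option autoImplicit false

namespace Cfsg.Agent.H34.AIC

open Subgroup Cfsg.Agent.H26 Cfsg.Agent.H26.AIC

theorem sl2_sylow_cyclic (F : Type*) [Field F] [Finite F] [CharP F 2] {p : ℕ} [Fact p.Prime]
    (hp : p ≠ 2) (Q : Sylow p (Matrix.SpecialLinearGroup (Fin 2) F)) :
    IsCyclic (Q : Subgroup (Matrix.SpecialLinearGroup (Fin 2) F)) := by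
  classical
  haveI : Fintype F := Fintype.ofFinite F
  haveI : Finite (Matrix.SpecialLinearGroup (Fin 2) F) := inferInstance
  by_cases hQ : Nontrivial (Q : Subgroup (Matrix.SpecialLinearGroup (Fin 2) F))
  · have hQp : IsPGroup p (Q : Subgroup (Matrix.SpecialLinearGroup (Fin 2) F)) := Q.isPGroup'
    haveI : Nontrivial (Subgroup.center (Q : Subgroup (Matrix.SpecialLinearGroup (Fin 2) F))) :=
      hQp.center_nontrivial
    obtain ⟨z, hz⟩ := exists_ne (1 : Subgroup.center (Q : Subgroup (Matrix.SpecialLinearGroup (Fin 2) F)))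
    have hz1 : ((z : (Q : Subgroup (Matrix.SpecialLinearGroup (Fin 2) F))) :
        Matrix.SpecialLinearGroup (Fin 2) F) ≠ 1 := by
      intro h
      apply hz
      apply Subtype.ext
      apply Subtype.ext
      exact h
    have hcomm : ∀ a ∈ (Q : Subgroup (Matrix.SpecialLinearGroup (Fin 2) F)),
        a * ((z : (Q : Subgroup (Matrix.SpecialLinearGroup (Fin 2) F))) :
          Matrix.SpecialLinearGroup (Fin 2) F) =
        ((z : (Q : Subgroup (Matrix.SpecialLinearGroup (Fin 2) F))) :
          Matrix.SpecialLinearGroup (Fin 2) F) * a := by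
      intro a ha
      have h1 := Subgroup.mem_center_iff.1 z.2 ⟨a, ha⟩
      have h2 := congrArg Subtype.val h1
      simpa using h2
    refine sl2_odd_abelian_cyclic F _ (fun a ha b hb => sl2_cent_comm F _ a b hz1 (hcomm a ha) (hcomm b hb)) ?_
    obtain ⟨n, hn⟩ := IsPGroup.iff_card.1 hQp
    rw [hn]
    exact ((Fact.out : p.Prime).odd_of_ne_two hp).pow
  · rw [not_nontrivial_iff_subsingleton] at hQ
    exact isCyclic_of_subsingleton

end Cfsg.Agent.H34.AIC
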