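import Cfsg.Agent.H34.AutGen
import Cfsg.Agent.H34.M24Q4

/-!
# Automorphisms through a chain of normalisers

The abstract argument: a Sylow subgroup `⟨a⟩` of prime order, an element `b` normalising it, an
element `c` normalising `⟨b⟩`, the centralisers of `a` and `b` cyclic, a refutation of the other
possible images of `c`, and a generation lemma.  Together with generic certificates on packed
permutations (power lists, straight-line programs with several generators, injectivity targets,
cosets of the four-point stabiliser).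
-/

set_option autoImplicit false

namespace Cfsg.Agent.H34

open Cfsg Cfsg.Agent.H9
open scoped Pointwise

/-! ### The abstract argument -/

/-- Two subgroups of prime order `p`, where `p` divides the group order exactly once, are
conjugate. -/
theorem sylow_conj {G : Type*} [Group G] [Finite G] {p : ℕ} [Fact p.Prime]
    (hk : (Nat.card G).factorization p = 1) {S S0 : Subgroup G} (hS : Nat.card S = p)
    (hS0 : Nat.card S0 = p) : ∃ g : G, ∀ x, x ∈ S ↔ g⁻¹ * x * g ∈ S0 := by
  have h0 : Nat.card S0 = p ^ (Nat.card G).factorization p := by rw [hk, pow_one]; exact hS0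
  have h1 : Nat.card S = p ^ (Nat.card G).factorization p := by rw [hk, pow_one]; exact hS
  obtain ⟨g, hg⟩ := MulAction.exists_smul_eq G (Sylow.ofCard S0 h0) (Sylow.ofCard S h1)
  refine ⟨g, fun x => ?_⟩
  have e : (S : Subgroup G) = MulAut.conj g • S0 := by
    have := congrArg (fun P : Sylow p G => (P : Subgroup G)) hg
    simpa [Sylow.coe_subgroup_smul] using this.symm
  rw [e, Subgroup.mem_pointwise_smul_iff_inv_smul_mem]
  simp [MulAut.smul_def]

/-- Every automorphism is inner or inner times `τ`, from a chain of normalisers. -/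
theorem aut_of_chain {G : Type*} [Group G] [Finite G] {p : ℕ} [Fact p.Prime]
    (hp : (Nat.card G).factorization p = 1) (a b c : G) (ha : orderOf a = p)
    (hN : ∀ x ∈ Subgroup.zpowers a, x ≠ 1 → ∃ n : G, n * x * n⁻¹ = a ∨ n * x * n⁻¹ = a⁻¹)
    (r : ℕ) (hba : b * a * b⁻¹ = a ^ r)
    (hCa : ∀ x : G, x * a = a * x → x ∈ Subgroup.zpowers a)
    (hb1 : ∀ u ∈ Subgroup.zpowers a, ∃ m : G, m * a = a * m ∧ m * (b * u) * m⁻¹ = b)
    (s : ℕ) (hcb : c * b * c⁻¹ = b ^ s)
    (hCb : ∀ x : G, x * b = b * x → x ∈ Subgroup.zpowers b)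
    (τ : MulAut G)
    (h5 : ∀ φ : MulAut G, (φ a = a ∨ φ a = a⁻¹) → φ b = b →
      (∃ u ∈ Subgroup.zpowers b, φ c = c * u) →
      (φ a = a ∧ φ c = c) ∨ (φ a = τ a ∧ φ b = τ b ∧ φ c = τ c))
    (hgen : ∀ ψ : G →* G, ψ a = a → ψ b = b → ψ c = c → ∀ g, ψ g = g)
    (α : MulAut G) :
    (∃ g : G, α = MulAut.conj g) ∨ ∃ g : G, α = MulAut.conj g * τ := by
  have hp' : p.Prime := Fact.out
  have ha1 : a ≠ 1 := by
    intro h
    rw [h, orderOf_one] at ha
    exact hp'.one_lt.ne ha
  have hS0 : Nat.card (Subgroup.zpowers a) = p := by rw [Nat.card_zpowers, ha]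
  have hS : Nat.card ((Subgroup.zpowers a).map α.toMonoidHom) = p := by
    rw [Subgroup.card_map_of_injective α.injective]
    exact hS0
  obtain ⟨g, hg⟩ := sylow_conj hp hS hS0
  have hx1 : g⁻¹ * α a * g ∈ Subgroup.zpowers a :=
    (hg _).mp (Subgroup.mem_map_of_mem _ (Subgroup.mem_zpowers a))
  have hx1ne : g⁻¹ * α a * g ≠ 1 := by
    intro h
    have h2 : α a = 1 := by
      have e : α a = g * (g⁻¹ * α a * g) * g⁻¹ := by group
      rw [e, h]
      group
    exact ha1 (α.injective (h2.trans (map_one α).symm))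
  obtain ⟨n, hn⟩ := hN _ hx1 hx1ne
  obtain ⟨α₂, hα₂⟩ : ∃ α₂ : MulAut G, α₂ = MulAut.conj (n * g⁻¹) * α := ⟨_, rfl⟩
  have hα₂a : α₂ a = a ∨ α₂ a = a⁻¹ := by
    have e : α₂ a = n * (g⁻¹ * α a * g) * n⁻¹ := by
      rw [hα₂, MulAut.mul_apply, MulAut.conj_apply]
      group
    rw [e]
    exact hn
  have hy : α₂ b * a * (α₂ b)⁻¹ = a ^ r := by
    have h1 : α₂ b * α₂ a * (α₂ b)⁻¹ = (α₂ a) ^ r := by
      rw [← map_inv, ← map_mul, ← map_mul, hba, map_pow]
    rcases hα₂a with h | h
    · rw [h] at h1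
      exact h1
    · rw [h] at h1
      have h2 := congrArg (fun x => x⁻¹) h1
      simp only [mul_inv_rev, inv_inv, inv_pow] at h2
      rw [mul_assoc]
      exact h2
  have hu : b⁻¹ * α₂ b ∈ Subgroup.zpowers a := by
    apply hCa
    have h1 : α₂ b * a * (α₂ b)⁻¹ = b * a * b⁻¹ := by rw [hy, hba]
    have h2 : α₂ b * a = b * a * b⁻¹ * α₂ b := by
      rw [← h1]
      group
    calc b⁻¹ * α₂ b * a = b⁻¹ * (α₂ b * a) := by group
      _ = b⁻¹ * (b * a * b⁻¹ * α₂ b) := by rw [h2]
      _ = a * (b⁻¹ * α₂ b) := by group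
  obtain ⟨m, hma, hmb⟩ := hb1 _ hu
  have hmb' : m * α₂ b * m⁻¹ = b := by
    have e : b * (b⁻¹ * α₂ b) = α₂ b := by group
    rw [e] at hmb
    exact hmb
  obtain ⟨α₃, hα₃⟩ : ∃ α₃ : MulAut G, α₃ = MulAut.conj m * α₂ := ⟨_, rfl⟩
  have hα₃b : α₃ b = b := by
    rw [hα₃, MulAut.mul_apply, MulAut.conj_apply]
    exact hmb'
  have hma' : m * a * m⁻¹ = a := by
    rw [hma]
    group
  have hma'' : m * a⁻¹ * m⁻¹ = a⁻¹ := by
    have h2 := congrArg (fun x => x⁻¹) hma'
    simp only [mul_inv_rev, inv_inv] at h2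
    rw [mul_assoc]
    exact h2
  have hα₃a : α₃ a = a ∨ α₃ a = a⁻¹ := by
    rw [hα₃, MulAut.mul_apply, MulAut.conj_apply]
    rcases hα₂a with h | h
    · left
      rw [h]
      exact hma'
    · right
      rw [h]
      exact hma''
  have hz : c⁻¹ * α₃ c ∈ Subgroup.zpowers b := by
    apply hCb
    have h1 : α₃ c * b * (α₃ c)⁻¹ = c * b * c⁻¹ := by
      have h2 : α₃ c * α₃ b * (α₃ c)⁻¹ = (α₃ b) ^ s := by
        rw [← map_inv, ← map_mul, ← map_mul, hcb, map_pow]
      rw [hα₃b] at h2
      rw [h2, hcb]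
    have h2 : α₃ c * b = c * b * c⁻¹ * α₃ c := by
      rw [← h1]
      group
    calc c⁻¹ * α₃ c * b = c⁻¹ * (α₃ c * b) := by group
      _ = c⁻¹ * (c * b * c⁻¹ * α₃ c) := by rw [h2]
      _ = b * (c⁻¹ * α₃ c) := by group
  have hzc : α₃ c = c * (c⁻¹ * α₃ c) := by group
  have e3 : ∀ x, α₃ x = (m * n * g⁻¹) * α x * (m * n * g⁻¹)⁻¹ := by
    intro x
    rw [hα₃, hα₂, MulAut.mul_apply, MulAut.mul_apply, MulAut.conj_apply, MulAut.conj_apply]
    group
  rcases h5 α₃ hα₃a hα₃b ⟨_, hz, hzc⟩ with ⟨h1, h2⟩ | ⟨h1, h2, h3⟩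
  · left
    have hid := hgen (MulEquiv.toMonoidHom α₃) h1 hα₃b h2
    refine ⟨(m * n * g⁻¹)⁻¹, ?_⟩
    ext x
    have hx' : α₃ x = x := hid x
    rw [e3] at hx'
    rw [MulAut.conj_apply]
    have e : α x = (m * n * g⁻¹)⁻¹ * ((m * n * g⁻¹) * α x * (m * n * g⁻¹)⁻¹) *
        (m * n * g⁻¹)⁻¹⁻¹ := by group
    rw [e, hx']
  · right
    have hid := hgen (MulEquiv.toMonoidHom (τ⁻¹ * α₃))
      (by
        show τ⁻¹ (α₃ a) = a
        rw [h1]
        exact MulAut.inv_apply_self G τ a)
      (by
        show τ⁻¹ (α₃ b) = b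
        rw [h2]
        exact MulAut.inv_apply_self G τ b)
      (by
        show τ⁻¹ (α₃ c) = c
        rw [h3]
        exact MulAut.inv_apply_self G τ c)
    refine ⟨(m * n * g⁻¹)⁻¹, ?_⟩
    ext x
    have hx : τ⁻¹ (α₃ x) = x := hid x
    have hx' : α₃ x = τ x := by
      have h4 := congrArg τ hx
      rw [MulAut.apply_inv_self] at h4
      exact h4
    rw [e3] at hx'
    rw [MulAut.mul_apply, MulAut.conj_apply, ← hx']
    group

/-- All automorphisms are inner when the exceptional automorphism is trivial. -/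
theorem inner_of_chain_one {G : Type*} [Group G] (α : MulAut G)
    (h : (∃ g : G, α = MulAut.conj g) ∨ ∃ g : G, α = MulAut.conj g * (1 : MulAut G)) :
    ∃ g : G, α = MulAut.conj g := by
  rcases h with h | ⟨g, hg⟩
  · exact h
  · exact ⟨g, by rw [hg, mul_one]⟩

/-! ### Powers -/

theorem zpowers_pw {G : Type*} [Group G] {u : G} {n : ℕ} (hn : 0 < n) (hu : u ^ n = 1) {x : G}
    (hx : x ∈ Subgroup.zpowers u) : ∃ k, k < n ∧ x = u ^ k := by
  obtain ⟨k, rfl⟩ := Subgroup.mem_zpowers_iff.mp hx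
  rw [zpow_eq_zpow_emod' k hu]
  have h1 : 0 ≤ k % (n : ℤ) := Int.emod_nonneg k (by omega)
  have h2 : k % (n : ℤ) < (n : ℤ) := Int.emod_lt_of_pos k (by omega)
  obtain ⟨j, hj⟩ := Int.eq_ofNat_of_zero_le h1
  rw [hj, zpow_natCast]
  exact ⟨j, by omega, rfl⟩

/-- Power-list check: each entry is `u` times the previous one. -/
def pwChk (uP : ℕ) : ℕ → List ℕ → Bool
  | _, [] => true
  | prev, y :: L => svalid y && (prB y uP prev && pwChk uP y L)

theorem pwChk_spec {uP : ℕ} (hu : svalid uP = true) :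
    ∀ (L : List ℕ) (prev m : ℕ), svalid prev = true → lperm prev = lperm uP ^ m →
      pwChk uP prev L = true → ∀ k, k < L.length →
        svalid (L.getD k 0) = true ∧ lperm (L.getD k 0) = lperm uP ^ (m + 1 + k) := by
  intro L
  induction L with
  | nil =>
    intro prev m _ _ _ k hk
    exact absurd hk (Nat.not_lt_zero k)
  | cons y L ih =>
    intro prev m hpv hp h k hk
    simp only [pwChk, Bool.and_eq_true] at h
    obtain ⟨hyv, hpr, hrest⟩ := h
    have hy : lperm y = lperm uP ^ (m + 1) := by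
      rw [prB_sound hyv hu hpv hpr, hp, pow_succ']
    cases k with
    | zero =>
      rw [List.getD_cons_zero]
      exact ⟨hyv, hy⟩
    | succ k =>
      rw [List.getD_cons_succ]
      have h3 := ih y (m + 1) hyv hy hrest k (by simpa using hk)
      have e : m + 1 + (k + 1) = m + 1 + 1 + k := by omega
      rw [e]
      exact h3

/-- A certified list of the powers of `lperm uP`, starting with the identity. -/
theorem pw_all {uP : ℕ} (hu : svalid uP = true) {L : List ℕ} (h : pwChk uP idP L = true) :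
    ∀ k, k < L.length + 1 →
      svalid ((idP :: L).getD k 0) = true ∧ lperm ((idP :: L).getD k 0) = lperm uP ^ k := by
  intro k hk
  cases k with
  | zero =>
    rw [List.getD_cons_zero]
    exact ⟨idP_valid, by rw [lperm_idP, pow_zero]⟩
  | succ k =>
    rw [List.getD_cons_succ]
    have h3 := pwChk_spec hu L idP 0 idP_valid (by rw [lperm_idP, pow_zero]) h k (by omega)
    have e : 0 + 1 + k = k + 1 := by omega
    rw [e] at h3
    exact h3

/-! ### Straight-line programs with several generators -/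

/-- A straight-line program, newest entry first: every entry is one of the generators or the
product of two later entries. -/
def slpL (gens : List ℕ) : List (ℕ × ℕ × ℕ) → Bool
  | [] => true
  | e :: rest =>
    (gens.any (fun g => Nat.beq e.1 g) || stepB e.1 rest[e.2.1]? rest[e.2.2]?) && slpL gens rest

theorem slpL_sound {Q : ℕ → Prop} {gens : List ℕ} (hg : ∀ g ∈ gens, Q g)
    (hmul : ∀ r s t, svalid r = true → Q s → Q t → prB r s t = true → Q r) :
    ∀ L : List (ℕ × ℕ × ℕ), slpL gens L = true → ∀ e ∈ L, Q e.1 := by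
  intro L
  induction L with
  | nil =>
    intro _ e he
    exact absurd he List.not_mem_nil
  | cons e0 rest ih =>
    intro h e he
    simp only [slpL, Bool.and_eq_true, Bool.or_eq_true] at h
    obtain ⟨h1, h2⟩ := h
    have ihr := ih h2
    rcases List.mem_cons.mp he with rfl | he'
    · rcases h1 with h1 | h1
      · obtain ⟨g, hgm, hge⟩ := List.any_eq_true.mp h1
        rw [Nat.eq_of_beq_eq_true hge]
        exact hg g hgm
      · obtain ⟨x, y, ex, ey, hv, hp⟩ := stepB_spec h1
        exact hmul _ _ _ hv (ihr x (List.mem_of_getElem? ex)) (ihr y (List.mem_of_getElem? ey)) hp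
    · exact ihr e he'

theorem FixG_slpL {H : Subgroup (Equiv.Perm GolayPt)} {ψ : ↥H →* ↥H} {gens : List ℕ}
    (hg : ∀ g ∈ gens, FixG ψ g) {L : List (ℕ × ℕ × ℕ)} (hL : slpL gens L = true) :
    ∀ e ∈ L, FixG ψ e.1 :=
  slpL_sound hg (fun r s t => FixG_mul r s t) L hL

/-- The indices not in the list `B`. -/
def freeL (B : List ℕ) : List ℕ := (List.range 24).filter (fun j => !(B.any (fun i => Nat.beq i j)))

/-- A permutation fixing the points of `B` maps every other point outside `B`. -/
theorem inj_target {g : Equiv.Perm GolayPt} {B : List ℕ}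
    (hg : ∀ i ∈ B, g (gPt i) = gPt i) {p : ℕ} (hp : p < 24) (hpB : p ∉ B) :
    gIdx (g (gPt p)) ∈ freeL B := by
  unfold freeL
  rw [List.mem_filter, List.mem_range]
  refine ⟨gIdx_lt _, ?_⟩
  rw [Bool.not_eq_true']
  by_contra h
  rw [Bool.not_eq_false] at h
  obtain ⟨i, hi, hij⟩ := List.any_eq_true.mp h
  have e := Nat.eq_of_beq_eq_true hij
  have h1 := hg i hi
  rw [e, gPt_gIdx] at h1
  have h2 := g.injective h1
  have h3 := congrArg gIdx h2
  rw [gIdx_gPt hp] at h3
  rw [e, h3] at hi
  exact hpB hi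

/-! ### Orders of subgroups of `M24` -/

theorem finite_M24 : Finite ↥M24 := Nat.finite_of_card_ne_zero (by rw [card_M24]; norm_num)

theorem fact_sub {H : Subgroup (Equiv.Perm GolayPt)} (hH : H ≤ M24) {p : ℕ} (hp : p.Prime)
    (hM : (244823040 : ℕ).factorization p = 1) {a : ↥H} (ha : orderOf a = p) :
    (Nat.card ↥H).factorization p = 1 := by
  haveI := finite_M24
  have h1 : Nat.card ↥H ∣ 244823040 := by
    rw [← card_M24]
    exact Subgroup.card_dvd_of_le hH
  have h2 : p ∣ Nat.card ↥H := by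
    rw [← ha]
    exact orderOf_dvd_natCard a
  have h0 : Nat.card ↥H ≠ 0 := by
    intro h
    rw [h] at h1
    norm_num at h1
  have h3 : (Nat.card ↥H).factorization p ≤ 1 := by
    rw [← hM]
    exact (Nat.factorization_le_iff_dvd h0 (by norm_num)).mpr h1 p
  have h4 : 0 < (Nat.card ↥H).factorization p := hp.factorization_pos_of_dvd h0 h2
  omega

theorem fact_23 : (244823040 : ℕ).factorization 23 = 1 := by
  have e : (244823040 : ℕ) = 23 * 10644480 := by norm_num
  rw [e, Nat.factorization_mul (by norm_num) (by norm_num)]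
  have h1 : (23 : ℕ).factorization 23 = 1 := Nat.Prime.factorization_self (by norm_num)
  have h2 : (10644480 : ℕ).factorization 23 = 0 :=
    Nat.factorization_eq_zero_of_not_dvd (by norm_num)
  simp [h1, h2]

theorem fact_11 : (244823040 : ℕ).factorization 11 = 1 := by
  have e : (244823040 : ℕ) = 11 * 22256640 := by norm_num
  rw [e, Nat.factorization_mul (by norm_num) (by norm_num)]
  have h1 : (11 : ℕ).factorization 11 = 1 := Nat.Prime.factorization_self (by norm_num)
  have h2 : (22256640 : ℕ).factorization 11 = 0 :=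
    Nat.factorization_eq_zero_of_not_dvd (by norm_num)
  simp [h1, h2]

/-! ### Cosets of the four-point stabiliser over another base -/

/-- Two elements of `M24` agreeing on the images under `lperm wP` of the four base points differ
by a conjugate of an element of the list `Q4EL`. -/
theorem coset_base {wP wiP : ℕ} (hw : okM24 wP = true) (hwi : svalid wiP = true)
    (hinv : prB idP wP wiP = true) {z r : Equiv.Perm GolayPt} (hz : z ∈ M24) (hr : r ∈ M24)
    (h : ∀ i, i < 4 → z (lperm wP (gPt i)) = r (lperm wP (gPt i))) :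
    ∃ s ∈ Q4EL, z = r * lperm wP * lperm s * lperm wiP := by
  have hwm := lperm_mem_M24 hw
  have e1 : lperm wP * lperm wiP = 1 := by
    rw [← prB_sound idP_valid (okM24_svalid hw) hwi hinv, lperm_idP]
  have e2 : lperm wiP = (lperm wP)⁻¹ := eq_inv_of_mul_eq_one_right e1
  have key : ∀ i, i < 4 → ((lperm wP)⁻¹ * z * lperm wP) (gPt i) =
      ((lperm wP)⁻¹ * r * lperm wP) (gPt i) := by
    intro i hi
    rw [Equiv.Perm.mul_apply, Equiv.Perm.mul_apply, Equiv.Perm.mul_apply, Equiv.Perm.mul_apply,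
      h i hi]
  obtain ⟨s, hs, e⟩ := Q4_coset (g := (lperm wP)⁻¹ * z * lperm wP)
    (r := (lperm wP)⁻¹ * r * lperm wP)
    (mul_mem (mul_mem (inv_mem hwm) hz) hwm) (mul_mem (mul_mem (inv_mem hwm) hr) hwm)
    (key 0 (by norm_num)) (key 1 (by norm_num)) (key 2 (by norm_num)) (key 3 (by norm_num))
  refine ⟨s, hs, ?_⟩
  rw [e2]
  have e3 : z = lperm wP * ((lperm wP)⁻¹ * z * lperm wP) * (lperm wP)⁻¹ := by group
  rw [e3, e]
  group


end Cfsg.Agent.H34
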