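import Cfsg.Agent.H34.AutChain

/-!
# The chain argument on packed permutations

Lemmas turning kernel-checked tables on packed permutations into the hypotheses of
`aut_of_chain`, for a subgroup `H` of `M24`.
-/

set_option autoImplicit false

namespace Cfsg.Agent.H34

open Cfsg Cfsg.Agent.H9
open scoped Pointwise

/-- The `k`-th entry of a power list (the identity first). -/
def pwOf (L : List ℕ) (k : ℕ) : ℕ := (idP :: L).getD k 0

theorem pwOf_spec {uP : ℕ} (hu : svalid uP = true) {L : List ℕ} (h : pwChk uP idP L = true)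
    {k : ℕ} (hk : k < L.length + 1) :
    svalid (pwOf L k) = true ∧ lperm (pwOf L k) = lperm uP ^ k := pw_all hu h k hk

/-- The power `u ^ n` is trivial when `u` times the last entry of the power list is the
identity. -/
theorem pw_order {uP : ℕ} (hu : svalid uP = true) {L : List ℕ} (h : pwChk uP idP L = true)
    (hl : prB idP uP (pwOf L L.length) = true) : lperm uP ^ (L.length + 1) = 1 := by
  obtain ⟨hv, e⟩ := pwOf_spec hu h (k := L.length) (by omega)
  rw [pow_succ', ← e, ← prB_sound idP_valid hu hv hl, lperm_idP]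

/-- Every entry of a power list is a power. -/
theorem pw_mem {uP : ℕ} (hu : svalid uP = true) {L : List ℕ} (h : pwChk uP idP L = true)
    {x : ℕ} (hx : x ∈ idP :: L) : svalid x = true ∧ ∃ k, lperm x = lperm uP ^ k := by
  obtain ⟨n, hn, e⟩ := List.getElem_of_mem hx
  have hn' : n < L.length + 1 := by simpa using hn
  have h1 := pwOf_spec hu h hn'
  have e2 : pwOf L n = x := by
    unfold pwOf
    rw [List.getD_eq_getElem _ _ hn, e]
  rw [e2] at h1
  exact ⟨h1.1, n, h1.2⟩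

/-- `m * (b * u) = b * m` on packed permutations. -/
def mbuB (m b u : ℕ) : Bool :=
  allB (fun i => Nat.beq (sv m (sv b (sv u i))) (sv b (sv m i))) 24

theorem mbuB_sound {m b u : ℕ} (hm : svalid m = true) (hb : svalid b = true)
    (hu : svalid u = true) (h : mbuB m b u = true) :
    lperm m * (lperm b * lperm u) = lperm b * lperm m := by
  apply Equiv.ext
  intro p
  apply gIdx_injective
  rw [Equiv.Perm.mul_apply, gIdx_lperm hm, gIdx_lperm_mul hb hu, gIdx_lperm_mul hb hm]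
  exact Nat.eq_of_beq_eq_true ((allB_iff _ _).mp h _ (gIdx_lt p))

/-- The index function commutes with the packed permutation. -/
def commF (f : ℕ → ℕ) (bP : ℕ) : Bool :=
  allB (fun i => Nat.beq (f (sv bP i)) (sv bP (f i))) 24

theorem commF_of_comm {z : Equiv.Perm GolayPt} {f : ℕ → ℕ} {bP : ℕ} (hf : IdxF z f)
    (hb : svalid bP = true) (hc : z * lperm bP = lperm bP * z) : commF f bP = true := by
  rw [commF, allB_iff]
  intro i hi
  have h1 := congrArg (fun g : Equiv.Perm GolayPt => gIdx (g (gPt i))) hc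
  simp only [Equiv.Perm.mul_apply] at h1
  rw [hf, gIdx_lperm hb, gIdx_gPt hi, gIdx_lperm hb, hf, gIdx_gPt hi] at h1
  rw [h1]
  exact Nat.beq_refl _

/-- The index function is that of the packed permutation. -/
def eqF (f : ℕ → ℕ) (p : ℕ) : Bool := allB (fun i => Nat.beq (f i) (sv p i)) 24

theorem eq_of_eqF {z : Equiv.Perm GolayPt} {f : ℕ → ℕ} {p : ℕ} (hf : IdxF z f)
    (hp : svalid p = true) (h : eqF f p = true) : z = lperm p := by
  apply Equiv.ext
  intro x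
  apply gIdx_injective
  rw [hf, gIdx_lperm hp]
  exact Nat.eq_of_beq_eq_true ((allB_iff _ _).mp h _ (gIdx_lt x))

section Chain

variable {H : Subgroup (Equiv.Perm GolayPt)} {aP bP cP : ℕ} {AL BL : List ℕ}

theorem ord_concrete (hav : svalid aP = true) (hAL : pwChk aP idP AL = true)
    (hl : prB idP aP (pwOf AL AL.length) = true) (hp : (AL.length + 1).Prime)
    (haH : lperm aP ∈ H) (ha1 : lperm aP ≠ 1) :
    orderOf (⟨lperm aP, haH⟩ : ↥H) = AL.length + 1 := by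
  haveI : Fact (AL.length + 1).Prime := ⟨hp⟩
  refine orderOf_eq_prime ?_ ?_
  · apply Subtype.ext
    show lperm aP ^ (AL.length + 1) = 1
    exact pw_order hav hAL hl
  · intro h
    exact ha1 (congrArg Subtype.val h)

theorem hN_concrete (hav : svalid aP = true) (hbv : svalid bP = true)
    (hAL : pwChk aP idP AL = true) (hBL : pwChk bP idP BL = true)
    (hl : prB idP aP (pwOf AL AL.length) = true)
    (haH : lperm aP ∈ H) (hbH : lperm bP ∈ H)
    (htab : (List.range (AL.length + 1)).all (fun k => Nat.beq k 0 ||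
      (List.range (BL.length + 1)).any (fun j => conjB (pwOf BL j) (pwOf AL k) aP ||
        conjB (pwOf BL j) (pwOf AL k) (pwOf AL AL.length))) = true)
    (x : ↥H) (hx : x ∈ Subgroup.zpowers (⟨lperm aP, haH⟩ : ↥H)) (hx1 : x ≠ 1) :
    ∃ n : ↥H, n * x * n⁻¹ = ⟨lperm aP, haH⟩ ∨ n * x * n⁻¹ = (⟨lperm aP, haH⟩ : ↥H)⁻¹ := by
  have hap : lperm aP ^ (AL.length + 1) = 1 := pw_order hav hAL hl
  have hapM : (⟨lperm aP, haH⟩ : ↥H) ^ (AL.length + 1) = 1 := Subtype.ext hap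
  obtain ⟨k, hk, rfl⟩ := zpowers_pw (by omega) hapM hx
  have h1 := List.all_eq_true.mp htab k (List.mem_range.mpr hk)
  have hk0 : Nat.beq k 0 = false := by
    by_contra h
    rw [Bool.not_eq_false] at h
    rw [Nat.eq_of_beq_eq_true h, pow_zero] at hx1
    exact hx1 rfl
  rw [hk0, Bool.false_or] at h1
  obtain ⟨j, hj, hjj⟩ := List.any_eq_true.mp h1
  have hj' : j < BL.length + 1 := List.mem_range.mp hj
  obtain ⟨hbjv, hbj⟩ := pwOf_spec hbv hBL hj'
  obtain ⟨hakv, hak⟩ := pwOf_spec hav hAL hk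
  obtain ⟨halv, hal⟩ := pwOf_spec hav hAL (k := AL.length) (by omega)
  refine ⟨(⟨lperm bP, hbH⟩ : ↥H) ^ j, ?_⟩
  rw [Bool.or_eq_true] at hjj
  rcases hjj with h | h
  · left
    have e := conjB_sound hbjv hakv hav h
    rw [hbj, hak] at e
    apply Subtype.ext
    show lperm bP ^ j * lperm aP ^ k * (lperm bP ^ j)⁻¹ = lperm aP
    rw [e]
    group
  · right
    have e := conjB_sound hbjv hakv halv h
    rw [hbj, hak, hal] at e
    have e2 : lperm aP ^ AL.length = (lperm aP)⁻¹ := by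
      apply eq_inv_of_mul_eq_one_left
      rw [← pow_succ]
      exact hap
    apply Subtype.ext
    show lperm bP ^ j * lperm aP ^ k * (lperm bP ^ j)⁻¹ = (lperm aP)⁻¹
    rw [e, e2]
    group

theorem hba_concrete (hav : svalid aP = true) (hbv : svalid bP = true)
    (hAL : pwChk aP idP AL = true) (haH : lperm aP ∈ H) (hbH : lperm bP ∈ H)
    {r : ℕ} (hr : r < AL.length + 1) (h : conjB bP aP (pwOf AL r) = true) :
    (⟨lperm bP, hbH⟩ : ↥H) * ⟨lperm aP, haH⟩ * (⟨lperm bP, hbH⟩ : ↥H)⁻¹ =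
      (⟨lperm aP, haH⟩ : ↥H) ^ r := by
  obtain ⟨hrv, har⟩ := pwOf_spec hav hAL hr
  have e := conjB_sound hbv hav hrv h
  rw [har] at e
  apply Subtype.ext
  show lperm bP * lperm aP * (lperm bP)⁻¹ = lperm aP ^ r
  rw [e]
  group

theorem hC_lift {uP : ℕ} (huH : lperm uP ∈ H)
    (hC : ∀ x ∈ H, x * lperm uP = lperm uP * x → ∃ k : ℕ, x = lperm uP ^ k)
    (x : ↥H) (hx : x * (⟨lperm uP, huH⟩ : ↥H) = ⟨lperm uP, huH⟩ * x) :
    x ∈ Subgroup.zpowers (⟨lperm uP, huH⟩ : ↥H) := by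
  obtain ⟨k, hk⟩ := hC x x.2 (congrArg Subtype.val hx)
  have e : x = (⟨lperm uP, huH⟩ : ↥H) ^ k := Subtype.ext hk
  rw [e]
  exact Subgroup.npow_mem_zpowers _ k

theorem hb1_concrete (hav : svalid aP = true) (hbv : svalid bP = true)
    (hAL : pwChk aP idP AL = true) (hl : prB idP aP (pwOf AL AL.length) = true)
    (haH : lperm aP ∈ H) (hbH : lperm bP ∈ H)
    (htab : (List.range (AL.length + 1)).all (fun k =>
      (List.range (AL.length + 1)).any (fun j => mbuB (pwOf AL j) bP (pwOf AL k))) = true)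
    (u : ↥H) (hu : u ∈ Subgroup.zpowers (⟨lperm aP, haH⟩ : ↥H)) :
    ∃ m : ↥H, m * ⟨lperm aP, haH⟩ = ⟨lperm aP, haH⟩ * m ∧
      m * (⟨lperm bP, hbH⟩ * u) * m⁻¹ = ⟨lperm bP, hbH⟩ := by
  have hap : lperm aP ^ (AL.length + 1) = 1 := pw_order hav hAL hl
  have hapM : (⟨lperm aP, haH⟩ : ↥H) ^ (AL.length + 1) = 1 := Subtype.ext hap
  obtain ⟨k, hk, rfl⟩ := zpowers_pw (by omega) hapM hu
  have h1 := List.all_eq_true.mp htab k (List.mem_range.mpr hk)
  obtain ⟨j, hj, hjj⟩ := List.any_eq_true.mp h1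
  have hj' : j < AL.length + 1 := List.mem_range.mp hj
  obtain ⟨hajv, haj⟩ := pwOf_spec hav hAL hj'
  obtain ⟨hakv, hak⟩ := pwOf_spec hav hAL hk
  have e := mbuB_sound hajv hbv hakv hjj
  rw [haj, hak] at e
  refine ⟨(⟨lperm aP, haH⟩ : ↥H) ^ j, ?_, ?_⟩
  · exact (pow_mul_comm' _ j)
  · apply Subtype.ext
    show lperm aP ^ j * (lperm bP * lperm aP ^ k) * (lperm aP ^ j)⁻¹ = lperm bP
    rw [e]
    group

theorem hcb_concrete (hbv : svalid bP = true) (hcv : svalid cP = true)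
    (hBL : pwChk bP idP BL = true) (hbH : lperm bP ∈ H) (hcH : lperm cP ∈ H)
    {s : ℕ} (hs : s < BL.length + 1) (h : conjB cP bP (pwOf BL s) = true) :
    (⟨lperm cP, hcH⟩ : ↥H) * ⟨lperm bP, hbH⟩ * (⟨lperm cP, hcH⟩ : ↥H)⁻¹ =
      (⟨lperm bP, hbH⟩ : ↥H) ^ s := by
  obtain ⟨hsv, hbs⟩ := pwOf_spec hbv hBL hs
  have e := conjB_sound hcv hbv hsv h
  rw [hbs] at e
  apply Subtype.ext
  show lperm cP * lperm bP * (lperm cP)⁻¹ = lperm bP ^ s
  rw [e]
  group

/-- The refutation of the other possible images of `c`: the image is `c` itself when `a` is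
fixed, and `c * b ^ iτ` (with `iτ` in range) when `a` is inverted. -/
theorem h5_concrete (hav : svalid aP = true) (hbv : svalid bP = true) (hcv : svalid cP = true)
    (hAL : pwChk aP idP AL = true) (hBL : pwChk bP idP BL = true)
    (hla : prB idP aP (pwOf AL AL.length) = true) (hlb : prB idP bP (pwOf BL BL.length) = true)
    (haH : lperm aP ∈ H) (hbH : lperm bP ∈ H) (hcH : lperm cP ∈ H)
    (R : RelL) (hR : relB (sv aP) (sv cP) R = true) (CBL : List ℕ)
    (hCBL : (List.range (BL.length + 1)).all (fun i =>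
      svalid (CBL.getD i 0) && prB (CBL.getD i 0) cP (pwOf BL i)) = true)
    (iτ : ℕ)
    (hbad : (List.range (BL.length + 1)).all (fun i =>
      (Nat.beq i 0 || !(relB (sv aP) (sv (CBL.getD i 0)) R)) &&
      (Nat.beq i iτ || !(relB (sv (pwOf AL AL.length)) (sv (CBL.getD i 0)) R))) = true)
    (φ : MulAut ↥H)
    (hφa : φ ⟨lperm aP, haH⟩ = ⟨lperm aP, haH⟩ ∨ φ ⟨lperm aP, haH⟩ = (⟨lperm aP, haH⟩ : ↥H)⁻¹)
    (hφc : ∃ u ∈ Subgroup.zpowers (⟨lperm bP, hbH⟩ : ↥H),
      φ ⟨lperm cP, hcH⟩ = ⟨lperm cP, hcH⟩ * u) :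
    (φ ⟨lperm aP, haH⟩ = ⟨lperm aP, haH⟩ ∧ φ ⟨lperm cP, hcH⟩ = ⟨lperm cP, hcH⟩) ∨
    (φ ⟨lperm aP, haH⟩ = (⟨lperm aP, haH⟩ : ↥H)⁻¹ ∧ iτ < BL.length + 1 ∧
      φ ⟨lperm cP, hcH⟩ = ⟨lperm cP, hcH⟩ * (⟨lperm bP, hbH⟩ : ↥H) ^ iτ) := by
  have hap : lperm aP ^ (AL.length + 1) = 1 := pw_order hav hAL hla
  have hbq : lperm bP ^ (BL.length + 1) = 1 := pw_order hbv hBL hlb
  have hbqM : (⟨lperm bP, hbH⟩ : ↥H) ^ (BL.length + 1) = 1 := Subtype.ext hbq
  obtain ⟨u, hu, hφcu⟩ := hφc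
  obtain ⟨i, hi, rfl⟩ := zpowers_pw (by omega) hbqM hu
  have hchk := List.all_eq_true.mp hCBL i (List.mem_range.mpr hi)
  rw [Bool.and_eq_true] at hchk
  obtain ⟨hcbv, hcbp⟩ := hchk
  obtain ⟨hbiv, hbi⟩ := pwOf_spec hbv hBL hi
  have ecb : lperm (CBL.getD i 0) = lperm cP * lperm bP ^ i := by
    rw [prB_sound hcbv hcv hbiv hcbp, hbi]
  have hcoe : ((φ ⟨lperm cP, hcH⟩ : ↥H) : Equiv.Perm GolayPt) = lperm (CBL.getD i 0) := by
    rw [ecb, hφcu]
    rfl
  have hR0 : RelP (lperm aP) (lperm cP) R := RelP_of_relB (IdxF_lp hav) (IdxF_lp hcv) R hR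
  have hR1 : RelP (⟨lperm aP, haH⟩ : ↥H) ⟨lperm cP, hcH⟩ R :=
    RelP_comap H.subtype (Subgroup.subtype_injective _) hR0
  have hR2 : RelP (φ ⟨lperm aP, haH⟩) (φ ⟨lperm cP, hcH⟩) R :=
    RelP_map (MulEquiv.toMonoidHom φ) φ.injective hR1
  have hR3 : RelP ((φ ⟨lperm aP, haH⟩ : ↥H) : Equiv.Perm GolayPt)
      ((φ ⟨lperm cP, hcH⟩ : ↥H) : Equiv.Perm GolayPt) R :=
    RelP_map H.subtype (Subgroup.subtype_injective _) hR2
  rw [hcoe] at hR3
  have hb := List.all_eq_true.mp hbad i (List.mem_range.mpr hi)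
  rw [Bool.and_eq_true] at hb
  obtain ⟨hb1, hb2⟩ := hb
  rcases hφa with h | h
  · left
    refine ⟨h, ?_⟩
    rw [h] at hR3
    have h4 : relB (sv aP) (sv (CBL.getD i 0)) R = true :=
      relB_of_RelP (IdxF_lp hav) (IdxF_lp hcbv) R hR3
    rw [h4, Bool.not_true, Bool.or_false] at hb1
    rw [hφcu, Nat.eq_of_beq_eq_true hb1, pow_zero, mul_one]
  · right
    obtain ⟨halv, hal⟩ := pwOf_spec hav hAL (k := AL.length) (by omega)
    have e2 : lperm aP ^ AL.length = (lperm aP)⁻¹ := by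
      apply eq_inv_of_mul_eq_one_left
      rw [← pow_succ]
      exact hap
    have e3 : ((φ ⟨lperm aP, haH⟩ : ↥H) : Equiv.Perm GolayPt) = lperm (pwOf AL AL.length) := by
      rw [h, hal, e2]
      rfl
    rw [e3] at hR3
    have h4 : relB (sv (pwOf AL AL.length)) (sv (CBL.getD i 0)) R = true :=
      relB_of_RelP (IdxF_lp halv) (IdxF_lp hcbv) R hR3
    rw [h4, Bool.not_true, Bool.or_false] at hb2
    have hiτ := Nat.eq_of_beq_eq_true hb2
    refine ⟨h, by rw [← hiτ]; exact hi, ?_⟩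
    rw [hφcu, hiτ]

end Chain

end Cfsg.Agent.H34
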