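import Cfsg.Agent.H34.M11Out
import Cfsg.Prelude.Def_KGroupFacts

/-!
# Automorphisms of permutation groups on the 24 points: a generic toolkit

Index functions of permutations, word relations checked on index functions, certified
straight-line programs with a descent along a base, and the abstract argument computing the
automorphism group from: a class lemma for a first generator `a`, a candidate lemma for the images
of a second generator `b`, and a generation lemma.
-/

set_option autoImplicit false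

namespace Cfsg.Agent.H34

open Cfsg Cfsg.Agent.H9
open scoped Pointwise

/-! ### Index functions -/

/-- `f` is the index function of the permutation `g`. -/
def IdxF (g : Equiv.Perm GolayPt) (f : ℕ → ℕ) : Prop := ∀ p, gIdx (g p) = f (gIdx p)

theorem IdxF_lp {s : ℕ} (hs : svalid s = true) : IdxF (lperm s) (sv s) := gIdx_lperm hs

theorem IdxF_mul {x y : Equiv.Perm GolayPt} {fx fy : ℕ → ℕ} (hx : IdxF x fx) (hy : IdxF y fy) :
    IdxF (x * y) (fun i => fx (fy i)) := idx_mul hx hy

theorem IdxF_pow {g : Equiv.Perm GolayPt} {f : ℕ → ℕ} (h : IdxF g f) (k : ℕ) :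
    IdxF (g ^ k) (f^[k]) := idx_pow h k

theorem IdxF_powB {g : Equiv.Perm GolayPt} {f : ℕ → ℕ} (h : IdxF g f) (k : ℕ) :
    powB f k = true ↔ g ^ k = 1 :=
  ⟨fun hk => powB_sound h hk, fun hk => powB_complete h hk⟩

/-- The packed permutations satisfy `c * a = y * c`, where `y` has index function `f`. -/
def conjF (c a : ℕ) (f : ℕ → ℕ) : Bool :=
  allB (fun i => Nat.beq (sv c (sv a i)) (f (sv c i))) 24

theorem conjF_sound {c a : ℕ} {f : ℕ → ℕ} {y : Equiv.Perm GolayPt} (hc : svalid c = true)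
    (ha : svalid a = true) (hy : IdxF y f) (h : conjF c a f = true) :
    lperm c * lperm a = y * lperm c := by
  apply Equiv.ext
  intro p
  apply gIdx_injective
  rw [gIdx_lperm_mul hc ha, Equiv.Perm.mul_apply, hy, gIdx_lperm hc]
  exact Nat.eq_of_beq_eq_true ((allB_iff _ _).mp h _ (gIdx_lt p))

/-! ### Words and relations -/

/-- The value of a word in two letters (`false` is `x`, `true` is `y`). -/
def wordP {M : Type*} [Monoid M] (x y : M) : List Bool → M
  | [] => 1
  | l :: w => cond l y x * wordP x y w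

/-- The index function of a word. -/
def wordF (fa f : ℕ → ℕ) : List Bool → ℕ → ℕ
  | [], i => i
  | l :: w, i => cond l f fa (wordF fa f w i)

theorem IdxF_word {x y : Equiv.Perm GolayPt} {fa f : ℕ → ℕ} (hx : IdxF x fa) (hy : IdxF y f) :
    ∀ w : List Bool, IdxF (wordP x y w) (wordF fa f w) := by
  intro w
  induction w with
  | nil => intro p; rfl
  | cons l w ih =>
    intro p
    cases l
    · show gIdx ((x * wordP x y w) p) = fa (wordF fa f w (gIdx p))
      rw [Equiv.Perm.mul_apply, hx, ih]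
    · show gIdx ((y * wordP x y w) p) = f (wordF fa f w (gIdx p))
      rw [Equiv.Perm.mul_apply, hy, ih]

theorem wordP_map {M M' : Type*} [Monoid M] [Monoid M'] (φ : M →* M') (x y : M) :
    ∀ w : List Bool, φ (wordP x y w) = wordP (φ x) (φ y) w := by
  intro w
  induction w with
  | nil => exact map_one φ
  | cons l w ih =>
    cases l
    · show φ (x * wordP x y w) = φ x * wordP (φ x) (φ y) w
      rw [map_mul, ih]
    · show φ (y * wordP x y w) = φ y * wordP (φ x) (φ y) w
      rw [map_mul, ih]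

/-- A list of power relations: the word, the exponent, and whether the power is trivial. -/
abbrev RelL : Type := List (List Bool × ℕ × Bool)

/-- The relations hold for the index functions. -/
def relB (fa f : ℕ → ℕ) : RelL → Bool
  | [] => true
  | r :: R => cond r.2.2 (powB (wordF fa f r.1) r.2.1) (!(powB (wordF fa f r.1) r.2.1)) &&
      relB fa f R

/-- The relations hold in a monoid. -/
def RelP {M : Type*} [Monoid M] (x y : M) (R : RelL) : Prop :=
  ∀ r ∈ R, (r.2.2 = true → wordP x y r.1 ^ r.2.1 = 1) ∧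
    (r.2.2 = false → wordP x y r.1 ^ r.2.1 ≠ 1)

theorem relB_of_RelP {x y : Equiv.Perm GolayPt} {fa f : ℕ → ℕ} (hx : IdxF x fa) (hy : IdxF y f) :
    ∀ R : RelL, RelP x y R → relB fa f R = true := by
  intro R
  induction R with
  | nil => intro _; rfl
  | cons r R ih =>
    intro h
    have h1 := h r List.mem_cons_self
    have h2 : RelP x y R := fun r' hr' => h r' (List.mem_cons_of_mem _ hr')
    show (cond r.2.2 (powB (wordF fa f r.1) r.2.1) (!(powB (wordF fa f r.1) r.2.1)) &&
      relB fa f R) = true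
    rw [ih h2, Bool.and_true]
    cases hb : r.2.2
    · show (!(powB (wordF fa f r.1) r.2.1)) = true
      have h3 := h1.2 hb
      rw [Bool.not_eq_true']
      by_contra h4
      rw [Bool.not_eq_false] at h4
      exact h3 ((IdxF_powB (IdxF_word hx hy r.1) r.2.1).mp h4)
    · show powB (wordF fa f r.1) r.2.1 = true
      exact (IdxF_powB (IdxF_word hx hy r.1) r.2.1).mpr (h1.1 hb)

theorem RelP_of_relB {x y : Equiv.Perm GolayPt} {fa f : ℕ → ℕ} (hx : IdxF x fa) (hy : IdxF y f) :
    ∀ R : RelL, relB fa f R = true → RelP x y R := by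
  intro R
  induction R with
  | nil =>
    intro _ r hr
    exact absurd hr List.not_mem_nil
  | cons r R ih =>
    intro h
    have h' : (cond r.2.2 (powB (wordF fa f r.1) r.2.1) (!(powB (wordF fa f r.1) r.2.1)) &&
      relB fa f R) = true := h
    rw [Bool.and_eq_true] at h'
    obtain ⟨h1, h2⟩ := h'
    intro r' hr'
    rcases List.mem_cons.mp hr' with rfl | hr''
    · constructor
      · intro hb
        rw [hb] at h1
        exact (IdxF_powB (IdxF_word hx hy r'.1) r'.2.1).mp h1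
      · intro hb hp
        rw [hb] at h1
        have h3 : (!(powB (wordF fa f r'.1) r'.2.1)) = true := h1
        rw [(IdxF_powB (IdxF_word hx hy r'.1) r'.2.1).mpr hp] at h3
        exact Bool.false_ne_true h3
    · exact ih h2 r' hr''

theorem RelP_map {M M' : Type*} [Monoid M] [Monoid M'] (φ : M →* M')
    (hφ : Function.Injective φ) {x y : M} {R : RelL} (h : RelP x y R) : RelP (φ x) (φ y) R := by
  intro r hr
  obtain ⟨h1, h2⟩ := h r hr
  constructor
  · intro hb
    rw [← wordP_map, ← map_pow, h1 hb, map_one]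
  · intro hb hp
    rw [← wordP_map, ← map_pow] at hp
    exact h2 hb (hφ (by rw [hp, map_one]))

theorem RelP_comap {M M' : Type*} [Monoid M] [Monoid M'] (φ : M →* M')
    (hφ : Function.Injective φ) {x y : M} {R : RelL} (h : RelP (φ x) (φ y) R) : RelP x y R := by
  intro r hr
  obtain ⟨h1, h2⟩ := h r hr
  constructor
  · intro hb
    apply hφ
    rw [map_pow, wordP_map, h1 hb, map_one]
  · intro hb hp
    apply h2 hb
    rw [← wordP_map, ← map_pow, hp, map_one]

/-- The complementary mask is fixed along with a mask. -/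
theorem fs_compl_fix {m m' : ℕ} (hc : ∀ j, j < 24 → m'.testBit j = !m.testBit j)
    {k : Equiv.Perm GolayPt} (h : k • fs m = fs m) : k • fs m' = fs m' := by
  ext p
  have h1 : k⁻¹ • p ∈ fs m ↔ p ∈ fs m := by
    rw [Finset.inv_smul_mem_iff, h]
  rw [mem_fs, mem_fs] at h1
  rw [← Finset.inv_smul_mem_iff, mem_fs, mem_fs, hc _ (gIdx_lt _), hc _ (gIdx_lt _)]
  cases h2 : m.testBit (gIdx (k⁻¹ • p)) <;> cases h3 : m.testBit (gIdx p) <;> simp_all

/-! ### Certified class and candidate lemmas -/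

/-- Class check for one element: if the `n`-th power is trivial and the `k`-th is not, the
`k`-th power is conjugate to `a` by an element of the list. -/
def clsB (aP k n : ℕ) (CJ : List ℕ) (f : ℕ → ℕ) : Bool :=
  !(powB f n) || (powB f k || CJ.any (fun c => conjF c aP (f^[k])))

theorem cls_gen {H : Subgroup (Equiv.Perm GolayPt)} {aP k n : ℕ} {CJ : List ℕ}
    (henum : ∀ g ∈ H, ∃ f, IdxF g f ∧ clsB aP k n CJ f = true)
    (hCJ : ∀ c ∈ CJ, svalid c = true ∧ lperm c ∈ H) (ha : svalid aP = true)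
    {x : Equiv.Perm GolayPt} (hx : x ∈ H) (hn : x ^ n = 1) (hk : x ^ k ≠ 1) :
    ∃ c ∈ H, c * lperm aP = x ^ k * c := by
  obtain ⟨f, hf, hc⟩ := henum x hx
  have h1 : powB f n = true := (IdxF_powB hf n).mpr hn
  have h2 : powB f k = false := by
    by_contra h
    rw [Bool.not_eq_false] at h
    exact hk ((IdxF_powB hf k).mp h)
  simp only [clsB, h1, h2, Bool.not_true, Bool.false_or] at hc
  obtain ⟨c, hcL, hcc⟩ := List.any_eq_true.mp hc
  obtain ⟨hcv, hcH⟩ := hCJ c hcL
  exact ⟨lperm c, hcH, conjF_sound hcv ha (IdxF_pow hf k) hcc⟩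

/-- Candidate check for one element: if the relations with `a` hold, it is conjugate to `b` or
to `b1` by an element of the list. -/
def cndB (aP bP b1P : ℕ) (R : RelL) (CL : List ℕ) (f : ℕ → ℕ) : Bool :=
  !(relB (sv aP) f R) || CL.any (fun c => conjF c bP f || conjF c b1P f)

theorem cand_gen {H : Subgroup (Equiv.Perm GolayPt)} {aP bP b1P : ℕ} {R : RelL} {CL : List ℕ}
    (henum : ∀ g ∈ H, ∃ f, IdxF g f ∧ cndB aP bP b1P R CL f = true)
    (hCL : ∀ c ∈ CL, svalid c = true ∧ lperm c ∈ H ∧ lperm c * lperm aP = lperm aP * lperm c)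
    (ha : svalid aP = true) (hb : svalid bP = true) (hb1 : svalid b1P = true)
    {y : Equiv.Perm GolayPt} (hy : y ∈ H) (hR : RelP (lperm aP) y R) :
    ∃ c ∈ H, c * lperm aP = lperm aP * c ∧ (c * lperm bP = y * c ∨ c * lperm b1P = y * c) := by
  obtain ⟨f, hf, hc⟩ := henum y hy
  have h1 : relB (sv aP) f R = true := relB_of_RelP (IdxF_lp ha) hf R hR
  simp only [cndB, h1, Bool.not_true, Bool.false_or] at hc
  obtain ⟨c, hcL, hcc⟩ := List.any_eq_true.mp hc
  obtain ⟨hcv, hcH, hca⟩ := hCL c hcL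
  rw [Bool.or_eq_true] at hcc
  refine ⟨lperm c, hcH, hca, ?_⟩
  rcases hcc with h | h
  · exact Or.inl (conjF_sound hcv hb hf h)
  · exact Or.inr (conjF_sound hcv hb1 hf h)

/-! ### Straight-line programs and the descent along a base -/

/-- The packed permutation `s` is a valid element of the group fixed by `ψ`. -/
def FixG {H : Subgroup (Equiv.Perm GolayPt)} (ψ : ↥H →* ↥H) (s : ℕ) : Prop :=
  svalid s = true ∧ ∃ x : ↥H, (x : Equiv.Perm GolayPt) = lperm s ∧ ψ x = x

theorem FixG_mul {H : Subgroup (Equiv.Perm GolayPt)} {ψ : ↥H →* ↥H} (r s t : ℕ)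
    (hr : svalid r = true) (hs : FixG ψ s) (ht : FixG ψ t) (h : prB r s t = true) :
    FixG ψ r := by
  obtain ⟨hsv, x, ex, hx⟩ := hs
  obtain ⟨htv, y, ey, hy⟩ := ht
  refine ⟨hr, x * y, ?_, ?_⟩
  · rw [prB_sound hr hsv htv h, ← ex, ← ey]
    rfl
  · rw [map_mul, hx, hy]

theorem FixG_slp {H : Subgroup (Equiv.Perm GolayPt)} {ψ : ↥H →* ↥H} {a b : ℕ}
    (ha : FixG ψ a) (hb : FixG ψ b) {L : List (ℕ × ℕ × ℕ)} (hL : slpB a b L = true) :
    ∀ e ∈ L, FixG ψ e.1 :=
  slpB_sound ha hb (fun r s t => FixG_mul r s t) L hL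

/-- Level check: every index of `O` is the image of `p` under an entry of the program fixing
the indices of `B`. -/
def lvB (B : List ℕ) (p : ℕ) (O : List ℕ) (L : List (ℕ × ℕ × ℕ)) : Bool :=
  O.all (fun j => L.any (fun e => B.all (fun i => Nat.beq (sv e.1 i) i) && Nat.beq (sv e.1 p) j))

theorem desc_gen {H : Subgroup (Equiv.Perm GolayPt)} {ψ : ↥H →* ↥H} {L : List (ℕ × ℕ × ℕ)}
    (hS : ∀ e ∈ L, FixG ψ e.1) (B : List ℕ) (hB : ∀ i ∈ B, i < 24) (p : ℕ) (hp : p < 24)
    (O : List ℕ)
    (hO : ∀ g : ↥H, (∀ i ∈ B, (g : Equiv.Perm GolayPt) (gPt i) = gPt i) →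
      gIdx ((g : Equiv.Perm GolayPt) (gPt p)) ∈ O)
    (hl : lvB B p O L = true)
    (hnext : ∀ g : ↥H, (∀ i ∈ p :: B, (g : Equiv.Perm GolayPt) (gPt i) = gPt i) → ψ g = g)
    (g : ↥H) (hg : ∀ i ∈ B, (g : Equiv.Perm GolayPt) (gPt i) = gPt i) : ψ g = g := by
  have h := List.all_eq_true.mp hl _ (hO g hg)
  obtain ⟨e, he, hw⟩ := List.any_eq_true.mp h
  rw [Bool.and_eq_true] at hw
  obtain ⟨hw1, hw2⟩ := hw
  obtain ⟨hv, x, ex, hx⟩ := hS e he
  have hfixx : ∀ i ∈ B, (x : Equiv.Perm GolayPt) (gPt i) = gPt i := by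
    intro i hi
    rw [ex, lperm_apply hv, gIdx_gPt (hB i hi),
      Nat.eq_of_beq_eq_true (List.all_eq_true.mp hw1 i hi)]
  have hxp : (x : Equiv.Perm GolayPt) (gPt p) = (g : Equiv.Perm GolayPt) (gPt p) := by
    rw [ex, lperm_apply hv, gIdx_gPt hp, Nat.eq_of_beq_eq_true hw2, gPt_gIdx]
  have h' : ψ (x⁻¹ * g) = x⁻¹ * g := by
    apply hnext
    intro i hi
    show ((x : Equiv.Perm GolayPt)⁻¹ * (g : Equiv.Perm GolayPt)) (gPt i) = gPt i
    rw [Equiv.Perm.mul_apply, Equiv.Perm.inv_eq_iff_eq]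
    rcases List.mem_cons.mp hi with rfl | hi'
    · exact hxp.symm
    · rw [hg i hi', hfixx i hi']
  have e2 : g = x * (x⁻¹ * g) := by group
  rw [e2, map_mul, hx, h']

/-! ### The abstract argument -/

/-- Conjugate subgroups are isomorphic. -/
def conjIsoG {G : Type*} [Group G] {A B : Subgroup G} (g : G)
    (h : ∀ k : G, k ∈ A ↔ g⁻¹ * k * g ∈ B) : ↥A ≃* ↥B where
  toFun k := ⟨g⁻¹ * (k : G) * g, (h k.1).mp k.2⟩
  invFun x := ⟨g * (x : G) * g⁻¹, (h _).mpr (by
      have e : g⁻¹ * (g * (x : G) * g⁻¹) * g = x := by group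
      rw [e]
      exact x.2)⟩
  left_inv k := by
    apply Subtype.ext
    show g * (g⁻¹ * (k : G) * g) * g⁻¹ = _
    group
  right_inv x := by
    apply Subtype.ext
    show g⁻¹ * (g * (x : G) * g⁻¹) * g = _
    group
  map_mul' k l := by
    apply Subtype.ext
    show g⁻¹ * ((k : G) * (l : G)) * g = (g⁻¹ * (k : G) * g) * (g⁻¹ * (l : G) * g)
    group

theorem conjIsoG_apply {G : Type*} [Group G] {A B : Subgroup G} (g : G)
    (h : ∀ k : G, k ∈ A ↔ g⁻¹ * k * g ∈ B) (k : ↥A) :
    ((conjIsoG g h k : ↥B) : G) = g⁻¹ * (k : G) * g := rfl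

/-- The automorphisms of a group from a class lemma for `a`, a candidate lemma for the images of
`b`, and a generation lemma: every automorphism is inner, or inner times `τ`. -/
theorem aut_classify {G : Type*} [Group G] (a b b1 : G) (τ : MulAut G)
    (hcls : ∀ α : MulAut G, ∃ c : G, c * a = α a * c)
    (hcand : ∀ β : MulAut G, β a = a →
      ∃ c : G, c * a = a * c ∧ (c * b = β b * c ∨ c * b1 = β b * c))
    (hgen : ∀ ψ : G →* G, ψ a = a → ψ b = b → ∀ g, ψ g = g)
    (hτa : τ a = a) (hτb : τ b = b1) (α : MulAut G) :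
    (∃ g : G, α = MulAut.conj g) ∨ ∃ g : G, α = MulAut.conj g * τ := by
  obtain ⟨c1, hc1⟩ := hcls α
  have hβa : (MulAut.conj c1⁻¹ * α) a = a := by
    rw [MulAut.mul_apply, MulAut.conj_apply, inv_inv, mul_assoc, ← hc1, ← mul_assoc,
      inv_mul_cancel, one_mul]
  obtain ⟨c2, hc2a, hc2b⟩ := hcand (MulAut.conj c1⁻¹ * α) hβa
  have hc2a' : c2⁻¹ * a * c2 = a := by
    rw [mul_assoc, ← hc2a, ← mul_assoc, inv_mul_cancel, one_mul]
  rcases hc2b with hb | hb
  · left
    have hγa : (MulAut.conj c2⁻¹ * (MulAut.conj c1⁻¹ * α)) a = a := by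
      rw [MulAut.mul_apply, hβa, MulAut.conj_apply, inv_inv, hc2a']
    have hγb : (MulAut.conj c2⁻¹ * (MulAut.conj c1⁻¹ * α)) b = b := by
      rw [MulAut.mul_apply, MulAut.conj_apply, inv_inv, mul_assoc, ← hb, ← mul_assoc,
        inv_mul_cancel, one_mul]
    have hγ := hgen (MulEquiv.toMonoidHom (MulAut.conj c2⁻¹ * (MulAut.conj c1⁻¹ * α))) hγa hγb
    refine ⟨c1 * c2, ?_⟩
    ext g
    have h := hγ g
    have h' : c2⁻¹ * (c1⁻¹ * α g * c1⁻¹⁻¹) * c2⁻¹⁻¹ = g := h
    rw [MulAut.conj_apply]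
    have e : c1 * c2 * (c2⁻¹ * (c1⁻¹ * α g * c1⁻¹⁻¹) * c2⁻¹⁻¹) * (c1 * c2)⁻¹ = α g := by group
    rw [← e, h']
  · right
    have hγa : (τ⁻¹ * (MulAut.conj c2⁻¹ * (MulAut.conj c1⁻¹ * α))) a = a := by
      rw [MulAut.mul_apply, MulAut.mul_apply, hβa, MulAut.conj_apply, inv_inv, hc2a']
      exact (MulEquiv.symm_apply_eq τ).mpr hτa.symm
    have hγb : (τ⁻¹ * (MulAut.conj c2⁻¹ * (MulAut.conj c1⁻¹ * α))) b = b := by
      rw [MulAut.mul_apply, MulAut.mul_apply, MulAut.conj_apply, inv_inv, mul_assoc, ← hb,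
        ← mul_assoc, inv_mul_cancel, one_mul]
      exact (MulEquiv.symm_apply_eq τ).mpr hτb.symm
    have hγ := hgen (MulEquiv.toMonoidHom (τ⁻¹ * (MulAut.conj c2⁻¹ * (MulAut.conj c1⁻¹ * α))))
      hγa hγb
    refine ⟨c1 * c2, ?_⟩
    ext g
    have h := hγ g
    have h' : τ⁻¹ (c2⁻¹ * (c1⁻¹ * α g * c1⁻¹⁻¹) * c2⁻¹⁻¹) = g := h
    have h'' : c2⁻¹ * (c1⁻¹ * α g * c1⁻¹⁻¹) * c2⁻¹⁻¹ = τ g := by
      have e3 := congrArg τ h'
      rw [MulAut.apply_inv_self] at e3
      exact e3
    rw [MulAut.mul_apply, MulAut.conj_apply, ← h'']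
    group

/-- If every automorphism is inner or inner times `τ`, and `τ` is not inner, then the outer
automorphism group has order two. -/
theorem out_card_two {G : Type*} [Group G] (τ : MulAut G)
    (h : ∀ α : MulAut G, (∃ g : G, α = MulAut.conj g) ∨ ∃ g : G, α = MulAut.conj g * τ)
    (hτ : ¬ ∃ g : G, τ = MulAut.conj g) : Nat.card (Cfsg.Out G) = 2 := by
  have h2 : (Cfsg.Inn G).index = 2 := by
    rw [Subgroup.index_eq_two_iff_exists_notMem_and]
    refine ⟨τ⁻¹, ?_, ?_⟩
    · intro hm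
      obtain ⟨g, hg⟩ := inv_mem hm
      rw [inv_inv] at hg
      exact hτ ⟨g, hg.symm⟩
    · intro β
      rcases h β with ⟨g, hg⟩ | ⟨g, hg⟩
      · exact Or.inr ⟨g, hg.symm⟩
      · left
        refine ⟨g, ?_⟩
        rw [hg, mul_inv_cancel_right]
  exact h2

/-- If every automorphism is inner, the outer automorphism group is trivial. -/
theorem out_card_one_of_inner {G : Type*} [Group G]
    (h : ∀ α : MulAut G, ∃ g : G, α = MulAut.conj g) : Nat.card (Cfsg.Out G) = 1 := by
  have h1 : Cfsg.Inn G = ⊤ := by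
    rw [eq_top_iff]
    intro α _
    obtain ⟨g, hg⟩ := h α
    exact ⟨g, hg.symm⟩
  have h2 : (Cfsg.Inn G).index = 1 := Subgroup.index_eq_one.mpr h1
  exact h2

/-- Innerness-or-`τ` is transported along an isomorphism. -/
theorem out_card_transport {G H : Type*} [Group G] [Group H] (e : G ≃* H) :
    Nat.card (Cfsg.Out G) = Nat.card (Cfsg.Out H) := by
  let φ : MulAut G ≃* MulAut H :=
    { toFun := fun α => (e.symm.trans α).trans e
      invFun := fun β => (e.trans β).trans e.symm
      left_inv := fun α => by ext x; simp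
      right_inv := fun β => by ext x; simp
      map_mul' := fun α β => by ext x; simp [MulAut.mul_apply] }
  have hφ : ∀ α : MulAut G, α ∈ Cfsg.Inn G ↔ φ α ∈ Cfsg.Inn H := by
    intro α
    constructor
    · rintro ⟨g, rfl⟩
      refine ⟨e g, ?_⟩
      ext x
      show e g * x * (e g)⁻¹ = e (g * e.symm x * g⁻¹)
      rw [map_mul, map_mul, map_inv, MulEquiv.apply_symm_apply]
    · rintro ⟨h, hh⟩
      refine ⟨e.symm h, ?_⟩
      ext x
      have h1 := DFunLike.congr_fun hh (e x)
      have h2 : h * e x * h⁻¹ = e (α (e.symm (e x))) := h1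
      rw [MulEquiv.symm_apply_apply] at h2
      show e.symm h * x * (e.symm h)⁻¹ = α x
      apply e.injective
      rw [← h2, map_mul, map_mul, map_inv, MulEquiv.apply_symm_apply]
  have h1 : (Cfsg.Inn G).index = (Cfsg.Inn H).index := by
    have h2 : Cfsg.Inn G = (Cfsg.Inn H).comap φ.toMonoidHom := by
      ext α
      exact hφ α
    rw [h2]
    exact Subgroup.index_comap_of_surjective _ φ.surjective
  exact h1

end Cfsg.Agent.H34
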