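import Mathlib

/-!
# Bit masks for finite sets (helper34 library)

A finite set of points of a type `α` with a numbering `e : α ≃ Fin n` is encoded by the natural
number whose binary digits are the indicator function. The lemmas here translate statements about
finsets into statements about masks, which the kernel evaluates quickly.
-/

set_option autoImplicit false
set_option linter.unusedSectionVars false

namespace Cfsg.Agent.H34

/-- Population count of the lowest `n` bits. -/
def popc : ℕ → ℕ → ℕ
  | 0, _ => 0
  | k + 1, m => m % 2 + popc k (m / 2)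

theorem card_filter_testBit (n m : ℕ) :
    (Finset.univ.filter fun i : Fin n => m.testBit i = true).card = popc n m := by
  induction n generalizing m with
  | zero => simp [popc]
  | succ k ih =>
    rw [Finset.card_filter, Fin.sum_univ_succ]
    have h1 : ∀ i : Fin k, m.testBit ((i.succ : Fin (k+1)) : ℕ) = (m / 2).testBit (i : ℕ) := by
      intro i
      rw [Fin.val_succ, Nat.testBit_succ]
    simp only [h1]
    rw [← Finset.card_filter, ih, popc]
    congr 1
    simp only [Fin.val_zero, Nat.testBit_zero, decide_eq_true_eq]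
    rcases Nat.mod_two_eq_zero_or_one m with h | h <;> simp [h]

section
variable {α : Type*} [Fintype α] [DecidableEq α] {n : ℕ}

/-- The finite set with mask `m`. -/
def ofMask (e : α ≃ Fin n) (m : ℕ) : Finset α :=
  Finset.univ.filter fun p => m.testBit (e p) = true

/-- The mask of a finite set. -/
def toMask (e : α ≃ Fin n) (s : Finset α) : ℕ :=
  ∑ i ∈ s.map (e.toEmbedding.trans Fin.valEmbedding), 2 ^ i

@[simp] theorem mem_ofMask (e : α ≃ Fin n) (m : ℕ) (p : α) :
    p ∈ ofMask e m ↔ m.testBit (e p) = true := by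
  simp [ofMask]

theorem testBit_toMask (e : α ≃ Fin n) (s : Finset α) (p : α) :
    (toMask e s).testBit (e p) = true ↔ p ∈ s := by
  unfold toMask
  rw [← Nat.mem_bitIndices, ← List.mem_toFinset, Finset.toFinset_bitIndices_sum_two_pow]
  simp only [Finset.mem_map, Function.Embedding.trans_apply, Equiv.coe_toEmbedding,
    Fin.valEmbedding_apply]
  constructor
  · rintro ⟨q, hq, h⟩
    have : q = p := e.injective (Fin.ext h)
    exact this ▸ hq
  · intro h
    exact ⟨p, h, rfl⟩

theorem ofMask_toMask (e : α ≃ Fin n) (s : Finset α) : ofMask e (toMask e s) = s := by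
  ext p
  rw [mem_ofMask, testBit_toMask]

theorem toMask_lt (e : α ≃ Fin n) (s : Finset α) : toMask e s < 2 ^ n := by
  unfold toMask
  apply Nat.geomSum_lt le_rfl
  intro k hk
  simp only [Finset.mem_map, Function.Embedding.trans_apply, Equiv.coe_toEmbedding,
    Fin.valEmbedding_apply] at hk
  obtain ⟨q, -, rfl⟩ := hk
  exact (e q).isLt

theorem exists_mask (e : α ≃ Fin n) (s : Finset α) : ∃ m, m < 2 ^ n ∧ s = ofMask e m :=
  ⟨toMask e s, toMask_lt e s, (ofMask_toMask e s).symm⟩

theorem ofMask_and (e : α ≃ Fin n) (a b : ℕ) :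
    ofMask e (a &&& b) = ofMask e a ∩ ofMask e b := by
  ext p
  simp [Nat.testBit_and]

theorem ofMask_or (e : α ≃ Fin n) (a b : ℕ) :
    ofMask e (a ||| b) = ofMask e a ∪ ofMask e b := by
  ext p
  simp [Nat.testBit_or]

theorem ofMask_xor (e : α ≃ Fin n) (a b : ℕ) :
    ofMask e (a ^^^ b) = symmDiff (ofMask e a) (ofMask e b) := by
  ext p
  simp only [mem_ofMask, Nat.testBit_xor, Finset.mem_symmDiff]
  cases a.testBit (e p) <;> cases b.testBit (e p) <;> simp

theorem ofMask_zero (e : α ≃ Fin n) : ofMask e 0 = ∅ := by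
  ext p
  simp

theorem card_ofMask (e : α ≃ Fin n) (m : ℕ) : (ofMask e m).card = popc n m := by
  rw [← card_filter_testBit n m]
  have : (Finset.univ.filter fun i : Fin n => m.testBit i = true)
      = (ofMask e m).map e.toEmbedding := by
    ext i
    simp only [Finset.mem_filter, Finset.mem_univ, true_and, Finset.mem_map,
      Equiv.coe_toEmbedding, mem_ofMask]
    constructor
    · intro h
      exact ⟨e.symm i, by simpa using h, by simp⟩
    · rintro ⟨p, hp, rfl⟩
      exact hp
  rw [this, Finset.card_map]

/-- Masks below `2 ^ n` are determined by their finsets. -/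
theorem ofMask_inj (e : α ≃ Fin n) {a b : ℕ} (ha : a < 2 ^ n) (hb : b < 2 ^ n)
    (h : ofMask e a = ofMask e b) : a = b := by
  apply Nat.eq_of_testBit_eq
  intro i
  by_cases hi : i < n
  · have := congrArg (fun s => decide (e.symm ⟨i, hi⟩ ∈ s)) h
    simp only [mem_ofMask, Equiv.apply_symm_apply] at this
    cases h1 : a.testBit i <;> cases h2 : b.testBit i <;> simp_all
  · have hi' : n ≤ i := not_lt.mp hi
    rw [Nat.testBit_lt_two_pow (lt_of_lt_of_le ha (Nat.pow_le_pow_right (by norm_num) hi')),
      Nat.testBit_lt_two_pow (lt_of_lt_of_le hb (Nat.pow_le_pow_right (by norm_num) hi'))]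

theorem ofMask_subset_iff (e : α ≃ Fin n) {a : ℕ} (b : ℕ) (ha : a < 2 ^ n) :
    ofMask e a ⊆ ofMask e b ↔ a &&& b = a := by
  constructor
  · intro h
    apply ofMask_inj e (lt_of_le_of_lt Nat.and_le_left ha) ha
    rw [ofMask_and]
    exact Finset.inter_eq_left.mpr h
  · intro h
    rw [← h, ofMask_and]
    exact Finset.inter_subset_right

theorem ofMask_eq_iff (e : α ≃ Fin n) {a b : ℕ} (ha : a < 2 ^ n) (hb : b < 2 ^ n) :
    ofMask e a = ofMask e b ↔ a = b :=
  ⟨ofMask_inj e ha hb, fun h => h ▸ rfl⟩

theorem disjoint_ofMask_iff (e : α ≃ Fin n) {a : ℕ} (b : ℕ) (ha : a < 2 ^ n) :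
    Disjoint (ofMask e a) (ofMask e b) ↔ a &&& b = 0 := by
  rw [Finset.disjoint_iff_inter_eq_empty, ← ofMask_and, ← ofMask_zero e]
  exact ofMask_eq_iff e (lt_of_le_of_lt Nat.and_le_left ha) (Nat.two_pow_pos n)

end

end Cfsg.Agent.H34

namespace Cfsg.Agent.H34

/-- Bounded quantification from a kernel-friendly list check. -/
theorem forall_lt_of_all {n : ℕ} {P : ℕ → Prop} [DecidablePred P]
    (h : (List.range n).all (fun m => decide (P m)) = true) : ∀ m, m < n → P m := by
  intro m hm
  have := List.all_eq_true.mp h m (List.mem_range.mpr hm)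
  exact of_decide_eq_true this

/-- Quantification over a list from a kernel-friendly check. -/
theorem forall_mem_of_all {α : Type*} {L : List α} {P : α → Prop} [DecidablePred P]
    (h : L.all (fun m => decide (P m)) = true) : ∀ m ∈ L, P m := by
  intro m hm
  exact of_decide_eq_true (List.all_eq_true.mp h m hm)

end Cfsg.Agent.H34
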