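import Mathlib

/-!
# The parity of a structure constant of a class algebra (helper34 library)

For a subset `C` of a finite group closed under conjugation and `g = a * a * g * (a * a)⁻¹`
with `a` commuting with `g` and `a * a * g` of order a power of `2`, the number of `x ∈ C` with
`x⁻¹ * g ∈ C` has the parity of the number of `w` with `w * w = a * a * g` and `a⁻¹ * w ∈ C`:
the map `x ↦ a⁻¹ * x⁻¹ * a * g` has order a power of `2` on the first set.
-/

set_option autoImplicit false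

namespace Cfsg.Agent.H34

theorem sq_parity {G : Type*} [Group G] [Finite G] (C : G → Prop)
    (hC : ∀ x u : G, C x → C (u * x * u⁻¹)) (g a : G) (hag : a * g = g * a) (n : ℕ)
    (hc : (a * a * g) ^ (2 ^ n) = 1) :
    Nat.card {x : G // C x ∧ C (x⁻¹ * g)} ≡
      Nat.card {w : G // w * w = a * a * g ∧ C (a⁻¹ * w)} [MOD 2] := by
  classical
  haveI : Fintype G := Fintype.ofFinite G
  have hτ : ∀ x : {x : G // C x ∧ C (x⁻¹ * g)},
      C (a⁻¹ * x.1⁻¹ * a * g) ∧ C ((a⁻¹ * x.1⁻¹ * a * g)⁻¹ * g) := by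
    intro x
    constructor
    · have h1 := hC _ a⁻¹ x.2.2
      have e : a⁻¹ * (x.1⁻¹ * g) * a⁻¹⁻¹ = a⁻¹ * x.1⁻¹ * a * g := by
        rw [inv_inv]
        simp only [mul_assoc]
        rw [hag]
      rwa [e] at h1
    · have h1 := hC _ (a * g)⁻¹ x.2.1
      have e : (a * g)⁻¹ * x.1 * (a * g)⁻¹⁻¹ = (a⁻¹ * x.1⁻¹ * a * g)⁻¹ * g := by
        group
      rwa [e] at h1
  let f : Function.End {x : G // C x ∧ C (x⁻¹ * g)} := fun x => ⟨a⁻¹ * x.1⁻¹ * a * g, hτ x⟩
  have hinv : a⁻¹ * g⁻¹ = g⁻¹ * a⁻¹ := by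
    rw [← mul_inv_rev, ← mul_inv_rev, hag]
  obtain ⟨c, hcdef⟩ : ∃ c : G, c = a * a * g := ⟨_, rfl⟩
  have hff : ∀ x : {x : G // C x ∧ C (x⁻¹ * g)}, ((f * f) x).1 = c⁻¹ * x.1 * c := by
    intro x
    show a⁻¹ * (a⁻¹ * x.1⁻¹ * a * g)⁻¹ * a * g = c⁻¹ * x.1 * c
    rw [hcdef]
    simp only [mul_inv_rev, inv_inv, mul_assoc]
    rw [← mul_assoc a⁻¹ g⁻¹, hinv, mul_assoc]
  have hpow : ∀ m : ℕ, ∀ x : {x : G // C x ∧ C (x⁻¹ * g)},
      (((f * f) ^ m) x).1 = (c ^ m)⁻¹ * x.1 * c ^ m := by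
    intro m
    induction m with
    | zero =>
      intro x
      have e0 : ((f * f) ^ 0) x = x := rfl
      rw [e0]
      simp
    | succ m ih =>
      intro x
      have e1 : ((f * f) ^ (m + 1)) x = ((f * f) ^ m) ((f * f) x) := by
        rw [pow_succ]
        rfl
      rw [e1, ih, hff, pow_succ']
      simp only [mul_inv_rev, mul_assoc]
  have hf : f ^ 2 ^ (n + 1) = 1 := by
    funext x
    apply Subtype.ext
    have e1 : f ^ 2 ^ (n + 1) = (f * f) ^ 2 ^ n := by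
      rw [pow_succ, pow_mul', pow_two]
    rw [e1, hpow, hcdef, hc]
    have e0 : (1 : Function.End {x : G // C x ∧ C (x⁻¹ * g)}) x = x := rfl
    rw [e0]
    simp
  have key := Equiv.Perm.card_fixedPoints_modEq (p := 2) (n := n + 1) hf
  rw [Nat.card_eq_fintype_card]
  have e2 : Nat.card {w : G // w * w = a * a * g ∧ C (a⁻¹ * w)} =
      Fintype.card (Function.fixedPoints f) := by
    rw [← Nat.card_eq_fintype_card]
    symm
    have hmap : ∀ x : Function.fixedPoints f,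
        (a * x.1.1) * (a * x.1.1) = a * a * g ∧ C (a⁻¹ * (a * x.1.1)) := by
      intro x
      have hx : a⁻¹ * x.1.1⁻¹ * a * g = x.1.1 := congrArg Subtype.val x.2
      have h1 : x.1.1⁻¹ * a * g = a * x.1.1 := by
        have h : a * (a⁻¹ * x.1.1⁻¹ * a * g) = a * x.1.1 := congrArg (fun y => a * y) hx
        rw [← h]
        group
      constructor
      · calc a * x.1.1 * (a * x.1.1) = a * x.1.1 * (x.1.1⁻¹ * a * g) := by rw [h1]
          _ = a * a * g := by group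
      · rw [inv_mul_cancel_left]
        exact x.1.2.1
    apply Nat.card_congr
    refine Equiv.ofBijective (fun x => ⟨a * x.1.1, hmap x⟩) ⟨?_, ?_⟩
    · intro x y h
      have h1 : a * x.1.1 = a * y.1.1 := congrArg Subtype.val h
      exact Subtype.ext (Subtype.ext (mul_left_cancel h1))
    · rintro ⟨w, hw1, hw2⟩
      have e3 : (a⁻¹ * w)⁻¹ * g = a * (a⁻¹ * w) * a⁻¹ := by
        have h2 : w * ((a⁻¹ * w)⁻¹ * g) = w * (a * (a⁻¹ * w) * a⁻¹) := by
          have h3 : w * (a * (a⁻¹ * w) * a⁻¹) = w * w * a⁻¹ := by group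
          rw [h3, hw1]
          have h4 : a * a * g * a⁻¹ = a * (a * g) * a⁻¹ := by group
          rw [h4, hag]
          group
        exact mul_left_cancel h2
      have hxF : C (a⁻¹ * w) ∧ C ((a⁻¹ * w)⁻¹ * g) := ⟨hw2, by rw [e3]; exact hC _ a hw2⟩
      have hfix : f ⟨a⁻¹ * w, hxF⟩ = ⟨a⁻¹ * w, hxF⟩ := by
        apply Subtype.ext
        show a⁻¹ * (a⁻¹ * w)⁻¹ * a * g = a⁻¹ * w
        have h5 : a⁻¹ * (a⁻¹ * w)⁻¹ * a * g = a⁻¹ * w⁻¹ * (a * a * g) := by group
        rw [h5, ← hw1]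
        group
      refine ⟨⟨⟨a⁻¹ * w, hxF⟩, hfix⟩, ?_⟩
      apply Subtype.ext
      show a * (a⁻¹ * w) = w
      group
  rw [e2]
  convert key

end Cfsg.Agent.H34
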