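import Cfsg.Agent.H34.BlkCls

/-!
# The passes over the elements of `M22`, part 0 (helper34 library)

Kernel evaluations: every element `s * r2 * r1` with `r1` the element number 0 of the first
transversal has a class and separates the twin classes; the xor of the contributions of
the square roots.
-/

set_option autoImplicit false
set_option Elab.async false

namespace Cfsg.Agent.H34

open Cfsg Cfsg.Agent.H9

theorem bk_T_0_0 : blockT (mid 0 0) = true := by decide +kernel

theorem bk_N_0_0 : blockN (mid 0 0) = cN 0 0 := by decide +kernel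

theorem bk_T_0_1 : blockT (mid 0 1) = true := by decide +kernel

theorem bk_N_0_1 : blockN (mid 0 1) = cN 0 1 := by decide +kernel

theorem bk_T_0_2 : blockT (mid 0 2) = true := by decide +kernel

theorem bk_N_0_2 : blockN (mid 0 2) = cN 0 2 := by decide +kernel

theorem bk_T_0_3 : blockT (mid 0 3) = true := by decide +kernel

theorem bk_N_0_3 : blockN (mid 0 3) = cN 0 3 := by decide +kernel

theorem bk_T_0_4 : blockT (mid 0 4) = true := by decide +kernel

theorem bk_N_0_4 : blockN (mid 0 4) = cN 0 4 := by decide +kernel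

theorem bk_T_0_5 : blockT (mid 0 5) = true := by decide +kernel

theorem bk_N_0_5 : blockN (mid 0 5) = cN 0 5 := by decide +kernel

theorem bk_T_0_6 : blockT (mid 0 6) = true := by decide +kernel

theorem bk_N_0_6 : blockN (mid 0 6) = cN 0 6 := by decide +kernel

theorem bk_T_0_7 : blockT (mid 0 7) = true := by decide +kernel

theorem bk_N_0_7 : blockN (mid 0 7) = cN 0 7 := by decide +kernel

theorem bk_T_0_8 : blockT (mid 0 8) = true := by decide +kernel

theorem bk_N_0_8 : blockN (mid 0 8) = cN 0 8 := by decide +kernel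

theorem bk_T_0_9 : blockT (mid 0 9) = true := by decide +kernel

theorem bk_N_0_9 : blockN (mid 0 9) = cN 0 9 := by decide +kernel

theorem bk_T_0_10 : blockT (mid 0 10) = true := by decide +kernel

theorem bk_N_0_10 : blockN (mid 0 10) = cN 0 10 := by decide +kernel

theorem bk_T_0_11 : blockT (mid 0 11) = true := by decide +kernel

theorem bk_N_0_11 : blockN (mid 0 11) = cN 0 11 := by decide +kernel

theorem bk_T_0_12 : blockT (mid 0 12) = true := by decide +kernel

theorem bk_N_0_12 : blockN (mid 0 12) = cN 0 12 := by decide +kernel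

theorem bk_T_0_13 : blockT (mid 0 13) = true := by decide +kernel

theorem bk_N_0_13 : blockN (mid 0 13) = cN 0 13 := by decide +kernel

theorem bk_T_0_14 : blockT (mid 0 14) = true := by decide +kernel

theorem bk_N_0_14 : blockN (mid 0 14) = cN 0 14 := by decide +kernel

theorem bk_T_0_15 : blockT (mid 0 15) = true := by decide +kernel

theorem bk_N_0_15 : blockN (mid 0 15) = cN 0 15 := by decide +kernel

theorem bk_T_0_16 : blockT (mid 0 16) = true := by decide +kernel

theorem bk_N_0_16 : blockN (mid 0 16) = cN 0 16 := by decide +kernel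

theorem bk_T_0_17 : blockT (mid 0 17) = true := by decide +kernel

theorem bk_N_0_17 : blockN (mid 0 17) = cN 0 17 := by decide +kernel

theorem bk_T_0_18 : blockT (mid 0 18) = true := by decide +kernel

theorem bk_N_0_18 : blockN (mid 0 18) = cN 0 18 := by decide +kernel

theorem bk_T_0_19 : blockT (mid 0 19) = true := by decide +kernel

theorem bk_N_0_19 : blockN (mid 0 19) = cN 0 19 := by decide +kernel

theorem bk_T_0_20 : blockT (mid 0 20) = true := by decide +kernel

theorem bk_N_0_20 : blockN (mid 0 20) = cN 0 20 := by decide +kernel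

theorem bk_T_0 : ∀ k, k < 21 → blockT (mid 0 k) = true := by
  intro k hk
  interval_cases k
  · exact bk_T_0_0
  · exact bk_T_0_1
  · exact bk_T_0_2
  · exact bk_T_0_3
  · exact bk_T_0_4
  · exact bk_T_0_5
  · exact bk_T_0_6
  · exact bk_T_0_7
  · exact bk_T_0_8
  · exact bk_T_0_9
  · exact bk_T_0_10
  · exact bk_T_0_11
  · exact bk_T_0_12
  · exact bk_T_0_13
  · exact bk_T_0_14
  · exact bk_T_0_15
  · exact bk_T_0_16
  · exact bk_T_0_17
  · exact bk_T_0_18
  · exact bk_T_0_19
  · exact bk_T_0_20

theorem bk_N_0 : ∀ k, k < 21 → blockN (mid 0 k) = cN 0 k := by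
  intro k hk
  interval_cases k
  · exact bk_N_0_0
  · exact bk_N_0_1
  · exact bk_N_0_2
  · exact bk_N_0_3
  · exact bk_N_0_4
  · exact bk_N_0_5
  · exact bk_N_0_6
  · exact bk_N_0_7
  · exact bk_N_0_8
  · exact bk_N_0_9
  · exact bk_N_0_10
  · exact bk_N_0_11
  · exact bk_N_0_12
  · exact bk_N_0_13
  · exact bk_N_0_14
  · exact bk_N_0_15
  · exact bk_N_0_16
  · exact bk_N_0_17
  · exact bk_N_0_18
  · exact bk_N_0_19
  · exact bk_N_0_20

end Cfsg.Agent.H34
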