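import Cfsg.Agent.H34.BlkCls

/-!
# The passes over the elements of `M22`, part 1 (helper34 library)

Kernel evaluations: every element `s * r2 * r1` with `r1` the element number 1 of the first
transversal has a class and separates the twin classes; the xor of the contributions of
the square roots.
-/

set_option autoImplicit false
set_option Elab.async false

namespace Cfsg.Agent.H34

open Cfsg Cfsg.Agent.H9

theorem bk_T_1_0 : blockT (mid 1 0) = true := by decide +kernel

theorem bk_N_1_0 : blockN (mid 1 0) = cN 1 0 := by decide +kernel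

theorem bk_T_1_1 : blockT (mid 1 1) = true := by decide +kernel

theorem bk_N_1_1 : blockN (mid 1 1) = cN 1 1 := by decide +kernel

theorem bk_T_1_2 : blockT (mid 1 2) = true := by decide +kernel

theorem bk_N_1_2 : blockN (mid 1 2) = cN 1 2 := by decide +kernel

theorem bk_T_1_3 : blockT (mid 1 3) = true := by decide +kernel

theorem bk_N_1_3 : blockN (mid 1 3) = cN 1 3 := by decide +kernel

theorem bk_T_1_4 : blockT (mid 1 4) = true := by decide +kernel

theorem bk_N_1_4 : blockN (mid 1 4) = cN 1 4 := by decide +kernel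

theorem bk_T_1_5 : blockT (mid 1 5) = true := by decide +kernel

theorem bk_N_1_5 : blockN (mid 1 5) = cN 1 5 := by decide +kernel

theorem bk_T_1_6 : blockT (mid 1 6) = true := by decide +kernel

theorem bk_N_1_6 : blockN (mid 1 6) = cN 1 6 := by decide +kernel

theorem bk_T_1_7 : blockT (mid 1 7) = true := by decide +kernel

theorem bk_N_1_7 : blockN (mid 1 7) = cN 1 7 := by decide +kernel

theorem bk_T_1_8 : blockT (mid 1 8) = true := by decide +kernel

theorem bk_N_1_8 : blockN (mid 1 8) = cN 1 8 := by decide +kernel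

theorem bk_T_1_9 : blockT (mid 1 9) = true := by decide +kernel

theorem bk_N_1_9 : blockN (mid 1 9) = cN 1 9 := by decide +kernel

theorem bk_T_1_10 : blockT (mid 1 10) = true := by decide +kernel

theorem bk_N_1_10 : blockN (mid 1 10) = cN 1 10 := by decide +kernel

theorem bk_T_1_11 : blockT (mid 1 11) = true := by decide +kernel

theorem bk_N_1_11 : blockN (mid 1 11) = cN 1 11 := by decide +kernel

theorem bk_T_1_12 : blockT (mid 1 12) = true := by decide +kernel

theorem bk_N_1_12 : blockN (mid 1 12) = cN 1 12 := by decide +kernel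

theorem bk_T_1_13 : blockT (mid 1 13) = true := by decide +kernel

theorem bk_N_1_13 : blockN (mid 1 13) = cN 1 13 := by decide +kernel

theorem bk_T_1_14 : blockT (mid 1 14) = true := by decide +kernel

theorem bk_N_1_14 : blockN (mid 1 14) = cN 1 14 := by decide +kernel

theorem bk_T_1_15 : blockT (mid 1 15) = true := by decide +kernel

theorem bk_N_1_15 : blockN (mid 1 15) = cN 1 15 := by decide +kernel

theorem bk_T_1_16 : blockT (mid 1 16) = true := by decide +kernel

theorem bk_N_1_16 : blockN (mid 1 16) = cN 1 16 := by decide +kernel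

theorem bk_T_1_17 : blockT (mid 1 17) = true := by decide +kernel

theorem bk_N_1_17 : blockN (mid 1 17) = cN 1 17 := by decide +kernel

theorem bk_T_1_18 : blockT (mid 1 18) = true := by decide +kernel

theorem bk_N_1_18 : blockN (mid 1 18) = cN 1 18 := by decide +kernel

theorem bk_T_1_19 : blockT (mid 1 19) = true := by decide +kernel

theorem bk_N_1_19 : blockN (mid 1 19) = cN 1 19 := by decide +kernel

theorem bk_T_1_20 : blockT (mid 1 20) = true := by decide +kernel

theorem bk_N_1_20 : blockN (mid 1 20) = cN 1 20 := by decide +kernel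

theorem bk_T_1 : ∀ k, k < 21 → blockT (mid 1 k) = true := by
  intro k hk
  interval_cases k
  · exact bk_T_1_0
  · exact bk_T_1_1
  · exact bk_T_1_2
  · exact bk_T_1_3
  · exact bk_T_1_4
  · exact bk_T_1_5
  · exact bk_T_1_6
  · exact bk_T_1_7
  · exact bk_T_1_8
  · exact bk_T_1_9
  · exact bk_T_1_10
  · exact bk_T_1_11
  · exact bk_T_1_12
  · exact bk_T_1_13
  · exact bk_T_1_14
  · exact bk_T_1_15
  · exact bk_T_1_16
  · exact bk_T_1_17
  · exact bk_T_1_18
  · exact bk_T_1_19
  · exact bk_T_1_20

theorem bk_N_1 : ∀ k, k < 21 → blockN (mid 1 k) = cN 1 k := by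
  intro k hk
  interval_cases k
  · exact bk_N_1_0
  · exact bk_N_1_1
  · exact bk_N_1_2
  · exact bk_N_1_3
  · exact bk_N_1_4
  · exact bk_N_1_5
  · exact bk_N_1_6
  · exact bk_N_1_7
  · exact bk_N_1_8
  · exact bk_N_1_9
  · exact bk_N_1_10
  · exact bk_N_1_11
  · exact bk_N_1_12
  · exact bk_N_1_13
  · exact bk_N_1_14
  · exact bk_N_1_15
  · exact bk_N_1_16
  · exact bk_N_1_17
  · exact bk_N_1_18
  · exact bk_N_1_19
  · exact bk_N_1_20

end Cfsg.Agent.H34
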