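import Cfsg.Agent.H34.BlkCls

/-!
# The passes over the elements of `M22`, part 10 (helper34 library)

Kernel evaluations: every element `s * r2 * r1` with `r1` the element number 10 of the first
transversal has a class and separates the twin classes; the xor of the contributions of
the square roots.
-/

set_option autoImplicit false
set_option Elab.async false

namespace Cfsg.Agent.H34

open Cfsg Cfsg.Agent.H9

theorem bk_T_10_0 : blockT (mid 10 0) = true := by decide +kernel

theorem bk_N_10_0 : blockN (mid 10 0) = cN 10 0 := by decide +kernel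

theorem bk_T_10_1 : blockT (mid 10 1) = true := by decide +kernel

theorem bk_N_10_1 : blockN (mid 10 1) = cN 10 1 := by decide +kernel

theorem bk_T_10_2 : blockT (mid 10 2) = true := by decide +kernel

theorem bk_N_10_2 : blockN (mid 10 2) = cN 10 2 := by decide +kernel

theorem bk_T_10_3 : blockT (mid 10 3) = true := by decide +kernel

theorem bk_N_10_3 : blockN (mid 10 3) = cN 10 3 := by decide +kernel

theorem bk_T_10_4 : blockT (mid 10 4) = true := by decide +kernel

theorem bk_N_10_4 : blockN (mid 10 4) = cN 10 4 := by decide +kernel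

theorem bk_T_10_5 : blockT (mid 10 5) = true := by decide +kernel

theorem bk_N_10_5 : blockN (mid 10 5) = cN 10 5 := by decide +kernel

theorem bk_T_10_6 : blockT (mid 10 6) = true := by decide +kernel

theorem bk_N_10_6 : blockN (mid 10 6) = cN 10 6 := by decide +kernel

theorem bk_T_10_7 : blockT (mid 10 7) = true := by decide +kernel

theorem bk_N_10_7 : blockN (mid 10 7) = cN 10 7 := by decide +kernel

theorem bk_T_10_8 : blockT (mid 10 8) = true := by decide +kernel

theorem bk_N_10_8 : blockN (mid 10 8) = cN 10 8 := by decide +kernel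

theorem bk_T_10_9 : blockT (mid 10 9) = true := by decide +kernel

theorem bk_N_10_9 : blockN (mid 10 9) = cN 10 9 := by decide +kernel

theorem bk_T_10_10 : blockT (mid 10 10) = true := by decide +kernel

theorem bk_N_10_10 : blockN (mid 10 10) = cN 10 10 := by decide +kernel

theorem bk_T_10_11 : blockT (mid 10 11) = true := by decide +kernel

theorem bk_N_10_11 : blockN (mid 10 11) = cN 10 11 := by decide +kernel

theorem bk_T_10_12 : blockT (mid 10 12) = true := by decide +kernel

theorem bk_N_10_12 : blockN (mid 10 12) = cN 10 12 := by decide +kernel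

theorem bk_T_10_13 : blockT (mid 10 13) = true := by decide +kernel

theorem bk_N_10_13 : blockN (mid 10 13) = cN 10 13 := by decide +kernel

theorem bk_T_10_14 : blockT (mid 10 14) = true := by decide +kernel

theorem bk_N_10_14 : blockN (mid 10 14) = cN 10 14 := by decide +kernel

theorem bk_T_10_15 : blockT (mid 10 15) = true := by decide +kernel

theorem bk_N_10_15 : blockN (mid 10 15) = cN 10 15 := by decide +kernel

theorem bk_T_10_16 : blockT (mid 10 16) = true := by decide +kernel

theorem bk_N_10_16 : blockN (mid 10 16) = cN 10 16 := by decide +kernel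

theorem bk_T_10_17 : blockT (mid 10 17) = true := by decide +kernel

theorem bk_N_10_17 : blockN (mid 10 17) = cN 10 17 := by decide +kernel

theorem bk_T_10_18 : blockT (mid 10 18) = true := by decide +kernel

theorem bk_N_10_18 : blockN (mid 10 18) = cN 10 18 := by decide +kernel

theorem bk_T_10_19 : blockT (mid 10 19) = true := by decide +kernel

theorem bk_N_10_19 : blockN (mid 10 19) = cN 10 19 := by decide +kernel

theorem bk_T_10_20 : blockT (mid 10 20) = true := by decide +kernel

theorem bk_N_10_20 : blockN (mid 10 20) = cN 10 20 := by decide +kernel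

theorem bk_T_10 : ∀ k, k < 21 → blockT (mid 10 k) = true := by
  intro k hk
  interval_cases k
  · exact bk_T_10_0
  · exact bk_T_10_1
  · exact bk_T_10_2
  · exact bk_T_10_3
  · exact bk_T_10_4
  · exact bk_T_10_5
  · exact bk_T_10_6
  · exact bk_T_10_7
  · exact bk_T_10_8
  · exact bk_T_10_9
  · exact bk_T_10_10
  · exact bk_T_10_11
  · exact bk_T_10_12
  · exact bk_T_10_13
  · exact bk_T_10_14
  · exact bk_T_10_15
  · exact bk_T_10_16
  · exact bk_T_10_17
  · exact bk_T_10_18
  · exact bk_T_10_19
  · exact bk_T_10_20

theorem bk_N_10 : ∀ k, k < 21 → blockN (mid 10 k) = cN 10 k := by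
  intro k hk
  interval_cases k
  · exact bk_N_10_0
  · exact bk_N_10_1
  · exact bk_N_10_2
  · exact bk_N_10_3
  · exact bk_N_10_4
  · exact bk_N_10_5
  · exact bk_N_10_6
  · exact bk_N_10_7
  · exact bk_N_10_8
  · exact bk_N_10_9
  · exact bk_N_10_10
  · exact bk_N_10_11
  · exact bk_N_10_12
  · exact bk_N_10_13
  · exact bk_N_10_14
  · exact bk_N_10_15
  · exact bk_N_10_16
  · exact bk_N_10_17
  · exact bk_N_10_18
  · exact bk_N_10_19
  · exact bk_N_10_20

end Cfsg.Agent.H34
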