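import Cfsg.Agent.H34.BlkCls

/-!
# The passes over the elements of `M22`, part 11 (helper34 library)

Kernel evaluations: every element `s * r2 * r1` with `r1` the element number 11 of the first
transversal has a class and separates the twin classes; the xor of the contributions of
the square roots.
-/

set_option autoImplicit false
set_option Elab.async false

namespace Cfsg.Agent.H34

open Cfsg Cfsg.Agent.H9

theorem bk_T_11_0 : blockT (mid 11 0) = true := by decide +kernel

theorem bk_N_11_0 : blockN (mid 11 0) = cN 11 0 := by decide +kernel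

theorem bk_T_11_1 : blockT (mid 11 1) = true := by decide +kernel

theorem bk_N_11_1 : blockN (mid 11 1) = cN 11 1 := by decide +kernel

theorem bk_T_11_2 : blockT (mid 11 2) = true := by decide +kernel

theorem bk_N_11_2 : blockN (mid 11 2) = cN 11 2 := by decide +kernel

theorem bk_T_11_3 : blockT (mid 11 3) = true := by decide +kernel

theorem bk_N_11_3 : blockN (mid 11 3) = cN 11 3 := by decide +kernel

theorem bk_T_11_4 : blockT (mid 11 4) = true := by decide +kernel

theorem bk_N_11_4 : blockN (mid 11 4) = cN 11 4 := by decide +kernel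

theorem bk_T_11_5 : blockT (mid 11 5) = true := by decide +kernel

theorem bk_N_11_5 : blockN (mid 11 5) = cN 11 5 := by decide +kernel

theorem bk_T_11_6 : blockT (mid 11 6) = true := by decide +kernel

theorem bk_N_11_6 : blockN (mid 11 6) = cN 11 6 := by decide +kernel

theorem bk_T_11_7 : blockT (mid 11 7) = true := by decide +kernel

theorem bk_N_11_7 : blockN (mid 11 7) = cN 11 7 := by decide +kernel

theorem bk_T_11_8 : blockT (mid 11 8) = true := by decide +kernel

theorem bk_N_11_8 : blockN (mid 11 8) = cN 11 8 := by decide +kernel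

theorem bk_T_11_9 : blockT (mid 11 9) = true := by decide +kernel

theorem bk_N_11_9 : blockN (mid 11 9) = cN 11 9 := by decide +kernel

theorem bk_T_11_10 : blockT (mid 11 10) = true := by decide +kernel

theorem bk_N_11_10 : blockN (mid 11 10) = cN 11 10 := by decide +kernel

theorem bk_T_11_11 : blockT (mid 11 11) = true := by decide +kernel

theorem bk_N_11_11 : blockN (mid 11 11) = cN 11 11 := by decide +kernel

theorem bk_T_11_12 : blockT (mid 11 12) = true := by decide +kernel

theorem bk_N_11_12 : blockN (mid 11 12) = cN 11 12 := by decide +kernel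

theorem bk_T_11_13 : blockT (mid 11 13) = true := by decide +kernel

theorem bk_N_11_13 : blockN (mid 11 13) = cN 11 13 := by decide +kernel

theorem bk_T_11_14 : blockT (mid 11 14) = true := by decide +kernel

theorem bk_N_11_14 : blockN (mid 11 14) = cN 11 14 := by decide +kernel

theorem bk_T_11_15 : blockT (mid 11 15) = true := by decide +kernel

theorem bk_N_11_15 : blockN (mid 11 15) = cN 11 15 := by decide +kernel

theorem bk_T_11_16 : blockT (mid 11 16) = true := by decide +kernel

theorem bk_N_11_16 : blockN (mid 11 16) = cN 11 16 := by decide +kernel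

theorem bk_T_11_17 : blockT (mid 11 17) = true := by decide +kernel

theorem bk_N_11_17 : blockN (mid 11 17) = cN 11 17 := by decide +kernel

theorem bk_T_11_18 : blockT (mid 11 18) = true := by decide +kernel

theorem bk_N_11_18 : blockN (mid 11 18) = cN 11 18 := by decide +kernel

theorem bk_T_11_19 : blockT (mid 11 19) = true := by decide +kernel

theorem bk_N_11_19 : blockN (mid 11 19) = cN 11 19 := by decide +kernel

theorem bk_T_11_20 : blockT (mid 11 20) = true := by decide +kernel

theorem bk_N_11_20 : blockN (mid 11 20) = cN 11 20 := by decide +kernel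

theorem bk_T_11 : ∀ k, k < 21 → blockT (mid 11 k) = true := by
  intro k hk
  interval_cases k
  · exact bk_T_11_0
  · exact bk_T_11_1
  · exact bk_T_11_2
  · exact bk_T_11_3
  · exact bk_T_11_4
  · exact bk_T_11_5
  · exact bk_T_11_6
  · exact bk_T_11_7
  · exact bk_T_11_8
  · exact bk_T_11_9
  · exact bk_T_11_10
  · exact bk_T_11_11
  · exact bk_T_11_12
  · exact bk_T_11_13
  · exact bk_T_11_14
  · exact bk_T_11_15
  · exact bk_T_11_16
  · exact bk_T_11_17
  · exact bk_T_11_18
  · exact bk_T_11_19
  · exact bk_T_11_20

theorem bk_N_11 : ∀ k, k < 21 → blockN (mid 11 k) = cN 11 k := by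
  intro k hk
  interval_cases k
  · exact bk_N_11_0
  · exact bk_N_11_1
  · exact bk_N_11_2
  · exact bk_N_11_3
  · exact bk_N_11_4
  · exact bk_N_11_5
  · exact bk_N_11_6
  · exact bk_N_11_7
  · exact bk_N_11_8
  · exact bk_N_11_9
  · exact bk_N_11_10
  · exact bk_N_11_11
  · exact bk_N_11_12
  · exact bk_N_11_13
  · exact bk_N_11_14
  · exact bk_N_11_15
  · exact bk_N_11_16
  · exact bk_N_11_17
  · exact bk_N_11_18
  · exact bk_N_11_19
  · exact bk_N_11_20

end Cfsg.Agent.H34
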