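import Cfsg.Agent.H34.BlkCls

/-!
# The passes over the elements of `M22`, part 12 (helper34 library)

Kernel evaluations: every element `s * r2 * r1` with `r1` the element number 12 of the first
transversal has a class and separates the twin classes; the xor of the contributions of
the square roots.
-/

set_option autoImplicit false
set_option Elab.async false

namespace Cfsg.Agent.H34

open Cfsg Cfsg.Agent.H9

theorem bk_T_12_0 : blockT (mid 12 0) = true := by decide +kernel

theorem bk_N_12_0 : blockN (mid 12 0) = cN 12 0 := by decide +kernel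

theorem bk_T_12_1 : blockT (mid 12 1) = true := by decide +kernel

theorem bk_N_12_1 : blockN (mid 12 1) = cN 12 1 := by decide +kernel

theorem bk_T_12_2 : blockT (mid 12 2) = true := by decide +kernel

theorem bk_N_12_2 : blockN (mid 12 2) = cN 12 2 := by decide +kernel

theorem bk_T_12_3 : blockT (mid 12 3) = true := by decide +kernel

theorem bk_N_12_3 : blockN (mid 12 3) = cN 12 3 := by decide +kernel

theorem bk_T_12_4 : blockT (mid 12 4) = true := by decide +kernel

theorem bk_N_12_4 : blockN (mid 12 4) = cN 12 4 := by decide +kernel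

theorem bk_T_12_5 : blockT (mid 12 5) = true := by decide +kernel

theorem bk_N_12_5 : blockN (mid 12 5) = cN 12 5 := by decide +kernel

theorem bk_T_12_6 : blockT (mid 12 6) = true := by decide +kernel

theorem bk_N_12_6 : blockN (mid 12 6) = cN 12 6 := by decide +kernel

theorem bk_T_12_7 : blockT (mid 12 7) = true := by decide +kernel

theorem bk_N_12_7 : blockN (mid 12 7) = cN 12 7 := by decide +kernel

theorem bk_T_12_8 : blockT (mid 12 8) = true := by decide +kernel

theorem bk_N_12_8 : blockN (mid 12 8) = cN 12 8 := by decide +kernel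

theorem bk_T_12_9 : blockT (mid 12 9) = true := by decide +kernel

theorem bk_N_12_9 : blockN (mid 12 9) = cN 12 9 := by decide +kernel

theorem bk_T_12_10 : blockT (mid 12 10) = true := by decide +kernel

theorem bk_N_12_10 : blockN (mid 12 10) = cN 12 10 := by decide +kernel

theorem bk_T_12_11 : blockT (mid 12 11) = true := by decide +kernel

theorem bk_N_12_11 : blockN (mid 12 11) = cN 12 11 := by decide +kernel

theorem bk_T_12_12 : blockT (mid 12 12) = true := by decide +kernel

theorem bk_N_12_12 : blockN (mid 12 12) = cN 12 12 := by decide +kernel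

theorem bk_T_12_13 : blockT (mid 12 13) = true := by decide +kernel

theorem bk_N_12_13 : blockN (mid 12 13) = cN 12 13 := by decide +kernel

theorem bk_T_12_14 : blockT (mid 12 14) = true := by decide +kernel

theorem bk_N_12_14 : blockN (mid 12 14) = cN 12 14 := by decide +kernel

theorem bk_T_12_15 : blockT (mid 12 15) = true := by decide +kernel

theorem bk_N_12_15 : blockN (mid 12 15) = cN 12 15 := by decide +kernel

theorem bk_T_12_16 : blockT (mid 12 16) = true := by decide +kernel

theorem bk_N_12_16 : blockN (mid 12 16) = cN 12 16 := by decide +kernel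

theorem bk_T_12_17 : blockT (mid 12 17) = true := by decide +kernel

theorem bk_N_12_17 : blockN (mid 12 17) = cN 12 17 := by decide +kernel

theorem bk_T_12_18 : blockT (mid 12 18) = true := by decide +kernel

theorem bk_N_12_18 : blockN (mid 12 18) = cN 12 18 := by decide +kernel

theorem bk_T_12_19 : blockT (mid 12 19) = true := by decide +kernel

theorem bk_N_12_19 : blockN (mid 12 19) = cN 12 19 := by decide +kernel

theorem bk_T_12_20 : blockT (mid 12 20) = true := by decide +kernel

theorem bk_N_12_20 : blockN (mid 12 20) = cN 12 20 := by decide +kernel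

theorem bk_T_12 : ∀ k, k < 21 → blockT (mid 12 k) = true := by
  intro k hk
  interval_cases k
  · exact bk_T_12_0
  · exact bk_T_12_1
  · exact bk_T_12_2
  · exact bk_T_12_3
  · exact bk_T_12_4
  · exact bk_T_12_5
  · exact bk_T_12_6
  · exact bk_T_12_7
  · exact bk_T_12_8
  · exact bk_T_12_9
  · exact bk_T_12_10
  · exact bk_T_12_11
  · exact bk_T_12_12
  · exact bk_T_12_13
  · exact bk_T_12_14
  · exact bk_T_12_15
  · exact bk_T_12_16
  · exact bk_T_12_17
  · exact bk_T_12_18
  · exact bk_T_12_19
  · exact bk_T_12_20

theorem bk_N_12 : ∀ k, k < 21 → blockN (mid 12 k) = cN 12 k := by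
  intro k hk
  interval_cases k
  · exact bk_N_12_0
  · exact bk_N_12_1
  · exact bk_N_12_2
  · exact bk_N_12_3
  · exact bk_N_12_4
  · exact bk_N_12_5
  · exact bk_N_12_6
  · exact bk_N_12_7
  · exact bk_N_12_8
  · exact bk_N_12_9
  · exact bk_N_12_10
  · exact bk_N_12_11
  · exact bk_N_12_12
  · exact bk_N_12_13
  · exact bk_N_12_14
  · exact bk_N_12_15
  · exact bk_N_12_16
  · exact bk_N_12_17
  · exact bk_N_12_18
  · exact bk_N_12_19
  · exact bk_N_12_20

end Cfsg.Agent.H34
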