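import Cfsg.Agent.H34.BlkCls

/-!
# The passes over the elements of `M22`, part 13 (helper34 library)

Kernel evaluations: every element `s * r2 * r1` with `r1` the element number 13 of the first
transversal has a class and separates the twin classes; the xor of the contributions of
the square roots.
-/

set_option autoImplicit false
set_option Elab.async false

namespace Cfsg.Agent.H34

open Cfsg Cfsg.Agent.H9

theorem bk_T_13_0 : blockT (mid 13 0) = true := by decide +kernel

theorem bk_N_13_0 : blockN (mid 13 0) = cN 13 0 := by decide +kernel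

theorem bk_T_13_1 : blockT (mid 13 1) = true := by decide +kernel

theorem bk_N_13_1 : blockN (mid 13 1) = cN 13 1 := by decide +kernel

theorem bk_T_13_2 : blockT (mid 13 2) = true := by decide +kernel

theorem bk_N_13_2 : blockN (mid 13 2) = cN 13 2 := by decide +kernel

theorem bk_T_13_3 : blockT (mid 13 3) = true := by decide +kernel

theorem bk_N_13_3 : blockN (mid 13 3) = cN 13 3 := by decide +kernel

theorem bk_T_13_4 : blockT (mid 13 4) = true := by decide +kernel

theorem bk_N_13_4 : blockN (mid 13 4) = cN 13 4 := by decide +kernel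

theorem bk_T_13_5 : blockT (mid 13 5) = true := by decide +kernel

theorem bk_N_13_5 : blockN (mid 13 5) = cN 13 5 := by decide +kernel

theorem bk_T_13_6 : blockT (mid 13 6) = true := by decide +kernel

theorem bk_N_13_6 : blockN (mid 13 6) = cN 13 6 := by decide +kernel

theorem bk_T_13_7 : blockT (mid 13 7) = true := by decide +kernel

theorem bk_N_13_7 : blockN (mid 13 7) = cN 13 7 := by decide +kernel

theorem bk_T_13_8 : blockT (mid 13 8) = true := by decide +kernel

theorem bk_N_13_8 : blockN (mid 13 8) = cN 13 8 := by decide +kernel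

theorem bk_T_13_9 : blockT (mid 13 9) = true := by decide +kernel

theorem bk_N_13_9 : blockN (mid 13 9) = cN 13 9 := by decide +kernel

theorem bk_T_13_10 : blockT (mid 13 10) = true := by decide +kernel

theorem bk_N_13_10 : blockN (mid 13 10) = cN 13 10 := by decide +kernel

theorem bk_T_13_11 : blockT (mid 13 11) = true := by decide +kernel

theorem bk_N_13_11 : blockN (mid 13 11) = cN 13 11 := by decide +kernel

theorem bk_T_13_12 : blockT (mid 13 12) = true := by decide +kernel

theorem bk_N_13_12 : blockN (mid 13 12) = cN 13 12 := by decide +kernel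

theorem bk_T_13_13 : blockT (mid 13 13) = true := by decide +kernel

theorem bk_N_13_13 : blockN (mid 13 13) = cN 13 13 := by decide +kernel

theorem bk_T_13_14 : blockT (mid 13 14) = true := by decide +kernel

theorem bk_N_13_14 : blockN (mid 13 14) = cN 13 14 := by decide +kernel

theorem bk_T_13_15 : blockT (mid 13 15) = true := by decide +kernel

theorem bk_N_13_15 : blockN (mid 13 15) = cN 13 15 := by decide +kernel

theorem bk_T_13_16 : blockT (mid 13 16) = true := by decide +kernel

theorem bk_N_13_16 : blockN (mid 13 16) = cN 13 16 := by decide +kernel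

theorem bk_T_13_17 : blockT (mid 13 17) = true := by decide +kernel

theorem bk_N_13_17 : blockN (mid 13 17) = cN 13 17 := by decide +kernel

theorem bk_T_13_18 : blockT (mid 13 18) = true := by decide +kernel

theorem bk_N_13_18 : blockN (mid 13 18) = cN 13 18 := by decide +kernel

theorem bk_T_13_19 : blockT (mid 13 19) = true := by decide +kernel

theorem bk_N_13_19 : blockN (mid 13 19) = cN 13 19 := by decide +kernel

theorem bk_T_13_20 : blockT (mid 13 20) = true := by decide +kernel

theorem bk_N_13_20 : blockN (mid 13 20) = cN 13 20 := by decide +kernel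

theorem bk_T_13 : ∀ k, k < 21 → blockT (mid 13 k) = true := by
  intro k hk
  interval_cases k
  · exact bk_T_13_0
  · exact bk_T_13_1
  · exact bk_T_13_2
  · exact bk_T_13_3
  · exact bk_T_13_4
  · exact bk_T_13_5
  · exact bk_T_13_6
  · exact bk_T_13_7
  · exact bk_T_13_8
  · exact bk_T_13_9
  · exact bk_T_13_10
  · exact bk_T_13_11
  · exact bk_T_13_12
  · exact bk_T_13_13
  · exact bk_T_13_14
  · exact bk_T_13_15
  · exact bk_T_13_16
  · exact bk_T_13_17
  · exact bk_T_13_18
  · exact bk_T_13_19
  · exact bk_T_13_20

theorem bk_N_13 : ∀ k, k < 21 → blockN (mid 13 k) = cN 13 k := by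
  intro k hk
  interval_cases k
  · exact bk_N_13_0
  · exact bk_N_13_1
  · exact bk_N_13_2
  · exact bk_N_13_3
  · exact bk_N_13_4
  · exact bk_N_13_5
  · exact bk_N_13_6
  · exact bk_N_13_7
  · exact bk_N_13_8
  · exact bk_N_13_9
  · exact bk_N_13_10
  · exact bk_N_13_11
  · exact bk_N_13_12
  · exact bk_N_13_13
  · exact bk_N_13_14
  · exact bk_N_13_15
  · exact bk_N_13_16
  · exact bk_N_13_17
  · exact bk_N_13_18
  · exact bk_N_13_19
  · exact bk_N_13_20

end Cfsg.Agent.H34
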