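import Cfsg.Agent.H34.BlkCls

/-!
# The passes over the elements of `M22`, part 14 (helper34 library)

Kernel evaluations: every element `s * r2 * r1` with `r1` the element number 14 of the first
transversal has a class and separates the twin classes; the xor of the contributions of
the square roots.
-/

set_option autoImplicit false
set_option Elab.async false

namespace Cfsg.Agent.H34

open Cfsg Cfsg.Agent.H9

theorem bk_T_14_0 : blockT (mid 14 0) = true := by decide +kernel

theorem bk_N_14_0 : blockN (mid 14 0) = cN 14 0 := by decide +kernel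

theorem bk_T_14_1 : blockT (mid 14 1) = true := by decide +kernel

theorem bk_N_14_1 : blockN (mid 14 1) = cN 14 1 := by decide +kernel

theorem bk_T_14_2 : blockT (mid 14 2) = true := by decide +kernel

theorem bk_N_14_2 : blockN (mid 14 2) = cN 14 2 := by decide +kernel

theorem bk_T_14_3 : blockT (mid 14 3) = true := by decide +kernel

theorem bk_N_14_3 : blockN (mid 14 3) = cN 14 3 := by decide +kernel

theorem bk_T_14_4 : blockT (mid 14 4) = true := by decide +kernel

theorem bk_N_14_4 : blockN (mid 14 4) = cN 14 4 := by decide +kernel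

theorem bk_T_14_5 : blockT (mid 14 5) = true := by decide +kernel

theorem bk_N_14_5 : blockN (mid 14 5) = cN 14 5 := by decide +kernel

theorem bk_T_14_6 : blockT (mid 14 6) = true := by decide +kernel

theorem bk_N_14_6 : blockN (mid 14 6) = cN 14 6 := by decide +kernel

theorem bk_T_14_7 : blockT (mid 14 7) = true := by decide +kernel

theorem bk_N_14_7 : blockN (mid 14 7) = cN 14 7 := by decide +kernel

theorem bk_T_14_8 : blockT (mid 14 8) = true := by decide +kernel

theorem bk_N_14_8 : blockN (mid 14 8) = cN 14 8 := by decide +kernel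

theorem bk_T_14_9 : blockT (mid 14 9) = true := by decide +kernel

theorem bk_N_14_9 : blockN (mid 14 9) = cN 14 9 := by decide +kernel

theorem bk_T_14_10 : blockT (mid 14 10) = true := by decide +kernel

theorem bk_N_14_10 : blockN (mid 14 10) = cN 14 10 := by decide +kernel

theorem bk_T_14_11 : blockT (mid 14 11) = true := by decide +kernel

theorem bk_N_14_11 : blockN (mid 14 11) = cN 14 11 := by decide +kernel

theorem bk_T_14_12 : blockT (mid 14 12) = true := by decide +kernel

theorem bk_N_14_12 : blockN (mid 14 12) = cN 14 12 := by decide +kernel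

theorem bk_T_14_13 : blockT (mid 14 13) = true := by decide +kernel

theorem bk_N_14_13 : blockN (mid 14 13) = cN 14 13 := by decide +kernel

theorem bk_T_14_14 : blockT (mid 14 14) = true := by decide +kernel

theorem bk_N_14_14 : blockN (mid 14 14) = cN 14 14 := by decide +kernel

theorem bk_T_14_15 : blockT (mid 14 15) = true := by decide +kernel

theorem bk_N_14_15 : blockN (mid 14 15) = cN 14 15 := by decide +kernel

theorem bk_T_14_16 : blockT (mid 14 16) = true := by decide +kernel

theorem bk_N_14_16 : blockN (mid 14 16) = cN 14 16 := by decide +kernel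

theorem bk_T_14_17 : blockT (mid 14 17) = true := by decide +kernel

theorem bk_N_14_17 : blockN (mid 14 17) = cN 14 17 := by decide +kernel

theorem bk_T_14_18 : blockT (mid 14 18) = true := by decide +kernel

theorem bk_N_14_18 : blockN (mid 14 18) = cN 14 18 := by decide +kernel

theorem bk_T_14_19 : blockT (mid 14 19) = true := by decide +kernel

theorem bk_N_14_19 : blockN (mid 14 19) = cN 14 19 := by decide +kernel

theorem bk_T_14_20 : blockT (mid 14 20) = true := by decide +kernel

theorem bk_N_14_20 : blockN (mid 14 20) = cN 14 20 := by decide +kernel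

theorem bk_T_14 : ∀ k, k < 21 → blockT (mid 14 k) = true := by
  intro k hk
  interval_cases k
  · exact bk_T_14_0
  · exact bk_T_14_1
  · exact bk_T_14_2
  · exact bk_T_14_3
  · exact bk_T_14_4
  · exact bk_T_14_5
  · exact bk_T_14_6
  · exact bk_T_14_7
  · exact bk_T_14_8
  · exact bk_T_14_9
  · exact bk_T_14_10
  · exact bk_T_14_11
  · exact bk_T_14_12
  · exact bk_T_14_13
  · exact bk_T_14_14
  · exact bk_T_14_15
  · exact bk_T_14_16
  · exact bk_T_14_17
  · exact bk_T_14_18
  · exact bk_T_14_19
  · exact bk_T_14_20

theorem bk_N_14 : ∀ k, k < 21 → blockN (mid 14 k) = cN 14 k := by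
  intro k hk
  interval_cases k
  · exact bk_N_14_0
  · exact bk_N_14_1
  · exact bk_N_14_2
  · exact bk_N_14_3
  · exact bk_N_14_4
  · exact bk_N_14_5
  · exact bk_N_14_6
  · exact bk_N_14_7
  · exact bk_N_14_8
  · exact bk_N_14_9
  · exact bk_N_14_10
  · exact bk_N_14_11
  · exact bk_N_14_12
  · exact bk_N_14_13
  · exact bk_N_14_14
  · exact bk_N_14_15
  · exact bk_N_14_16
  · exact bk_N_14_17
  · exact bk_N_14_18
  · exact bk_N_14_19
  · exact bk_N_14_20

end Cfsg.Agent.H34
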