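import Cfsg.Agent.H34.BlkCls

/-!
# The passes over the elements of `M22`, part 15 (helper34 library)

Kernel evaluations: every element `s * r2 * r1` with `r1` the element number 15 of the first
transversal has a class and separates the twin classes; the xor of the contributions of
the square roots.
-/

set_option autoImplicit false
set_option Elab.async false

namespace Cfsg.Agent.H34

open Cfsg Cfsg.Agent.H9

theorem bk_T_15_0 : blockT (mid 15 0) = true := by decide +kernel

theorem bk_N_15_0 : blockN (mid 15 0) = cN 15 0 := by decide +kernel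

theorem bk_T_15_1 : blockT (mid 15 1) = true := by decide +kernel

theorem bk_N_15_1 : blockN (mid 15 1) = cN 15 1 := by decide +kernel

theorem bk_T_15_2 : blockT (mid 15 2) = true := by decide +kernel

theorem bk_N_15_2 : blockN (mid 15 2) = cN 15 2 := by decide +kernel

theorem bk_T_15_3 : blockT (mid 15 3) = true := by decide +kernel

theorem bk_N_15_3 : blockN (mid 15 3) = cN 15 3 := by decide +kernel

theorem bk_T_15_4 : blockT (mid 15 4) = true := by decide +kernel

theorem bk_N_15_4 : blockN (mid 15 4) = cN 15 4 := by decide +kernel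

theorem bk_T_15_5 : blockT (mid 15 5) = true := by decide +kernel

theorem bk_N_15_5 : blockN (mid 15 5) = cN 15 5 := by decide +kernel

theorem bk_T_15_6 : blockT (mid 15 6) = true := by decide +kernel

theorem bk_N_15_6 : blockN (mid 15 6) = cN 15 6 := by decide +kernel

theorem bk_T_15_7 : blockT (mid 15 7) = true := by decide +kernel

theorem bk_N_15_7 : blockN (mid 15 7) = cN 15 7 := by decide +kernel

theorem bk_T_15_8 : blockT (mid 15 8) = true := by decide +kernel

theorem bk_N_15_8 : blockN (mid 15 8) = cN 15 8 := by decide +kernel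

theorem bk_T_15_9 : blockT (mid 15 9) = true := by decide +kernel

theorem bk_N_15_9 : blockN (mid 15 9) = cN 15 9 := by decide +kernel

theorem bk_T_15_10 : blockT (mid 15 10) = true := by decide +kernel

theorem bk_N_15_10 : blockN (mid 15 10) = cN 15 10 := by decide +kernel

theorem bk_T_15_11 : blockT (mid 15 11) = true := by decide +kernel

theorem bk_N_15_11 : blockN (mid 15 11) = cN 15 11 := by decide +kernel

theorem bk_T_15_12 : blockT (mid 15 12) = true := by decide +kernel

theorem bk_N_15_12 : blockN (mid 15 12) = cN 15 12 := by decide +kernel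

theorem bk_T_15_13 : blockT (mid 15 13) = true := by decide +kernel

theorem bk_N_15_13 : blockN (mid 15 13) = cN 15 13 := by decide +kernel

theorem bk_T_15_14 : blockT (mid 15 14) = true := by decide +kernel

theorem bk_N_15_14 : blockN (mid 15 14) = cN 15 14 := by decide +kernel

theorem bk_T_15_15 : blockT (mid 15 15) = true := by decide +kernel

theorem bk_N_15_15 : blockN (mid 15 15) = cN 15 15 := by decide +kernel

theorem bk_T_15_16 : blockT (mid 15 16) = true := by decide +kernel

theorem bk_N_15_16 : blockN (mid 15 16) = cN 15 16 := by decide +kernel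

theorem bk_T_15_17 : blockT (mid 15 17) = true := by decide +kernel

theorem bk_N_15_17 : blockN (mid 15 17) = cN 15 17 := by decide +kernel

theorem bk_T_15_18 : blockT (mid 15 18) = true := by decide +kernel

theorem bk_N_15_18 : blockN (mid 15 18) = cN 15 18 := by decide +kernel

theorem bk_T_15_19 : blockT (mid 15 19) = true := by decide +kernel

theorem bk_N_15_19 : blockN (mid 15 19) = cN 15 19 := by decide +kernel

theorem bk_T_15_20 : blockT (mid 15 20) = true := by decide +kernel

theorem bk_N_15_20 : blockN (mid 15 20) = cN 15 20 := by decide +kernel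

theorem bk_T_15 : ∀ k, k < 21 → blockT (mid 15 k) = true := by
  intro k hk
  interval_cases k
  · exact bk_T_15_0
  · exact bk_T_15_1
  · exact bk_T_15_2
  · exact bk_T_15_3
  · exact bk_T_15_4
  · exact bk_T_15_5
  · exact bk_T_15_6
  · exact bk_T_15_7
  · exact bk_T_15_8
  · exact bk_T_15_9
  · exact bk_T_15_10
  · exact bk_T_15_11
  · exact bk_T_15_12
  · exact bk_T_15_13
  · exact bk_T_15_14
  · exact bk_T_15_15
  · exact bk_T_15_16
  · exact bk_T_15_17
  · exact bk_T_15_18
  · exact bk_T_15_19
  · exact bk_T_15_20

theorem bk_N_15 : ∀ k, k < 21 → blockN (mid 15 k) = cN 15 k := by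
  intro k hk
  interval_cases k
  · exact bk_N_15_0
  · exact bk_N_15_1
  · exact bk_N_15_2
  · exact bk_N_15_3
  · exact bk_N_15_4
  · exact bk_N_15_5
  · exact bk_N_15_6
  · exact bk_N_15_7
  · exact bk_N_15_8
  · exact bk_N_15_9
  · exact bk_N_15_10
  · exact bk_N_15_11
  · exact bk_N_15_12
  · exact bk_N_15_13
  · exact bk_N_15_14
  · exact bk_N_15_15
  · exact bk_N_15_16
  · exact bk_N_15_17
  · exact bk_N_15_18
  · exact bk_N_15_19
  · exact bk_N_15_20

end Cfsg.Agent.H34
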