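import Cfsg.Agent.H34.BlkCls

/-!
# The passes over the elements of `M22`, part 16 (helper34 library)

Kernel evaluations: every element `s * r2 * r1` with `r1` the element number 16 of the first
transversal has a class and separates the twin classes; the xor of the contributions of
the square roots.
-/

set_option autoImplicit false
set_option Elab.async false

namespace Cfsg.Agent.H34

open Cfsg Cfsg.Agent.H9

theorem bk_T_16_0 : blockT (mid 16 0) = true := by decide +kernel

theorem bk_N_16_0 : blockN (mid 16 0) = cN 16 0 := by decide +kernel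

theorem bk_T_16_1 : blockT (mid 16 1) = true := by decide +kernel

theorem bk_N_16_1 : blockN (mid 16 1) = cN 16 1 := by decide +kernel

theorem bk_T_16_2 : blockT (mid 16 2) = true := by decide +kernel

theorem bk_N_16_2 : blockN (mid 16 2) = cN 16 2 := by decide +kernel

theorem bk_T_16_3 : blockT (mid 16 3) = true := by decide +kernel

theorem bk_N_16_3 : blockN (mid 16 3) = cN 16 3 := by decide +kernel

theorem bk_T_16_4 : blockT (mid 16 4) = true := by decide +kernel

theorem bk_N_16_4 : blockN (mid 16 4) = cN 16 4 := by decide +kernel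

theorem bk_T_16_5 : blockT (mid 16 5) = true := by decide +kernel

theorem bk_N_16_5 : blockN (mid 16 5) = cN 16 5 := by decide +kernel

theorem bk_T_16_6 : blockT (mid 16 6) = true := by decide +kernel

theorem bk_N_16_6 : blockN (mid 16 6) = cN 16 6 := by decide +kernel

theorem bk_T_16_7 : blockT (mid 16 7) = true := by decide +kernel

theorem bk_N_16_7 : blockN (mid 16 7) = cN 16 7 := by decide +kernel

theorem bk_T_16_8 : blockT (mid 16 8) = true := by decide +kernel

theorem bk_N_16_8 : blockN (mid 16 8) = cN 16 8 := by decide +kernel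

theorem bk_T_16_9 : blockT (mid 16 9) = true := by decide +kernel

theorem bk_N_16_9 : blockN (mid 16 9) = cN 16 9 := by decide +kernel

theorem bk_T_16_10 : blockT (mid 16 10) = true := by decide +kernel

theorem bk_N_16_10 : blockN (mid 16 10) = cN 16 10 := by decide +kernel

theorem bk_T_16_11 : blockT (mid 16 11) = true := by decide +kernel

theorem bk_N_16_11 : blockN (mid 16 11) = cN 16 11 := by decide +kernel

theorem bk_T_16_12 : blockT (mid 16 12) = true := by decide +kernel

theorem bk_N_16_12 : blockN (mid 16 12) = cN 16 12 := by decide +kernel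

theorem bk_T_16_13 : blockT (mid 16 13) = true := by decide +kernel

theorem bk_N_16_13 : blockN (mid 16 13) = cN 16 13 := by decide +kernel

theorem bk_T_16_14 : blockT (mid 16 14) = true := by decide +kernel

theorem bk_N_16_14 : blockN (mid 16 14) = cN 16 14 := by decide +kernel

theorem bk_T_16_15 : blockT (mid 16 15) = true := by decide +kernel

theorem bk_N_16_15 : blockN (mid 16 15) = cN 16 15 := by decide +kernel

theorem bk_T_16_16 : blockT (mid 16 16) = true := by decide +kernel

theorem bk_N_16_16 : blockN (mid 16 16) = cN 16 16 := by decide +kernel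

theorem bk_T_16_17 : blockT (mid 16 17) = true := by decide +kernel

theorem bk_N_16_17 : blockN (mid 16 17) = cN 16 17 := by decide +kernel

theorem bk_T_16_18 : blockT (mid 16 18) = true := by decide +kernel

theorem bk_N_16_18 : blockN (mid 16 18) = cN 16 18 := by decide +kernel

theorem bk_T_16_19 : blockT (mid 16 19) = true := by decide +kernel

theorem bk_N_16_19 : blockN (mid 16 19) = cN 16 19 := by decide +kernel

theorem bk_T_16_20 : blockT (mid 16 20) = true := by decide +kernel

theorem bk_N_16_20 : blockN (mid 16 20) = cN 16 20 := by decide +kernel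

theorem bk_T_16 : ∀ k, k < 21 → blockT (mid 16 k) = true := by
  intro k hk
  interval_cases k
  · exact bk_T_16_0
  · exact bk_T_16_1
  · exact bk_T_16_2
  · exact bk_T_16_3
  · exact bk_T_16_4
  · exact bk_T_16_5
  · exact bk_T_16_6
  · exact bk_T_16_7
  · exact bk_T_16_8
  · exact bk_T_16_9
  · exact bk_T_16_10
  · exact bk_T_16_11
  · exact bk_T_16_12
  · exact bk_T_16_13
  · exact bk_T_16_14
  · exact bk_T_16_15
  · exact bk_T_16_16
  · exact bk_T_16_17
  · exact bk_T_16_18
  · exact bk_T_16_19
  · exact bk_T_16_20

theorem bk_N_16 : ∀ k, k < 21 → blockN (mid 16 k) = cN 16 k := by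
  intro k hk
  interval_cases k
  · exact bk_N_16_0
  · exact bk_N_16_1
  · exact bk_N_16_2
  · exact bk_N_16_3
  · exact bk_N_16_4
  · exact bk_N_16_5
  · exact bk_N_16_6
  · exact bk_N_16_7
  · exact bk_N_16_8
  · exact bk_N_16_9
  · exact bk_N_16_10
  · exact bk_N_16_11
  · exact bk_N_16_12
  · exact bk_N_16_13
  · exact bk_N_16_14
  · exact bk_N_16_15
  · exact bk_N_16_16
  · exact bk_N_16_17
  · exact bk_N_16_18
  · exact bk_N_16_19
  · exact bk_N_16_20

end Cfsg.Agent.H34
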