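import Cfsg.Agent.H34.BlkCls

/-!
# The passes over the elements of `M22`, part 17 (helper34 library)

Kernel evaluations: every element `s * r2 * r1` with `r1` the element number 17 of the first
transversal has a class and separates the twin classes; the xor of the contributions of
the square roots.
-/

set_option autoImplicit false
set_option Elab.async false

namespace Cfsg.Agent.H34

open Cfsg Cfsg.Agent.H9

theorem bk_T_17_0 : blockT (mid 17 0) = true := by decide +kernel

theorem bk_N_17_0 : blockN (mid 17 0) = cN 17 0 := by decide +kernel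

theorem bk_T_17_1 : blockT (mid 17 1) = true := by decide +kernel

theorem bk_N_17_1 : blockN (mid 17 1) = cN 17 1 := by decide +kernel

theorem bk_T_17_2 : blockT (mid 17 2) = true := by decide +kernel

theorem bk_N_17_2 : blockN (mid 17 2) = cN 17 2 := by decide +kernel

theorem bk_T_17_3 : blockT (mid 17 3) = true := by decide +kernel

theorem bk_N_17_3 : blockN (mid 17 3) = cN 17 3 := by decide +kernel

theorem bk_T_17_4 : blockT (mid 17 4) = true := by decide +kernel

theorem bk_N_17_4 : blockN (mid 17 4) = cN 17 4 := by decide +kernel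

theorem bk_T_17_5 : blockT (mid 17 5) = true := by decide +kernel

theorem bk_N_17_5 : blockN (mid 17 5) = cN 17 5 := by decide +kernel

theorem bk_T_17_6 : blockT (mid 17 6) = true := by decide +kernel

theorem bk_N_17_6 : blockN (mid 17 6) = cN 17 6 := by decide +kernel

theorem bk_T_17_7 : blockT (mid 17 7) = true := by decide +kernel

theorem bk_N_17_7 : blockN (mid 17 7) = cN 17 7 := by decide +kernel

theorem bk_T_17_8 : blockT (mid 17 8) = true := by decide +kernel

theorem bk_N_17_8 : blockN (mid 17 8) = cN 17 8 := by decide +kernel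

theorem bk_T_17_9 : blockT (mid 17 9) = true := by decide +kernel

theorem bk_N_17_9 : blockN (mid 17 9) = cN 17 9 := by decide +kernel

theorem bk_T_17_10 : blockT (mid 17 10) = true := by decide +kernel

theorem bk_N_17_10 : blockN (mid 17 10) = cN 17 10 := by decide +kernel

theorem bk_T_17_11 : blockT (mid 17 11) = true := by decide +kernel

theorem bk_N_17_11 : blockN (mid 17 11) = cN 17 11 := by decide +kernel

theorem bk_T_17_12 : blockT (mid 17 12) = true := by decide +kernel

theorem bk_N_17_12 : blockN (mid 17 12) = cN 17 12 := by decide +kernel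

theorem bk_T_17_13 : blockT (mid 17 13) = true := by decide +kernel

theorem bk_N_17_13 : blockN (mid 17 13) = cN 17 13 := by decide +kernel

theorem bk_T_17_14 : blockT (mid 17 14) = true := by decide +kernel

theorem bk_N_17_14 : blockN (mid 17 14) = cN 17 14 := by decide +kernel

theorem bk_T_17_15 : blockT (mid 17 15) = true := by decide +kernel

theorem bk_N_17_15 : blockN (mid 17 15) = cN 17 15 := by decide +kernel

theorem bk_T_17_16 : blockT (mid 17 16) = true := by decide +kernel

theorem bk_N_17_16 : blockN (mid 17 16) = cN 17 16 := by decide +kernel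

theorem bk_T_17_17 : blockT (mid 17 17) = true := by decide +kernel

theorem bk_N_17_17 : blockN (mid 17 17) = cN 17 17 := by decide +kernel

theorem bk_T_17_18 : blockT (mid 17 18) = true := by decide +kernel

theorem bk_N_17_18 : blockN (mid 17 18) = cN 17 18 := by decide +kernel

theorem bk_T_17_19 : blockT (mid 17 19) = true := by decide +kernel

theorem bk_N_17_19 : blockN (mid 17 19) = cN 17 19 := by decide +kernel

theorem bk_T_17_20 : blockT (mid 17 20) = true := by decide +kernel

theorem bk_N_17_20 : blockN (mid 17 20) = cN 17 20 := by decide +kernel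

theorem bk_T_17 : ∀ k, k < 21 → blockT (mid 17 k) = true := by
  intro k hk
  interval_cases k
  · exact bk_T_17_0
  · exact bk_T_17_1
  · exact bk_T_17_2
  · exact bk_T_17_3
  · exact bk_T_17_4
  · exact bk_T_17_5
  · exact bk_T_17_6
  · exact bk_T_17_7
  · exact bk_T_17_8
  · exact bk_T_17_9
  · exact bk_T_17_10
  · exact bk_T_17_11
  · exact bk_T_17_12
  · exact bk_T_17_13
  · exact bk_T_17_14
  · exact bk_T_17_15
  · exact bk_T_17_16
  · exact bk_T_17_17
  · exact bk_T_17_18
  · exact bk_T_17_19
  · exact bk_T_17_20

theorem bk_N_17 : ∀ k, k < 21 → blockN (mid 17 k) = cN 17 k := by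
  intro k hk
  interval_cases k
  · exact bk_N_17_0
  · exact bk_N_17_1
  · exact bk_N_17_2
  · exact bk_N_17_3
  · exact bk_N_17_4
  · exact bk_N_17_5
  · exact bk_N_17_6
  · exact bk_N_17_7
  · exact bk_N_17_8
  · exact bk_N_17_9
  · exact bk_N_17_10
  · exact bk_N_17_11
  · exact bk_N_17_12
  · exact bk_N_17_13
  · exact bk_N_17_14
  · exact bk_N_17_15
  · exact bk_N_17_16
  · exact bk_N_17_17
  · exact bk_N_17_18
  · exact bk_N_17_19
  · exact bk_N_17_20

end Cfsg.Agent.H34
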