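import Cfsg.Agent.H34.BlkCls

/-!
# The passes over the elements of `M22`, part 18 (helper34 library)

Kernel evaluations: every element `s * r2 * r1` with `r1` the element number 18 of the first
transversal has a class and separates the twin classes; the xor of the contributions of
the square roots.
-/

set_option autoImplicit false
set_option Elab.async false

namespace Cfsg.Agent.H34

open Cfsg Cfsg.Agent.H9

theorem bk_T_18_0 : blockT (mid 18 0) = true := by decide +kernel

theorem bk_N_18_0 : blockN (mid 18 0) = cN 18 0 := by decide +kernel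

theorem bk_T_18_1 : blockT (mid 18 1) = true := by decide +kernel

theorem bk_N_18_1 : blockN (mid 18 1) = cN 18 1 := by decide +kernel

theorem bk_T_18_2 : blockT (mid 18 2) = true := by decide +kernel

theorem bk_N_18_2 : blockN (mid 18 2) = cN 18 2 := by decide +kernel

theorem bk_T_18_3 : blockT (mid 18 3) = true := by decide +kernel

theorem bk_N_18_3 : blockN (mid 18 3) = cN 18 3 := by decide +kernel

theorem bk_T_18_4 : blockT (mid 18 4) = true := by decide +kernel

theorem bk_N_18_4 : blockN (mid 18 4) = cN 18 4 := by decide +kernel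

theorem bk_T_18_5 : blockT (mid 18 5) = true := by decide +kernel

theorem bk_N_18_5 : blockN (mid 18 5) = cN 18 5 := by decide +kernel

theorem bk_T_18_6 : blockT (mid 18 6) = true := by decide +kernel

theorem bk_N_18_6 : blockN (mid 18 6) = cN 18 6 := by decide +kernel

theorem bk_T_18_7 : blockT (mid 18 7) = true := by decide +kernel

theorem bk_N_18_7 : blockN (mid 18 7) = cN 18 7 := by decide +kernel

theorem bk_T_18_8 : blockT (mid 18 8) = true := by decide +kernel

theorem bk_N_18_8 : blockN (mid 18 8) = cN 18 8 := by decide +kernel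

theorem bk_T_18_9 : blockT (mid 18 9) = true := by decide +kernel

theorem bk_N_18_9 : blockN (mid 18 9) = cN 18 9 := by decide +kernel

theorem bk_T_18_10 : blockT (mid 18 10) = true := by decide +kernel

theorem bk_N_18_10 : blockN (mid 18 10) = cN 18 10 := by decide +kernel

theorem bk_T_18_11 : blockT (mid 18 11) = true := by decide +kernel

theorem bk_N_18_11 : blockN (mid 18 11) = cN 18 11 := by decide +kernel

theorem bk_T_18_12 : blockT (mid 18 12) = true := by decide +kernel

theorem bk_N_18_12 : blockN (mid 18 12) = cN 18 12 := by decide +kernel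

theorem bk_T_18_13 : blockT (mid 18 13) = true := by decide +kernel

theorem bk_N_18_13 : blockN (mid 18 13) = cN 18 13 := by decide +kernel

theorem bk_T_18_14 : blockT (mid 18 14) = true := by decide +kernel

theorem bk_N_18_14 : blockN (mid 18 14) = cN 18 14 := by decide +kernel

theorem bk_T_18_15 : blockT (mid 18 15) = true := by decide +kernel

theorem bk_N_18_15 : blockN (mid 18 15) = cN 18 15 := by decide +kernel

theorem bk_T_18_16 : blockT (mid 18 16) = true := by decide +kernel

theorem bk_N_18_16 : blockN (mid 18 16) = cN 18 16 := by decide +kernel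

theorem bk_T_18_17 : blockT (mid 18 17) = true := by decide +kernel

theorem bk_N_18_17 : blockN (mid 18 17) = cN 18 17 := by decide +kernel

theorem bk_T_18_18 : blockT (mid 18 18) = true := by decide +kernel

theorem bk_N_18_18 : blockN (mid 18 18) = cN 18 18 := by decide +kernel

theorem bk_T_18_19 : blockT (mid 18 19) = true := by decide +kernel

theorem bk_N_18_19 : blockN (mid 18 19) = cN 18 19 := by decide +kernel

theorem bk_T_18_20 : blockT (mid 18 20) = true := by decide +kernel

theorem bk_N_18_20 : blockN (mid 18 20) = cN 18 20 := by decide +kernel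

theorem bk_T_18 : ∀ k, k < 21 → blockT (mid 18 k) = true := by
  intro k hk
  interval_cases k
  · exact bk_T_18_0
  · exact bk_T_18_1
  · exact bk_T_18_2
  · exact bk_T_18_3
  · exact bk_T_18_4
  · exact bk_T_18_5
  · exact bk_T_18_6
  · exact bk_T_18_7
  · exact bk_T_18_8
  · exact bk_T_18_9
  · exact bk_T_18_10
  · exact bk_T_18_11
  · exact bk_T_18_12
  · exact bk_T_18_13
  · exact bk_T_18_14
  · exact bk_T_18_15
  · exact bk_T_18_16
  · exact bk_T_18_17
  · exact bk_T_18_18
  · exact bk_T_18_19
  · exact bk_T_18_20

theorem bk_N_18 : ∀ k, k < 21 → blockN (mid 18 k) = cN 18 k := by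
  intro k hk
  interval_cases k
  · exact bk_N_18_0
  · exact bk_N_18_1
  · exact bk_N_18_2
  · exact bk_N_18_3
  · exact bk_N_18_4
  · exact bk_N_18_5
  · exact bk_N_18_6
  · exact bk_N_18_7
  · exact bk_N_18_8
  · exact bk_N_18_9
  · exact bk_N_18_10
  · exact bk_N_18_11
  · exact bk_N_18_12
  · exact bk_N_18_13
  · exact bk_N_18_14
  · exact bk_N_18_15
  · exact bk_N_18_16
  · exact bk_N_18_17
  · exact bk_N_18_18
  · exact bk_N_18_19
  · exact bk_N_18_20

end Cfsg.Agent.H34
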