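import Cfsg.Agent.H34.BlkCls

/-!
# The passes over the elements of `M22`, part 19 (helper34 library)

Kernel evaluations: every element `s * r2 * r1` with `r1` the element number 19 of the first
transversal has a class and separates the twin classes; the xor of the contributions of
the square roots.
-/

set_option autoImplicit false
set_option Elab.async false

namespace Cfsg.Agent.H34

open Cfsg Cfsg.Agent.H9

theorem bk_T_19_0 : blockT (mid 19 0) = true := by decide +kernel

theorem bk_N_19_0 : blockN (mid 19 0) = cN 19 0 := by decide +kernel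

theorem bk_T_19_1 : blockT (mid 19 1) = true := by decide +kernel

theorem bk_N_19_1 : blockN (mid 19 1) = cN 19 1 := by decide +kernel

theorem bk_T_19_2 : blockT (mid 19 2) = true := by decide +kernel

theorem bk_N_19_2 : blockN (mid 19 2) = cN 19 2 := by decide +kernel

theorem bk_T_19_3 : blockT (mid 19 3) = true := by decide +kernel

theorem bk_N_19_3 : blockN (mid 19 3) = cN 19 3 := by decide +kernel

theorem bk_T_19_4 : blockT (mid 19 4) = true := by decide +kernel

theorem bk_N_19_4 : blockN (mid 19 4) = cN 19 4 := by decide +kernel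

theorem bk_T_19_5 : blockT (mid 19 5) = true := by decide +kernel

theorem bk_N_19_5 : blockN (mid 19 5) = cN 19 5 := by decide +kernel

theorem bk_T_19_6 : blockT (mid 19 6) = true := by decide +kernel

theorem bk_N_19_6 : blockN (mid 19 6) = cN 19 6 := by decide +kernel

theorem bk_T_19_7 : blockT (mid 19 7) = true := by decide +kernel

theorem bk_N_19_7 : blockN (mid 19 7) = cN 19 7 := by decide +kernel

theorem bk_T_19_8 : blockT (mid 19 8) = true := by decide +kernel

theorem bk_N_19_8 : blockN (mid 19 8) = cN 19 8 := by decide +kernel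

theorem bk_T_19_9 : blockT (mid 19 9) = true := by decide +kernel

theorem bk_N_19_9 : blockN (mid 19 9) = cN 19 9 := by decide +kernel

theorem bk_T_19_10 : blockT (mid 19 10) = true := by decide +kernel

theorem bk_N_19_10 : blockN (mid 19 10) = cN 19 10 := by decide +kernel

theorem bk_T_19_11 : blockT (mid 19 11) = true := by decide +kernel

theorem bk_N_19_11 : blockN (mid 19 11) = cN 19 11 := by decide +kernel

theorem bk_T_19_12 : blockT (mid 19 12) = true := by decide +kernel

theorem bk_N_19_12 : blockN (mid 19 12) = cN 19 12 := by decide +kernel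

theorem bk_T_19_13 : blockT (mid 19 13) = true := by decide +kernel

theorem bk_N_19_13 : blockN (mid 19 13) = cN 19 13 := by decide +kernel

theorem bk_T_19_14 : blockT (mid 19 14) = true := by decide +kernel

theorem bk_N_19_14 : blockN (mid 19 14) = cN 19 14 := by decide +kernel

theorem bk_T_19_15 : blockT (mid 19 15) = true := by decide +kernel

theorem bk_N_19_15 : blockN (mid 19 15) = cN 19 15 := by decide +kernel

theorem bk_T_19_16 : blockT (mid 19 16) = true := by decide +kernel

theorem bk_N_19_16 : blockN (mid 19 16) = cN 19 16 := by decide +kernel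

theorem bk_T_19_17 : blockT (mid 19 17) = true := by decide +kernel

theorem bk_N_19_17 : blockN (mid 19 17) = cN 19 17 := by decide +kernel

theorem bk_T_19_18 : blockT (mid 19 18) = true := by decide +kernel

theorem bk_N_19_18 : blockN (mid 19 18) = cN 19 18 := by decide +kernel

theorem bk_T_19_19 : blockT (mid 19 19) = true := by decide +kernel

theorem bk_N_19_19 : blockN (mid 19 19) = cN 19 19 := by decide +kernel

theorem bk_T_19_20 : blockT (mid 19 20) = true := by decide +kernel

theorem bk_N_19_20 : blockN (mid 19 20) = cN 19 20 := by decide +kernel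

theorem bk_T_19 : ∀ k, k < 21 → blockT (mid 19 k) = true := by
  intro k hk
  interval_cases k
  · exact bk_T_19_0
  · exact bk_T_19_1
  · exact bk_T_19_2
  · exact bk_T_19_3
  · exact bk_T_19_4
  · exact bk_T_19_5
  · exact bk_T_19_6
  · exact bk_T_19_7
  · exact bk_T_19_8
  · exact bk_T_19_9
  · exact bk_T_19_10
  · exact bk_T_19_11
  · exact bk_T_19_12
  · exact bk_T_19_13
  · exact bk_T_19_14
  · exact bk_T_19_15
  · exact bk_T_19_16
  · exact bk_T_19_17
  · exact bk_T_19_18
  · exact bk_T_19_19
  · exact bk_T_19_20

theorem bk_N_19 : ∀ k, k < 21 → blockN (mid 19 k) = cN 19 k := by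
  intro k hk
  interval_cases k
  · exact bk_N_19_0
  · exact bk_N_19_1
  · exact bk_N_19_2
  · exact bk_N_19_3
  · exact bk_N_19_4
  · exact bk_N_19_5
  · exact bk_N_19_6
  · exact bk_N_19_7
  · exact bk_N_19_8
  · exact bk_N_19_9
  · exact bk_N_19_10
  · exact bk_N_19_11
  · exact bk_N_19_12
  · exact bk_N_19_13
  · exact bk_N_19_14
  · exact bk_N_19_15
  · exact bk_N_19_16
  · exact bk_N_19_17
  · exact bk_N_19_18
  · exact bk_N_19_19
  · exact bk_N_19_20

end Cfsg.Agent.H34
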