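import Cfsg.Agent.H34.BlkCls

/-!
# The passes over the elements of `M22`, part 2 (helper34 library)

Kernel evaluations: every element `s * r2 * r1` with `r1` the element number 2 of the first
transversal has a class and separates the twin classes; the xor of the contributions of
the square roots.
-/

set_option autoImplicit false
set_option Elab.async false

namespace Cfsg.Agent.H34

open Cfsg Cfsg.Agent.H9

theorem bk_T_2_0 : blockT (mid 2 0) = true := by decide +kernel

theorem bk_N_2_0 : blockN (mid 2 0) = cN 2 0 := by decide +kernel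

theorem bk_T_2_1 : blockT (mid 2 1) = true := by decide +kernel

theorem bk_N_2_1 : blockN (mid 2 1) = cN 2 1 := by decide +kernel

theorem bk_T_2_2 : blockT (mid 2 2) = true := by decide +kernel

theorem bk_N_2_2 : blockN (mid 2 2) = cN 2 2 := by decide +kernel

theorem bk_T_2_3 : blockT (mid 2 3) = true := by decide +kernel

theorem bk_N_2_3 : blockN (mid 2 3) = cN 2 3 := by decide +kernel

theorem bk_T_2_4 : blockT (mid 2 4) = true := by decide +kernel

theorem bk_N_2_4 : blockN (mid 2 4) = cN 2 4 := by decide +kernel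

theorem bk_T_2_5 : blockT (mid 2 5) = true := by decide +kernel

theorem bk_N_2_5 : blockN (mid 2 5) = cN 2 5 := by decide +kernel

theorem bk_T_2_6 : blockT (mid 2 6) = true := by decide +kernel

theorem bk_N_2_6 : blockN (mid 2 6) = cN 2 6 := by decide +kernel

theorem bk_T_2_7 : blockT (mid 2 7) = true := by decide +kernel

theorem bk_N_2_7 : blockN (mid 2 7) = cN 2 7 := by decide +kernel

theorem bk_T_2_8 : blockT (mid 2 8) = true := by decide +kernel

theorem bk_N_2_8 : blockN (mid 2 8) = cN 2 8 := by decide +kernel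

theorem bk_T_2_9 : blockT (mid 2 9) = true := by decide +kernel

theorem bk_N_2_9 : blockN (mid 2 9) = cN 2 9 := by decide +kernel

theorem bk_T_2_10 : blockT (mid 2 10) = true := by decide +kernel

theorem bk_N_2_10 : blockN (mid 2 10) = cN 2 10 := by decide +kernel

theorem bk_T_2_11 : blockT (mid 2 11) = true := by decide +kernel

theorem bk_N_2_11 : blockN (mid 2 11) = cN 2 11 := by decide +kernel

theorem bk_T_2_12 : blockT (mid 2 12) = true := by decide +kernel

theorem bk_N_2_12 : blockN (mid 2 12) = cN 2 12 := by decide +kernel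

theorem bk_T_2_13 : blockT (mid 2 13) = true := by decide +kernel

theorem bk_N_2_13 : blockN (mid 2 13) = cN 2 13 := by decide +kernel

theorem bk_T_2_14 : blockT (mid 2 14) = true := by decide +kernel

theorem bk_N_2_14 : blockN (mid 2 14) = cN 2 14 := by decide +kernel

theorem bk_T_2_15 : blockT (mid 2 15) = true := by decide +kernel

theorem bk_N_2_15 : blockN (mid 2 15) = cN 2 15 := by decide +kernel

theorem bk_T_2_16 : blockT (mid 2 16) = true := by decide +kernel

theorem bk_N_2_16 : blockN (mid 2 16) = cN 2 16 := by decide +kernel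

theorem bk_T_2_17 : blockT (mid 2 17) = true := by decide +kernel

theorem bk_N_2_17 : blockN (mid 2 17) = cN 2 17 := by decide +kernel

theorem bk_T_2_18 : blockT (mid 2 18) = true := by decide +kernel

theorem bk_N_2_18 : blockN (mid 2 18) = cN 2 18 := by decide +kernel

theorem bk_T_2_19 : blockT (mid 2 19) = true := by decide +kernel

theorem bk_N_2_19 : blockN (mid 2 19) = cN 2 19 := by decide +kernel

theorem bk_T_2_20 : blockT (mid 2 20) = true := by decide +kernel

theorem bk_N_2_20 : blockN (mid 2 20) = cN 2 20 := by decide +kernel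

theorem bk_T_2 : ∀ k, k < 21 → blockT (mid 2 k) = true := by
  intro k hk
  interval_cases k
  · exact bk_T_2_0
  · exact bk_T_2_1
  · exact bk_T_2_2
  · exact bk_T_2_3
  · exact bk_T_2_4
  · exact bk_T_2_5
  · exact bk_T_2_6
  · exact bk_T_2_7
  · exact bk_T_2_8
  · exact bk_T_2_9
  · exact bk_T_2_10
  · exact bk_T_2_11
  · exact bk_T_2_12
  · exact bk_T_2_13
  · exact bk_T_2_14
  · exact bk_T_2_15
  · exact bk_T_2_16
  · exact bk_T_2_17
  · exact bk_T_2_18
  · exact bk_T_2_19
  · exact bk_T_2_20

theorem bk_N_2 : ∀ k, k < 21 → blockN (mid 2 k) = cN 2 k := by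
  intro k hk
  interval_cases k
  · exact bk_N_2_0
  · exact bk_N_2_1
  · exact bk_N_2_2
  · exact bk_N_2_3
  · exact bk_N_2_4
  · exact bk_N_2_5
  · exact bk_N_2_6
  · exact bk_N_2_7
  · exact bk_N_2_8
  · exact bk_N_2_9
  · exact bk_N_2_10
  · exact bk_N_2_11
  · exact bk_N_2_12
  · exact bk_N_2_13
  · exact bk_N_2_14
  · exact bk_N_2_15
  · exact bk_N_2_16
  · exact bk_N_2_17
  · exact bk_N_2_18
  · exact bk_N_2_19
  · exact bk_N_2_20

end Cfsg.Agent.H34
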