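import Cfsg.Agent.H34.BlkCls

/-!
# The passes over the elements of `M22`, part 20 (helper34 library)

Kernel evaluations: every element `s * r2 * r1` with `r1` the element number 20 of the first
transversal has a class and separates the twin classes; the xor of the contributions of
the square roots.
-/

set_option autoImplicit false
set_option Elab.async false

namespace Cfsg.Agent.H34

open Cfsg Cfsg.Agent.H9

theorem bk_T_20_0 : blockT (mid 20 0) = true := by decide +kernel

theorem bk_N_20_0 : blockN (mid 20 0) = cN 20 0 := by decide +kernel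

theorem bk_T_20_1 : blockT (mid 20 1) = true := by decide +kernel

theorem bk_N_20_1 : blockN (mid 20 1) = cN 20 1 := by decide +kernel

theorem bk_T_20_2 : blockT (mid 20 2) = true := by decide +kernel

theorem bk_N_20_2 : blockN (mid 20 2) = cN 20 2 := by decide +kernel

theorem bk_T_20_3 : blockT (mid 20 3) = true := by decide +kernel

theorem bk_N_20_3 : blockN (mid 20 3) = cN 20 3 := by decide +kernel

theorem bk_T_20_4 : blockT (mid 20 4) = true := by decide +kernel

theorem bk_N_20_4 : blockN (mid 20 4) = cN 20 4 := by decide +kernel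

theorem bk_T_20_5 : blockT (mid 20 5) = true := by decide +kernel

theorem bk_N_20_5 : blockN (mid 20 5) = cN 20 5 := by decide +kernel

theorem bk_T_20_6 : blockT (mid 20 6) = true := by decide +kernel

theorem bk_N_20_6 : blockN (mid 20 6) = cN 20 6 := by decide +kernel

theorem bk_T_20_7 : blockT (mid 20 7) = true := by decide +kernel

theorem bk_N_20_7 : blockN (mid 20 7) = cN 20 7 := by decide +kernel

theorem bk_T_20_8 : blockT (mid 20 8) = true := by decide +kernel

theorem bk_N_20_8 : blockN (mid 20 8) = cN 20 8 := by decide +kernel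

theorem bk_T_20_9 : blockT (mid 20 9) = true := by decide +kernel

theorem bk_N_20_9 : blockN (mid 20 9) = cN 20 9 := by decide +kernel

theorem bk_T_20_10 : blockT (mid 20 10) = true := by decide +kernel

theorem bk_N_20_10 : blockN (mid 20 10) = cN 20 10 := by decide +kernel

theorem bk_T_20_11 : blockT (mid 20 11) = true := by decide +kernel

theorem bk_N_20_11 : blockN (mid 20 11) = cN 20 11 := by decide +kernel

theorem bk_T_20_12 : blockT (mid 20 12) = true := by decide +kernel

theorem bk_N_20_12 : blockN (mid 20 12) = cN 20 12 := by decide +kernel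

theorem bk_T_20_13 : blockT (mid 20 13) = true := by decide +kernel

theorem bk_N_20_13 : blockN (mid 20 13) = cN 20 13 := by decide +kernel

theorem bk_T_20_14 : blockT (mid 20 14) = true := by decide +kernel

theorem bk_N_20_14 : blockN (mid 20 14) = cN 20 14 := by decide +kernel

theorem bk_T_20_15 : blockT (mid 20 15) = true := by decide +kernel

theorem bk_N_20_15 : blockN (mid 20 15) = cN 20 15 := by decide +kernel

theorem bk_T_20_16 : blockT (mid 20 16) = true := by decide +kernel

theorem bk_N_20_16 : blockN (mid 20 16) = cN 20 16 := by decide +kernel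

theorem bk_T_20_17 : blockT (mid 20 17) = true := by decide +kernel

theorem bk_N_20_17 : blockN (mid 20 17) = cN 20 17 := by decide +kernel

theorem bk_T_20_18 : blockT (mid 20 18) = true := by decide +kernel

theorem bk_N_20_18 : blockN (mid 20 18) = cN 20 18 := by decide +kernel

theorem bk_T_20_19 : blockT (mid 20 19) = true := by decide +kernel

theorem bk_N_20_19 : blockN (mid 20 19) = cN 20 19 := by decide +kernel

theorem bk_T_20_20 : blockT (mid 20 20) = true := by decide +kernel

theorem bk_N_20_20 : blockN (mid 20 20) = cN 20 20 := by decide +kernel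

theorem bk_T_20 : ∀ k, k < 21 → blockT (mid 20 k) = true := by
  intro k hk
  interval_cases k
  · exact bk_T_20_0
  · exact bk_T_20_1
  · exact bk_T_20_2
  · exact bk_T_20_3
  · exact bk_T_20_4
  · exact bk_T_20_5
  · exact bk_T_20_6
  · exact bk_T_20_7
  · exact bk_T_20_8
  · exact bk_T_20_9
  · exact bk_T_20_10
  · exact bk_T_20_11
  · exact bk_T_20_12
  · exact bk_T_20_13
  · exact bk_T_20_14
  · exact bk_T_20_15
  · exact bk_T_20_16
  · exact bk_T_20_17
  · exact bk_T_20_18
  · exact bk_T_20_19
  · exact bk_T_20_20

theorem bk_N_20 : ∀ k, k < 21 → blockN (mid 20 k) = cN 20 k := by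
  intro k hk
  interval_cases k
  · exact bk_N_20_0
  · exact bk_N_20_1
  · exact bk_N_20_2
  · exact bk_N_20_3
  · exact bk_N_20_4
  · exact bk_N_20_5
  · exact bk_N_20_6
  · exact bk_N_20_7
  · exact bk_N_20_8
  · exact bk_N_20_9
  · exact bk_N_20_10
  · exact bk_N_20_11
  · exact bk_N_20_12
  · exact bk_N_20_13
  · exact bk_N_20_14
  · exact bk_N_20_15
  · exact bk_N_20_16
  · exact bk_N_20_17
  · exact bk_N_20_18
  · exact bk_N_20_19
  · exact bk_N_20_20

end Cfsg.Agent.H34
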