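import Cfsg.Agent.H34.BlkCls

/-!
# The passes over the elements of `M22`, part 21 (helper34 library)

Kernel evaluations: every element `s * r2 * r1` with `r1` the element number 21 of the first
transversal has a class and separates the twin classes; the xor of the contributions of
the square roots.
-/

set_option autoImplicit false
set_option Elab.async false

namespace Cfsg.Agent.H34

open Cfsg Cfsg.Agent.H9

theorem bk_T_21_0 : blockT (mid 21 0) = true := by decide +kernel

theorem bk_N_21_0 : blockN (mid 21 0) = cN 21 0 := by decide +kernel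

theorem bk_T_21_1 : blockT (mid 21 1) = true := by decide +kernel

theorem bk_N_21_1 : blockN (mid 21 1) = cN 21 1 := by decide +kernel

theorem bk_T_21_2 : blockT (mid 21 2) = true := by decide +kernel

theorem bk_N_21_2 : blockN (mid 21 2) = cN 21 2 := by decide +kernel

theorem bk_T_21_3 : blockT (mid 21 3) = true := by decide +kernel

theorem bk_N_21_3 : blockN (mid 21 3) = cN 21 3 := by decide +kernel

theorem bk_T_21_4 : blockT (mid 21 4) = true := by decide +kernel

theorem bk_N_21_4 : blockN (mid 21 4) = cN 21 4 := by decide +kernel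

theorem bk_T_21_5 : blockT (mid 21 5) = true := by decide +kernel

theorem bk_N_21_5 : blockN (mid 21 5) = cN 21 5 := by decide +kernel

theorem bk_T_21_6 : blockT (mid 21 6) = true := by decide +kernel

theorem bk_N_21_6 : blockN (mid 21 6) = cN 21 6 := by decide +kernel

theorem bk_T_21_7 : blockT (mid 21 7) = true := by decide +kernel

theorem bk_N_21_7 : blockN (mid 21 7) = cN 21 7 := by decide +kernel

theorem bk_T_21_8 : blockT (mid 21 8) = true := by decide +kernel

theorem bk_N_21_8 : blockN (mid 21 8) = cN 21 8 := by decide +kernel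

theorem bk_T_21_9 : blockT (mid 21 9) = true := by decide +kernel

theorem bk_N_21_9 : blockN (mid 21 9) = cN 21 9 := by decide +kernel

theorem bk_T_21_10 : blockT (mid 21 10) = true := by decide +kernel

theorem bk_N_21_10 : blockN (mid 21 10) = cN 21 10 := by decide +kernel

theorem bk_T_21_11 : blockT (mid 21 11) = true := by decide +kernel

theorem bk_N_21_11 : blockN (mid 21 11) = cN 21 11 := by decide +kernel

theorem bk_T_21_12 : blockT (mid 21 12) = true := by decide +kernel

theorem bk_N_21_12 : blockN (mid 21 12) = cN 21 12 := by decide +kernel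

theorem bk_T_21_13 : blockT (mid 21 13) = true := by decide +kernel

theorem bk_N_21_13 : blockN (mid 21 13) = cN 21 13 := by decide +kernel

theorem bk_T_21_14 : blockT (mid 21 14) = true := by decide +kernel

theorem bk_N_21_14 : blockN (mid 21 14) = cN 21 14 := by decide +kernel

theorem bk_T_21_15 : blockT (mid 21 15) = true := by decide +kernel

theorem bk_N_21_15 : blockN (mid 21 15) = cN 21 15 := by decide +kernel

theorem bk_T_21_16 : blockT (mid 21 16) = true := by decide +kernel

theorem bk_N_21_16 : blockN (mid 21 16) = cN 21 16 := by decide +kernel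

theorem bk_T_21_17 : blockT (mid 21 17) = true := by decide +kernel

theorem bk_N_21_17 : blockN (mid 21 17) = cN 21 17 := by decide +kernel

theorem bk_T_21_18 : blockT (mid 21 18) = true := by decide +kernel

theorem bk_N_21_18 : blockN (mid 21 18) = cN 21 18 := by decide +kernel

theorem bk_T_21_19 : blockT (mid 21 19) = true := by decide +kernel

theorem bk_N_21_19 : blockN (mid 21 19) = cN 21 19 := by decide +kernel

theorem bk_T_21_20 : blockT (mid 21 20) = true := by decide +kernel

theorem bk_N_21_20 : blockN (mid 21 20) = cN 21 20 := by decide +kernel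

theorem bk_T_21 : ∀ k, k < 21 → blockT (mid 21 k) = true := by
  intro k hk
  interval_cases k
  · exact bk_T_21_0
  · exact bk_T_21_1
  · exact bk_T_21_2
  · exact bk_T_21_3
  · exact bk_T_21_4
  · exact bk_T_21_5
  · exact bk_T_21_6
  · exact bk_T_21_7
  · exact bk_T_21_8
  · exact bk_T_21_9
  · exact bk_T_21_10
  · exact bk_T_21_11
  · exact bk_T_21_12
  · exact bk_T_21_13
  · exact bk_T_21_14
  · exact bk_T_21_15
  · exact bk_T_21_16
  · exact bk_T_21_17
  · exact bk_T_21_18
  · exact bk_T_21_19
  · exact bk_T_21_20

theorem bk_N_21 : ∀ k, k < 21 → blockN (mid 21 k) = cN 21 k := by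
  intro k hk
  interval_cases k
  · exact bk_N_21_0
  · exact bk_N_21_1
  · exact bk_N_21_2
  · exact bk_N_21_3
  · exact bk_N_21_4
  · exact bk_N_21_5
  · exact bk_N_21_6
  · exact bk_N_21_7
  · exact bk_N_21_8
  · exact bk_N_21_9
  · exact bk_N_21_10
  · exact bk_N_21_11
  · exact bk_N_21_12
  · exact bk_N_21_13
  · exact bk_N_21_14
  · exact bk_N_21_15
  · exact bk_N_21_16
  · exact bk_N_21_17
  · exact bk_N_21_18
  · exact bk_N_21_19
  · exact bk_N_21_20

end Cfsg.Agent.H34
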