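import Cfsg.Agent.H34.BlkCls

/-!
# The passes over the elements of `M22`, part 3 (helper34 library)

Kernel evaluations: every element `s * r2 * r1` with `r1` the element number 3 of the first
transversal has a class and separates the twin classes; the xor of the contributions of
the square roots.
-/

set_option autoImplicit false
set_option Elab.async false

namespace Cfsg.Agent.H34

open Cfsg Cfsg.Agent.H9

theorem bk_T_3_0 : blockT (mid 3 0) = true := by decide +kernel

theorem bk_N_3_0 : blockN (mid 3 0) = cN 3 0 := by decide +kernel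

theorem bk_T_3_1 : blockT (mid 3 1) = true := by decide +kernel

theorem bk_N_3_1 : blockN (mid 3 1) = cN 3 1 := by decide +kernel

theorem bk_T_3_2 : blockT (mid 3 2) = true := by decide +kernel

theorem bk_N_3_2 : blockN (mid 3 2) = cN 3 2 := by decide +kernel

theorem bk_T_3_3 : blockT (mid 3 3) = true := by decide +kernel

theorem bk_N_3_3 : blockN (mid 3 3) = cN 3 3 := by decide +kernel

theorem bk_T_3_4 : blockT (mid 3 4) = true := by decide +kernel

theorem bk_N_3_4 : blockN (mid 3 4) = cN 3 4 := by decide +kernel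

theorem bk_T_3_5 : blockT (mid 3 5) = true := by decide +kernel

theorem bk_N_3_5 : blockN (mid 3 5) = cN 3 5 := by decide +kernel

theorem bk_T_3_6 : blockT (mid 3 6) = true := by decide +kernel

theorem bk_N_3_6 : blockN (mid 3 6) = cN 3 6 := by decide +kernel

theorem bk_T_3_7 : blockT (mid 3 7) = true := by decide +kernel

theorem bk_N_3_7 : blockN (mid 3 7) = cN 3 7 := by decide +kernel

theorem bk_T_3_8 : blockT (mid 3 8) = true := by decide +kernel

theorem bk_N_3_8 : blockN (mid 3 8) = cN 3 8 := by decide +kernel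

theorem bk_T_3_9 : blockT (mid 3 9) = true := by decide +kernel

theorem bk_N_3_9 : blockN (mid 3 9) = cN 3 9 := by decide +kernel

theorem bk_T_3_10 : blockT (mid 3 10) = true := by decide +kernel

theorem bk_N_3_10 : blockN (mid 3 10) = cN 3 10 := by decide +kernel

theorem bk_T_3_11 : blockT (mid 3 11) = true := by decide +kernel

theorem bk_N_3_11 : blockN (mid 3 11) = cN 3 11 := by decide +kernel

theorem bk_T_3_12 : blockT (mid 3 12) = true := by decide +kernel

theorem bk_N_3_12 : blockN (mid 3 12) = cN 3 12 := by decide +kernel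

theorem bk_T_3_13 : blockT (mid 3 13) = true := by decide +kernel

theorem bk_N_3_13 : blockN (mid 3 13) = cN 3 13 := by decide +kernel

theorem bk_T_3_14 : blockT (mid 3 14) = true := by decide +kernel

theorem bk_N_3_14 : blockN (mid 3 14) = cN 3 14 := by decide +kernel

theorem bk_T_3_15 : blockT (mid 3 15) = true := by decide +kernel

theorem bk_N_3_15 : blockN (mid 3 15) = cN 3 15 := by decide +kernel

theorem bk_T_3_16 : blockT (mid 3 16) = true := by decide +kernel

theorem bk_N_3_16 : blockN (mid 3 16) = cN 3 16 := by decide +kernel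

theorem bk_T_3_17 : blockT (mid 3 17) = true := by decide +kernel

theorem bk_N_3_17 : blockN (mid 3 17) = cN 3 17 := by decide +kernel

theorem bk_T_3_18 : blockT (mid 3 18) = true := by decide +kernel

theorem bk_N_3_18 : blockN (mid 3 18) = cN 3 18 := by decide +kernel

theorem bk_T_3_19 : blockT (mid 3 19) = true := by decide +kernel

theorem bk_N_3_19 : blockN (mid 3 19) = cN 3 19 := by decide +kernel

theorem bk_T_3_20 : blockT (mid 3 20) = true := by decide +kernel

theorem bk_N_3_20 : blockN (mid 3 20) = cN 3 20 := by decide +kernel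

theorem bk_T_3 : ∀ k, k < 21 → blockT (mid 3 k) = true := by
  intro k hk
  interval_cases k
  · exact bk_T_3_0
  · exact bk_T_3_1
  · exact bk_T_3_2
  · exact bk_T_3_3
  · exact bk_T_3_4
  · exact bk_T_3_5
  · exact bk_T_3_6
  · exact bk_T_3_7
  · exact bk_T_3_8
  · exact bk_T_3_9
  · exact bk_T_3_10
  · exact bk_T_3_11
  · exact bk_T_3_12
  · exact bk_T_3_13
  · exact bk_T_3_14
  · exact bk_T_3_15
  · exact bk_T_3_16
  · exact bk_T_3_17
  · exact bk_T_3_18
  · exact bk_T_3_19
  · exact bk_T_3_20

theorem bk_N_3 : ∀ k, k < 21 → blockN (mid 3 k) = cN 3 k := by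
  intro k hk
  interval_cases k
  · exact bk_N_3_0
  · exact bk_N_3_1
  · exact bk_N_3_2
  · exact bk_N_3_3
  · exact bk_N_3_4
  · exact bk_N_3_5
  · exact bk_N_3_6
  · exact bk_N_3_7
  · exact bk_N_3_8
  · exact bk_N_3_9
  · exact bk_N_3_10
  · exact bk_N_3_11
  · exact bk_N_3_12
  · exact bk_N_3_13
  · exact bk_N_3_14
  · exact bk_N_3_15
  · exact bk_N_3_16
  · exact bk_N_3_17
  · exact bk_N_3_18
  · exact bk_N_3_19
  · exact bk_N_3_20

end Cfsg.Agent.H34
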