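import Cfsg.Agent.H34.BlkCls

/-!
# The passes over the elements of `M22`, part 4 (helper34 library)

Kernel evaluations: every element `s * r2 * r1` with `r1` the element number 4 of the first
transversal has a class and separates the twin classes; the xor of the contributions of
the square roots.
-/

set_option autoImplicit false
set_option Elab.async false

namespace Cfsg.Agent.H34

open Cfsg Cfsg.Agent.H9

theorem bk_T_4_0 : blockT (mid 4 0) = true := by decide +kernel

theorem bk_N_4_0 : blockN (mid 4 0) = cN 4 0 := by decide +kernel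

theorem bk_T_4_1 : blockT (mid 4 1) = true := by decide +kernel

theorem bk_N_4_1 : blockN (mid 4 1) = cN 4 1 := by decide +kernel

theorem bk_T_4_2 : blockT (mid 4 2) = true := by decide +kernel

theorem bk_N_4_2 : blockN (mid 4 2) = cN 4 2 := by decide +kernel

theorem bk_T_4_3 : blockT (mid 4 3) = true := by decide +kernel

theorem bk_N_4_3 : blockN (mid 4 3) = cN 4 3 := by decide +kernel

theorem bk_T_4_4 : blockT (mid 4 4) = true := by decide +kernel

theorem bk_N_4_4 : blockN (mid 4 4) = cN 4 4 := by decide +kernel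

theorem bk_T_4_5 : blockT (mid 4 5) = true := by decide +kernel

theorem bk_N_4_5 : blockN (mid 4 5) = cN 4 5 := by decide +kernel

theorem bk_T_4_6 : blockT (mid 4 6) = true := by decide +kernel

theorem bk_N_4_6 : blockN (mid 4 6) = cN 4 6 := by decide +kernel

theorem bk_T_4_7 : blockT (mid 4 7) = true := by decide +kernel

theorem bk_N_4_7 : blockN (mid 4 7) = cN 4 7 := by decide +kernel

theorem bk_T_4_8 : blockT (mid 4 8) = true := by decide +kernel

theorem bk_N_4_8 : blockN (mid 4 8) = cN 4 8 := by decide +kernel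

theorem bk_T_4_9 : blockT (mid 4 9) = true := by decide +kernel

theorem bk_N_4_9 : blockN (mid 4 9) = cN 4 9 := by decide +kernel

theorem bk_T_4_10 : blockT (mid 4 10) = true := by decide +kernel

theorem bk_N_4_10 : blockN (mid 4 10) = cN 4 10 := by decide +kernel

theorem bk_T_4_11 : blockT (mid 4 11) = true := by decide +kernel

theorem bk_N_4_11 : blockN (mid 4 11) = cN 4 11 := by decide +kernel

theorem bk_T_4_12 : blockT (mid 4 12) = true := by decide +kernel

theorem bk_N_4_12 : blockN (mid 4 12) = cN 4 12 := by decide +kernel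

theorem bk_T_4_13 : blockT (mid 4 13) = true := by decide +kernel

theorem bk_N_4_13 : blockN (mid 4 13) = cN 4 13 := by decide +kernel

theorem bk_T_4_14 : blockT (mid 4 14) = true := by decide +kernel

theorem bk_N_4_14 : blockN (mid 4 14) = cN 4 14 := by decide +kernel

theorem bk_T_4_15 : blockT (mid 4 15) = true := by decide +kernel

theorem bk_N_4_15 : blockN (mid 4 15) = cN 4 15 := by decide +kernel

theorem bk_T_4_16 : blockT (mid 4 16) = true := by decide +kernel

theorem bk_N_4_16 : blockN (mid 4 16) = cN 4 16 := by decide +kernel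

theorem bk_T_4_17 : blockT (mid 4 17) = true := by decide +kernel

theorem bk_N_4_17 : blockN (mid 4 17) = cN 4 17 := by decide +kernel

theorem bk_T_4_18 : blockT (mid 4 18) = true := by decide +kernel

theorem bk_N_4_18 : blockN (mid 4 18) = cN 4 18 := by decide +kernel

theorem bk_T_4_19 : blockT (mid 4 19) = true := by decide +kernel

theorem bk_N_4_19 : blockN (mid 4 19) = cN 4 19 := by decide +kernel

theorem bk_T_4_20 : blockT (mid 4 20) = true := by decide +kernel

theorem bk_N_4_20 : blockN (mid 4 20) = cN 4 20 := by decide +kernel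

theorem bk_T_4 : ∀ k, k < 21 → blockT (mid 4 k) = true := by
  intro k hk
  interval_cases k
  · exact bk_T_4_0
  · exact bk_T_4_1
  · exact bk_T_4_2
  · exact bk_T_4_3
  · exact bk_T_4_4
  · exact bk_T_4_5
  · exact bk_T_4_6
  · exact bk_T_4_7
  · exact bk_T_4_8
  · exact bk_T_4_9
  · exact bk_T_4_10
  · exact bk_T_4_11
  · exact bk_T_4_12
  · exact bk_T_4_13
  · exact bk_T_4_14
  · exact bk_T_4_15
  · exact bk_T_4_16
  · exact bk_T_4_17
  · exact bk_T_4_18
  · exact bk_T_4_19
  · exact bk_T_4_20

theorem bk_N_4 : ∀ k, k < 21 → blockN (mid 4 k) = cN 4 k := by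
  intro k hk
  interval_cases k
  · exact bk_N_4_0
  · exact bk_N_4_1
  · exact bk_N_4_2
  · exact bk_N_4_3
  · exact bk_N_4_4
  · exact bk_N_4_5
  · exact bk_N_4_6
  · exact bk_N_4_7
  · exact bk_N_4_8
  · exact bk_N_4_9
  · exact bk_N_4_10
  · exact bk_N_4_11
  · exact bk_N_4_12
  · exact bk_N_4_13
  · exact bk_N_4_14
  · exact bk_N_4_15
  · exact bk_N_4_16
  · exact bk_N_4_17
  · exact bk_N_4_18
  · exact bk_N_4_19
  · exact bk_N_4_20

end Cfsg.Agent.H34
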