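import Cfsg.Agent.H34.BlkCls

/-!
# The passes over the elements of `M22`, part 5 (helper34 library)

Kernel evaluations: every element `s * r2 * r1` with `r1` the element number 5 of the first
transversal has a class and separates the twin classes; the xor of the contributions of
the square roots.
-/

set_option autoImplicit false
set_option Elab.async false

namespace Cfsg.Agent.H34

open Cfsg Cfsg.Agent.H9

theorem bk_T_5_0 : blockT (mid 5 0) = true := by decide +kernel

theorem bk_N_5_0 : blockN (mid 5 0) = cN 5 0 := by decide +kernel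

theorem bk_T_5_1 : blockT (mid 5 1) = true := by decide +kernel

theorem bk_N_5_1 : blockN (mid 5 1) = cN 5 1 := by decide +kernel

theorem bk_T_5_2 : blockT (mid 5 2) = true := by decide +kernel

theorem bk_N_5_2 : blockN (mid 5 2) = cN 5 2 := by decide +kernel

theorem bk_T_5_3 : blockT (mid 5 3) = true := by decide +kernel

theorem bk_N_5_3 : blockN (mid 5 3) = cN 5 3 := by decide +kernel

theorem bk_T_5_4 : blockT (mid 5 4) = true := by decide +kernel

theorem bk_N_5_4 : blockN (mid 5 4) = cN 5 4 := by decide +kernel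

theorem bk_T_5_5 : blockT (mid 5 5) = true := by decide +kernel

theorem bk_N_5_5 : blockN (mid 5 5) = cN 5 5 := by decide +kernel

theorem bk_T_5_6 : blockT (mid 5 6) = true := by decide +kernel

theorem bk_N_5_6 : blockN (mid 5 6) = cN 5 6 := by decide +kernel

theorem bk_T_5_7 : blockT (mid 5 7) = true := by decide +kernel

theorem bk_N_5_7 : blockN (mid 5 7) = cN 5 7 := by decide +kernel

theorem bk_T_5_8 : blockT (mid 5 8) = true := by decide +kernel

theorem bk_N_5_8 : blockN (mid 5 8) = cN 5 8 := by decide +kernel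

theorem bk_T_5_9 : blockT (mid 5 9) = true := by decide +kernel

theorem bk_N_5_9 : blockN (mid 5 9) = cN 5 9 := by decide +kernel

theorem bk_T_5_10 : blockT (mid 5 10) = true := by decide +kernel

theorem bk_N_5_10 : blockN (mid 5 10) = cN 5 10 := by decide +kernel

theorem bk_T_5_11 : blockT (mid 5 11) = true := by decide +kernel

theorem bk_N_5_11 : blockN (mid 5 11) = cN 5 11 := by decide +kernel

theorem bk_T_5_12 : blockT (mid 5 12) = true := by decide +kernel

theorem bk_N_5_12 : blockN (mid 5 12) = cN 5 12 := by decide +kernel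

theorem bk_T_5_13 : blockT (mid 5 13) = true := by decide +kernel

theorem bk_N_5_13 : blockN (mid 5 13) = cN 5 13 := by decide +kernel

theorem bk_T_5_14 : blockT (mid 5 14) = true := by decide +kernel

theorem bk_N_5_14 : blockN (mid 5 14) = cN 5 14 := by decide +kernel

theorem bk_T_5_15 : blockT (mid 5 15) = true := by decide +kernel

theorem bk_N_5_15 : blockN (mid 5 15) = cN 5 15 := by decide +kernel

theorem bk_T_5_16 : blockT (mid 5 16) = true := by decide +kernel

theorem bk_N_5_16 : blockN (mid 5 16) = cN 5 16 := by decide +kernel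

theorem bk_T_5_17 : blockT (mid 5 17) = true := by decide +kernel

theorem bk_N_5_17 : blockN (mid 5 17) = cN 5 17 := by decide +kernel

theorem bk_T_5_18 : blockT (mid 5 18) = true := by decide +kernel

theorem bk_N_5_18 : blockN (mid 5 18) = cN 5 18 := by decide +kernel

theorem bk_T_5_19 : blockT (mid 5 19) = true := by decide +kernel

theorem bk_N_5_19 : blockN (mid 5 19) = cN 5 19 := by decide +kernel

theorem bk_T_5_20 : blockT (mid 5 20) = true := by decide +kernel

theorem bk_N_5_20 : blockN (mid 5 20) = cN 5 20 := by decide +kernel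

theorem bk_T_5 : ∀ k, k < 21 → blockT (mid 5 k) = true := by
  intro k hk
  interval_cases k
  · exact bk_T_5_0
  · exact bk_T_5_1
  · exact bk_T_5_2
  · exact bk_T_5_3
  · exact bk_T_5_4
  · exact bk_T_5_5
  · exact bk_T_5_6
  · exact bk_T_5_7
  · exact bk_T_5_8
  · exact bk_T_5_9
  · exact bk_T_5_10
  · exact bk_T_5_11
  · exact bk_T_5_12
  · exact bk_T_5_13
  · exact bk_T_5_14
  · exact bk_T_5_15
  · exact bk_T_5_16
  · exact bk_T_5_17
  · exact bk_T_5_18
  · exact bk_T_5_19
  · exact bk_T_5_20

theorem bk_N_5 : ∀ k, k < 21 → blockN (mid 5 k) = cN 5 k := by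
  intro k hk
  interval_cases k
  · exact bk_N_5_0
  · exact bk_N_5_1
  · exact bk_N_5_2
  · exact bk_N_5_3
  · exact bk_N_5_4
  · exact bk_N_5_5
  · exact bk_N_5_6
  · exact bk_N_5_7
  · exact bk_N_5_8
  · exact bk_N_5_9
  · exact bk_N_5_10
  · exact bk_N_5_11
  · exact bk_N_5_12
  · exact bk_N_5_13
  · exact bk_N_5_14
  · exact bk_N_5_15
  · exact bk_N_5_16
  · exact bk_N_5_17
  · exact bk_N_5_18
  · exact bk_N_5_19
  · exact bk_N_5_20

end Cfsg.Agent.H34
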