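import Cfsg.Agent.H34.BlkCls

/-!
# The passes over the elements of `M22`, part 6 (helper34 library)

Kernel evaluations: every element `s * r2 * r1` with `r1` the element number 6 of the first
transversal has a class and separates the twin classes; the xor of the contributions of
the square roots.
-/

set_option autoImplicit false
set_option Elab.async false

namespace Cfsg.Agent.H34

open Cfsg Cfsg.Agent.H9

theorem bk_T_6_0 : blockT (mid 6 0) = true := by decide +kernel

theorem bk_N_6_0 : blockN (mid 6 0) = cN 6 0 := by decide +kernel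

theorem bk_T_6_1 : blockT (mid 6 1) = true := by decide +kernel

theorem bk_N_6_1 : blockN (mid 6 1) = cN 6 1 := by decide +kernel

theorem bk_T_6_2 : blockT (mid 6 2) = true := by decide +kernel

theorem bk_N_6_2 : blockN (mid 6 2) = cN 6 2 := by decide +kernel

theorem bk_T_6_3 : blockT (mid 6 3) = true := by decide +kernel

theorem bk_N_6_3 : blockN (mid 6 3) = cN 6 3 := by decide +kernel

theorem bk_T_6_4 : blockT (mid 6 4) = true := by decide +kernel

theorem bk_N_6_4 : blockN (mid 6 4) = cN 6 4 := by decide +kernel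

theorem bk_T_6_5 : blockT (mid 6 5) = true := by decide +kernel

theorem bk_N_6_5 : blockN (mid 6 5) = cN 6 5 := by decide +kernel

theorem bk_T_6_6 : blockT (mid 6 6) = true := by decide +kernel

theorem bk_N_6_6 : blockN (mid 6 6) = cN 6 6 := by decide +kernel

theorem bk_T_6_7 : blockT (mid 6 7) = true := by decide +kernel

theorem bk_N_6_7 : blockN (mid 6 7) = cN 6 7 := by decide +kernel

theorem bk_T_6_8 : blockT (mid 6 8) = true := by decide +kernel

theorem bk_N_6_8 : blockN (mid 6 8) = cN 6 8 := by decide +kernel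

theorem bk_T_6_9 : blockT (mid 6 9) = true := by decide +kernel

theorem bk_N_6_9 : blockN (mid 6 9) = cN 6 9 := by decide +kernel

theorem bk_T_6_10 : blockT (mid 6 10) = true := by decide +kernel

theorem bk_N_6_10 : blockN (mid 6 10) = cN 6 10 := by decide +kernel

theorem bk_T_6_11 : blockT (mid 6 11) = true := by decide +kernel

theorem bk_N_6_11 : blockN (mid 6 11) = cN 6 11 := by decide +kernel

theorem bk_T_6_12 : blockT (mid 6 12) = true := by decide +kernel

theorem bk_N_6_12 : blockN (mid 6 12) = cN 6 12 := by decide +kernel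

theorem bk_T_6_13 : blockT (mid 6 13) = true := by decide +kernel

theorem bk_N_6_13 : blockN (mid 6 13) = cN 6 13 := by decide +kernel

theorem bk_T_6_14 : blockT (mid 6 14) = true := by decide +kernel

theorem bk_N_6_14 : blockN (mid 6 14) = cN 6 14 := by decide +kernel

theorem bk_T_6_15 : blockT (mid 6 15) = true := by decide +kernel

theorem bk_N_6_15 : blockN (mid 6 15) = cN 6 15 := by decide +kernel

theorem bk_T_6_16 : blockT (mid 6 16) = true := by decide +kernel

theorem bk_N_6_16 : blockN (mid 6 16) = cN 6 16 := by decide +kernel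

theorem bk_T_6_17 : blockT (mid 6 17) = true := by decide +kernel

theorem bk_N_6_17 : blockN (mid 6 17) = cN 6 17 := by decide +kernel

theorem bk_T_6_18 : blockT (mid 6 18) = true := by decide +kernel

theorem bk_N_6_18 : blockN (mid 6 18) = cN 6 18 := by decide +kernel

theorem bk_T_6_19 : blockT (mid 6 19) = true := by decide +kernel

theorem bk_N_6_19 : blockN (mid 6 19) = cN 6 19 := by decide +kernel

theorem bk_T_6_20 : blockT (mid 6 20) = true := by decide +kernel

theorem bk_N_6_20 : blockN (mid 6 20) = cN 6 20 := by decide +kernel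

theorem bk_T_6 : ∀ k, k < 21 → blockT (mid 6 k) = true := by
  intro k hk
  interval_cases k
  · exact bk_T_6_0
  · exact bk_T_6_1
  · exact bk_T_6_2
  · exact bk_T_6_3
  · exact bk_T_6_4
  · exact bk_T_6_5
  · exact bk_T_6_6
  · exact bk_T_6_7
  · exact bk_T_6_8
  · exact bk_T_6_9
  · exact bk_T_6_10
  · exact bk_T_6_11
  · exact bk_T_6_12
  · exact bk_T_6_13
  · exact bk_T_6_14
  · exact bk_T_6_15
  · exact bk_T_6_16
  · exact bk_T_6_17
  · exact bk_T_6_18
  · exact bk_T_6_19
  · exact bk_T_6_20

theorem bk_N_6 : ∀ k, k < 21 → blockN (mid 6 k) = cN 6 k := by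
  intro k hk
  interval_cases k
  · exact bk_N_6_0
  · exact bk_N_6_1
  · exact bk_N_6_2
  · exact bk_N_6_3
  · exact bk_N_6_4
  · exact bk_N_6_5
  · exact bk_N_6_6
  · exact bk_N_6_7
  · exact bk_N_6_8
  · exact bk_N_6_9
  · exact bk_N_6_10
  · exact bk_N_6_11
  · exact bk_N_6_12
  · exact bk_N_6_13
  · exact bk_N_6_14
  · exact bk_N_6_15
  · exact bk_N_6_16
  · exact bk_N_6_17
  · exact bk_N_6_18
  · exact bk_N_6_19
  · exact bk_N_6_20

end Cfsg.Agent.H34
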