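import Cfsg.Agent.H34.BlkCls

/-!
# The passes over the elements of `M22`, part 7 (helper34 library)

Kernel evaluations: every element `s * r2 * r1` with `r1` the element number 7 of the first
transversal has a class and separates the twin classes; the xor of the contributions of
the square roots.
-/

set_option autoImplicit false
set_option Elab.async false

namespace Cfsg.Agent.H34

open Cfsg Cfsg.Agent.H9

theorem bk_T_7_0 : blockT (mid 7 0) = true := by decide +kernel

theorem bk_N_7_0 : blockN (mid 7 0) = cN 7 0 := by decide +kernel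

theorem bk_T_7_1 : blockT (mid 7 1) = true := by decide +kernel

theorem bk_N_7_1 : blockN (mid 7 1) = cN 7 1 := by decide +kernel

theorem bk_T_7_2 : blockT (mid 7 2) = true := by decide +kernel

theorem bk_N_7_2 : blockN (mid 7 2) = cN 7 2 := by decide +kernel

theorem bk_T_7_3 : blockT (mid 7 3) = true := by decide +kernel

theorem bk_N_7_3 : blockN (mid 7 3) = cN 7 3 := by decide +kernel

theorem bk_T_7_4 : blockT (mid 7 4) = true := by decide +kernel

theorem bk_N_7_4 : blockN (mid 7 4) = cN 7 4 := by decide +kernel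

theorem bk_T_7_5 : blockT (mid 7 5) = true := by decide +kernel

theorem bk_N_7_5 : blockN (mid 7 5) = cN 7 5 := by decide +kernel

theorem bk_T_7_6 : blockT (mid 7 6) = true := by decide +kernel

theorem bk_N_7_6 : blockN (mid 7 6) = cN 7 6 := by decide +kernel

theorem bk_T_7_7 : blockT (mid 7 7) = true := by decide +kernel

theorem bk_N_7_7 : blockN (mid 7 7) = cN 7 7 := by decide +kernel

theorem bk_T_7_8 : blockT (mid 7 8) = true := by decide +kernel

theorem bk_N_7_8 : blockN (mid 7 8) = cN 7 8 := by decide +kernel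

theorem bk_T_7_9 : blockT (mid 7 9) = true := by decide +kernel

theorem bk_N_7_9 : blockN (mid 7 9) = cN 7 9 := by decide +kernel

theorem bk_T_7_10 : blockT (mid 7 10) = true := by decide +kernel

theorem bk_N_7_10 : blockN (mid 7 10) = cN 7 10 := by decide +kernel

theorem bk_T_7_11 : blockT (mid 7 11) = true := by decide +kernel

theorem bk_N_7_11 : blockN (mid 7 11) = cN 7 11 := by decide +kernel

theorem bk_T_7_12 : blockT (mid 7 12) = true := by decide +kernel

theorem bk_N_7_12 : blockN (mid 7 12) = cN 7 12 := by decide +kernel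

theorem bk_T_7_13 : blockT (mid 7 13) = true := by decide +kernel

theorem bk_N_7_13 : blockN (mid 7 13) = cN 7 13 := by decide +kernel

theorem bk_T_7_14 : blockT (mid 7 14) = true := by decide +kernel

theorem bk_N_7_14 : blockN (mid 7 14) = cN 7 14 := by decide +kernel

theorem bk_T_7_15 : blockT (mid 7 15) = true := by decide +kernel

theorem bk_N_7_15 : blockN (mid 7 15) = cN 7 15 := by decide +kernel

theorem bk_T_7_16 : blockT (mid 7 16) = true := by decide +kernel

theorem bk_N_7_16 : blockN (mid 7 16) = cN 7 16 := by decide +kernel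

theorem bk_T_7_17 : blockT (mid 7 17) = true := by decide +kernel

theorem bk_N_7_17 : blockN (mid 7 17) = cN 7 17 := by decide +kernel

theorem bk_T_7_18 : blockT (mid 7 18) = true := by decide +kernel

theorem bk_N_7_18 : blockN (mid 7 18) = cN 7 18 := by decide +kernel

theorem bk_T_7_19 : blockT (mid 7 19) = true := by decide +kernel

theorem bk_N_7_19 : blockN (mid 7 19) = cN 7 19 := by decide +kernel

theorem bk_T_7_20 : blockT (mid 7 20) = true := by decide +kernel

theorem bk_N_7_20 : blockN (mid 7 20) = cN 7 20 := by decide +kernel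

theorem bk_T_7 : ∀ k, k < 21 → blockT (mid 7 k) = true := by
  intro k hk
  interval_cases k
  · exact bk_T_7_0
  · exact bk_T_7_1
  · exact bk_T_7_2
  · exact bk_T_7_3
  · exact bk_T_7_4
  · exact bk_T_7_5
  · exact bk_T_7_6
  · exact bk_T_7_7
  · exact bk_T_7_8
  · exact bk_T_7_9
  · exact bk_T_7_10
  · exact bk_T_7_11
  · exact bk_T_7_12
  · exact bk_T_7_13
  · exact bk_T_7_14
  · exact bk_T_7_15
  · exact bk_T_7_16
  · exact bk_T_7_17
  · exact bk_T_7_18
  · exact bk_T_7_19
  · exact bk_T_7_20

theorem bk_N_7 : ∀ k, k < 21 → blockN (mid 7 k) = cN 7 k := by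
  intro k hk
  interval_cases k
  · exact bk_N_7_0
  · exact bk_N_7_1
  · exact bk_N_7_2
  · exact bk_N_7_3
  · exact bk_N_7_4
  · exact bk_N_7_5
  · exact bk_N_7_6
  · exact bk_N_7_7
  · exact bk_N_7_8
  · exact bk_N_7_9
  · exact bk_N_7_10
  · exact bk_N_7_11
  · exact bk_N_7_12
  · exact bk_N_7_13
  · exact bk_N_7_14
  · exact bk_N_7_15
  · exact bk_N_7_16
  · exact bk_N_7_17
  · exact bk_N_7_18
  · exact bk_N_7_19
  · exact bk_N_7_20

end Cfsg.Agent.H34
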