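import Cfsg.Agent.H34.BlkCls

/-!
# The passes over the elements of `M22`, part 8 (helper34 library)

Kernel evaluations: every element `s * r2 * r1` with `r1` the element number 8 of the first
transversal has a class and separates the twin classes; the xor of the contributions of
the square roots.
-/

set_option autoImplicit false
set_option Elab.async false

namespace Cfsg.Agent.H34

open Cfsg Cfsg.Agent.H9

theorem bk_T_8_0 : blockT (mid 8 0) = true := by decide +kernel

theorem bk_N_8_0 : blockN (mid 8 0) = cN 8 0 := by decide +kernel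

theorem bk_T_8_1 : blockT (mid 8 1) = true := by decide +kernel

theorem bk_N_8_1 : blockN (mid 8 1) = cN 8 1 := by decide +kernel

theorem bk_T_8_2 : blockT (mid 8 2) = true := by decide +kernel

theorem bk_N_8_2 : blockN (mid 8 2) = cN 8 2 := by decide +kernel

theorem bk_T_8_3 : blockT (mid 8 3) = true := by decide +kernel

theorem bk_N_8_3 : blockN (mid 8 3) = cN 8 3 := by decide +kernel

theorem bk_T_8_4 : blockT (mid 8 4) = true := by decide +kernel

theorem bk_N_8_4 : blockN (mid 8 4) = cN 8 4 := by decide +kernel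

theorem bk_T_8_5 : blockT (mid 8 5) = true := by decide +kernel

theorem bk_N_8_5 : blockN (mid 8 5) = cN 8 5 := by decide +kernel

theorem bk_T_8_6 : blockT (mid 8 6) = true := by decide +kernel

theorem bk_N_8_6 : blockN (mid 8 6) = cN 8 6 := by decide +kernel

theorem bk_T_8_7 : blockT (mid 8 7) = true := by decide +kernel

theorem bk_N_8_7 : blockN (mid 8 7) = cN 8 7 := by decide +kernel

theorem bk_T_8_8 : blockT (mid 8 8) = true := by decide +kernel

theorem bk_N_8_8 : blockN (mid 8 8) = cN 8 8 := by decide +kernel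

theorem bk_T_8_9 : blockT (mid 8 9) = true := by decide +kernel

theorem bk_N_8_9 : blockN (mid 8 9) = cN 8 9 := by decide +kernel

theorem bk_T_8_10 : blockT (mid 8 10) = true := by decide +kernel

theorem bk_N_8_10 : blockN (mid 8 10) = cN 8 10 := by decide +kernel

theorem bk_T_8_11 : blockT (mid 8 11) = true := by decide +kernel

theorem bk_N_8_11 : blockN (mid 8 11) = cN 8 11 := by decide +kernel

theorem bk_T_8_12 : blockT (mid 8 12) = true := by decide +kernel

theorem bk_N_8_12 : blockN (mid 8 12) = cN 8 12 := by decide +kernel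

theorem bk_T_8_13 : blockT (mid 8 13) = true := by decide +kernel

theorem bk_N_8_13 : blockN (mid 8 13) = cN 8 13 := by decide +kernel

theorem bk_T_8_14 : blockT (mid 8 14) = true := by decide +kernel

theorem bk_N_8_14 : blockN (mid 8 14) = cN 8 14 := by decide +kernel

theorem bk_T_8_15 : blockT (mid 8 15) = true := by decide +kernel

theorem bk_N_8_15 : blockN (mid 8 15) = cN 8 15 := by decide +kernel

theorem bk_T_8_16 : blockT (mid 8 16) = true := by decide +kernel

theorem bk_N_8_16 : blockN (mid 8 16) = cN 8 16 := by decide +kernel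

theorem bk_T_8_17 : blockT (mid 8 17) = true := by decide +kernel

theorem bk_N_8_17 : blockN (mid 8 17) = cN 8 17 := by decide +kernel

theorem bk_T_8_18 : blockT (mid 8 18) = true := by decide +kernel

theorem bk_N_8_18 : blockN (mid 8 18) = cN 8 18 := by decide +kernel

theorem bk_T_8_19 : blockT (mid 8 19) = true := by decide +kernel

theorem bk_N_8_19 : blockN (mid 8 19) = cN 8 19 := by decide +kernel

theorem bk_T_8_20 : blockT (mid 8 20) = true := by decide +kernel

theorem bk_N_8_20 : blockN (mid 8 20) = cN 8 20 := by decide +kernel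

theorem bk_T_8 : ∀ k, k < 21 → blockT (mid 8 k) = true := by
  intro k hk
  interval_cases k
  · exact bk_T_8_0
  · exact bk_T_8_1
  · exact bk_T_8_2
  · exact bk_T_8_3
  · exact bk_T_8_4
  · exact bk_T_8_5
  · exact bk_T_8_6
  · exact bk_T_8_7
  · exact bk_T_8_8
  · exact bk_T_8_9
  · exact bk_T_8_10
  · exact bk_T_8_11
  · exact bk_T_8_12
  · exact bk_T_8_13
  · exact bk_T_8_14
  · exact bk_T_8_15
  · exact bk_T_8_16
  · exact bk_T_8_17
  · exact bk_T_8_18
  · exact bk_T_8_19
  · exact bk_T_8_20

theorem bk_N_8 : ∀ k, k < 21 → blockN (mid 8 k) = cN 8 k := by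
  intro k hk
  interval_cases k
  · exact bk_N_8_0
  · exact bk_N_8_1
  · exact bk_N_8_2
  · exact bk_N_8_3
  · exact bk_N_8_4
  · exact bk_N_8_5
  · exact bk_N_8_6
  · exact bk_N_8_7
  · exact bk_N_8_8
  · exact bk_N_8_9
  · exact bk_N_8_10
  · exact bk_N_8_11
  · exact bk_N_8_12
  · exact bk_N_8_13
  · exact bk_N_8_14
  · exact bk_N_8_15
  · exact bk_N_8_16
  · exact bk_N_8_17
  · exact bk_N_8_18
  · exact bk_N_8_19
  · exact bk_N_8_20

end Cfsg.Agent.H34
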