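import Cfsg.Agent.H34.BlkCls

/-!
# The passes over the elements of `M22`, part 9 (helper34 library)

Kernel evaluations: every element `s * r2 * r1` with `r1` the element number 9 of the first
transversal has a class and separates the twin classes; the xor of the contributions of
the square roots.
-/

set_option autoImplicit false
set_option Elab.async false

namespace Cfsg.Agent.H34

open Cfsg Cfsg.Agent.H9

theorem bk_T_9_0 : blockT (mid 9 0) = true := by decide +kernel

theorem bk_N_9_0 : blockN (mid 9 0) = cN 9 0 := by decide +kernel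

theorem bk_T_9_1 : blockT (mid 9 1) = true := by decide +kernel

theorem bk_N_9_1 : blockN (mid 9 1) = cN 9 1 := by decide +kernel

theorem bk_T_9_2 : blockT (mid 9 2) = true := by decide +kernel

theorem bk_N_9_2 : blockN (mid 9 2) = cN 9 2 := by decide +kernel

theorem bk_T_9_3 : blockT (mid 9 3) = true := by decide +kernel

theorem bk_N_9_3 : blockN (mid 9 3) = cN 9 3 := by decide +kernel

theorem bk_T_9_4 : blockT (mid 9 4) = true := by decide +kernel

theorem bk_N_9_4 : blockN (mid 9 4) = cN 9 4 := by decide +kernel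

theorem bk_T_9_5 : blockT (mid 9 5) = true := by decide +kernel

theorem bk_N_9_5 : blockN (mid 9 5) = cN 9 5 := by decide +kernel

theorem bk_T_9_6 : blockT (mid 9 6) = true := by decide +kernel

theorem bk_N_9_6 : blockN (mid 9 6) = cN 9 6 := by decide +kernel

theorem bk_T_9_7 : blockT (mid 9 7) = true := by decide +kernel

theorem bk_N_9_7 : blockN (mid 9 7) = cN 9 7 := by decide +kernel

theorem bk_T_9_8 : blockT (mid 9 8) = true := by decide +kernel

theorem bk_N_9_8 : blockN (mid 9 8) = cN 9 8 := by decide +kernel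

theorem bk_T_9_9 : blockT (mid 9 9) = true := by decide +kernel

theorem bk_N_9_9 : blockN (mid 9 9) = cN 9 9 := by decide +kernel

theorem bk_T_9_10 : blockT (mid 9 10) = true := by decide +kernel

theorem bk_N_9_10 : blockN (mid 9 10) = cN 9 10 := by decide +kernel

theorem bk_T_9_11 : blockT (mid 9 11) = true := by decide +kernel

theorem bk_N_9_11 : blockN (mid 9 11) = cN 9 11 := by decide +kernel

theorem bk_T_9_12 : blockT (mid 9 12) = true := by decide +kernel

theorem bk_N_9_12 : blockN (mid 9 12) = cN 9 12 := by decide +kernel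

theorem bk_T_9_13 : blockT (mid 9 13) = true := by decide +kernel

theorem bk_N_9_13 : blockN (mid 9 13) = cN 9 13 := by decide +kernel

theorem bk_T_9_14 : blockT (mid 9 14) = true := by decide +kernel

theorem bk_N_9_14 : blockN (mid 9 14) = cN 9 14 := by decide +kernel

theorem bk_T_9_15 : blockT (mid 9 15) = true := by decide +kernel

theorem bk_N_9_15 : blockN (mid 9 15) = cN 9 15 := by decide +kernel

theorem bk_T_9_16 : blockT (mid 9 16) = true := by decide +kernel

theorem bk_N_9_16 : blockN (mid 9 16) = cN 9 16 := by decide +kernel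

theorem bk_T_9_17 : blockT (mid 9 17) = true := by decide +kernel

theorem bk_N_9_17 : blockN (mid 9 17) = cN 9 17 := by decide +kernel

theorem bk_T_9_18 : blockT (mid 9 18) = true := by decide +kernel

theorem bk_N_9_18 : blockN (mid 9 18) = cN 9 18 := by decide +kernel

theorem bk_T_9_19 : blockT (mid 9 19) = true := by decide +kernel

theorem bk_N_9_19 : blockN (mid 9 19) = cN 9 19 := by decide +kernel

theorem bk_T_9_20 : blockT (mid 9 20) = true := by decide +kernel

theorem bk_N_9_20 : blockN (mid 9 20) = cN 9 20 := by decide +kernel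

theorem bk_T_9 : ∀ k, k < 21 → blockT (mid 9 k) = true := by
  intro k hk
  interval_cases k
  · exact bk_T_9_0
  · exact bk_T_9_1
  · exact bk_T_9_2
  · exact bk_T_9_3
  · exact bk_T_9_4
  · exact bk_T_9_5
  · exact bk_T_9_6
  · exact bk_T_9_7
  · exact bk_T_9_8
  · exact bk_T_9_9
  · exact bk_T_9_10
  · exact bk_T_9_11
  · exact bk_T_9_12
  · exact bk_T_9_13
  · exact bk_T_9_14
  · exact bk_T_9_15
  · exact bk_T_9_16
  · exact bk_T_9_17
  · exact bk_T_9_18
  · exact bk_T_9_19
  · exact bk_T_9_20

theorem bk_N_9 : ∀ k, k < 21 → blockN (mid 9 k) = cN 9 k := by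
  intro k hk
  interval_cases k
  · exact bk_N_9_0
  · exact bk_N_9_1
  · exact bk_N_9_2
  · exact bk_N_9_3
  · exact bk_N_9_4
  · exact bk_N_9_5
  · exact bk_N_9_6
  · exact bk_N_9_7
  · exact bk_N_9_8
  · exact bk_N_9_9
  · exact bk_N_9_10
  · exact bk_N_9_11
  · exact bk_N_9_12
  · exact bk_N_9_13
  · exact bk_N_9_14
  · exact bk_N_9_15
  · exact bk_N_9_16
  · exact bk_N_9_17
  · exact bk_N_9_18
  · exact bk_N_9_19
  · exact bk_N_9_20

end Cfsg.Agent.H34
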