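import Cfsg.Agent.H34.D11Data

/-!
# Degree eleven: roots of the elements of the two-point stabiliser of the linear group (helper34)
-/

set_option autoImplicit false
set_option maxRecDepth 100000

namespace Cfsg.Agent.H34

open Cfsg Cfsg.Agent.H9

theorem d_E2_1_2 : dfsR (fun F => chkC 2 984818244264577355198908328115996704 F FL) (leafV leafB) FL F0P 0 = true := by
  decide +kernel

theorem d_E2_1_3 : dfsR (fun F => chkC 3 984818244264577355198908328115996704 F FL) (leafV leafB) FL F0P 0 = true := by
  decide +kernel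

theorem d_E2_2_2 : dfsR (fun F => chkC 2 984818244225929507888656667330807840 F FL) (leafV leafB) FL F0P 0 = true := by
  decide +kernel

theorem d_E2_2_3 : dfsR (fun F => chkC 3 984818244225929507888656667330807840 F FL) (leafV leafB) FL F0P 0 = true := by
  decide +kernel

theorem d_E2_3_2 : dfsR (fun F => chkC 2 984818243993815750527003041753237536 F FL) (leafV leafB) FL F0P 0 = true := by
  decide +kernel

theorem d_E2_3_3 : dfsR (fun F => chkC 3 984818243993815750527003041753237536 F FL) (leafV leafB) FL F0P 0 = true := by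
  decide +kernel

theorem d_E2_4_2 : dfsR (fun F => chkC 2 984818244187206102728307550370007072 F FL) (leafV leafB) FL F0P 0 = true := by
  decide +kernel

theorem d_E2_4_3 : dfsR (fun F => chkC 3 984818244187206102728307550370007072 F FL) (leafV leafB) FL F0P 0 = true := by
  decide +kernel

theorem d_E2_5_2 : dfsR (fun F => chkC 2 984818244032841387142767088661432352 F FL) (leafV leafB) FL F0P 0 = true := by
  decide +kernel

theorem d_E2_5_3 : dfsR (fun F => chkC 3 984818244032841387142767088661432352 F FL) (leafV leafB) FL F0P 0 = true := by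
  decide +kernel

theorem d_E2 : ∀ g ∈ dS3, g ≠ idP → dfsR (fun F => chkC 2 g F FL) (leafV leafB) FL F0P 0 = true ∧
    dfsR (fun F => chkC 3 g F FL) (leafV leafB) FL F0P 0 = true := by
  intro g hg hne
  simp only [dS3, List.mem_cons, List.mem_nil_iff, or_false] at hg
  rcases hg with rfl | rfl | rfl | rfl | rfl | rfl
  · exact absurd rfl hne
  · exact ⟨d_E2_1_2, d_E2_1_3⟩
  · exact ⟨d_E2_2_2, d_E2_2_3⟩
  · exact ⟨d_E2_3_2, d_E2_3_3⟩
  · exact ⟨d_E2_4_2, d_E2_4_3⟩
  · exact ⟨d_E2_5_2, d_E2_5_3⟩

end Cfsg.Agent.H34
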