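import Cfsg.Agent.H34.D11E1
import Cfsg.Agent.H34.D11E2

/-!
# Groups on eleven of the 24 points containing the element of order eleven (helper34 library)

`D11Hyp H`: the subgroup `H` of the permutations of the 24 points contains `lperm dtP`, fixes
the points outside the eleven points `OmL`, and has no cycle of length `2`, `3`, `5`, `7`.
`d11_dich`: a non-trivial two-point stabiliser of such a group has an element of one of the
two families `dG1`, `dG2`; `d11_core`: with an element of `dG1`, the group is sharply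
4-transitive on the eleven points or is generated by `lperm dtP` and `lperm dlP`.
-/

set_option autoImplicit false

namespace Cfsg.Agent.H34

open Cfsg Cfsg.Agent.H9

/-- The hypotheses on the group. -/
structure D11Hyp (H : Subgroup (Equiv.Perm GolayPt)) : Prop where
  ht : lperm dtP ∈ H
  sup : ∀ c ∈ H, ∀ q, gIdx q ∉ OmL → c q = q
  nobad : ∀ c ∈ H, ¬ BadC c

theorem dtP_valid : svalid dtP = true := by
  have h := d_gen_valid
  simp only [Bool.and_eq_true] at h
  exact h.1

theorem dlP_valid : svalid dlP = true := by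
  have h := d_gen_valid
  simp only [Bool.and_eq_true] at h
  exact h.2.1

theorem dhP_valid : svalid dhP = true := by
  have h := d_gen_valid
  simp only [Bool.and_eq_true] at h
  exact h.2.2.1

theorem dsgP_valid : svalid dsgP = true := by
  have h := d_gen_valid
  simp only [Bool.and_eq_true] at h
  exact h.2.2.2

theorem dG1_valid {s : ℕ} (hs : s ∈ dG1) : svalid s = true := List.all_eq_true.mp d_G1_valid s hs

theorem dG2_valid {s : ℕ} (hs : s ∈ dG2) : svalid s = true := List.all_eq_true.mp d_G2_valid s hs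

/-- The entries of a list found in a straight-line program are in every subgroup containing the
generators. -/
theorem slp_mem {S : Subgroup (Equiv.Perm GolayPt)} {gens : List ℕ} {L : List (ℕ × ℕ × ℕ)}
    (hL : slpL gens L = true) (hg : ∀ g ∈ gens, svalid g = true ∧ lperm g ∈ S) {T : List ℕ}
    (hT : T.all (fun s => L.any (fun e => Nat.beq e.1 s)) = true) :
    ∀ s ∈ T, svalid s = true ∧ lperm s ∈ S := by
  have h1 := slpL_sound (Q := fun s => svalid s = true ∧ lperm s ∈ S) hg
    (fun r s t hr hs ht hp => ⟨hr, by rw [prB_sound hr hs.1 ht.1 hp]; exact S.mul_mem hs.2 ht.2⟩)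
    L hL
  intro s hs
  obtain ⟨e, he, hes⟩ := List.any_eq_true.mp (List.all_eq_true.mp hT s hs)
  rw [← Nat.eq_of_beq_eq_true hes]
  exact h1 e he

theorem one_ok (S : Subgroup (Equiv.Perm GolayPt)) : svalid idP = true ∧ lperm idP ∈ S :=
  ⟨idP_valid, by rw [lperm_idP]; exact S.one_mem⟩

theorem mem_TP {S : Subgroup (Equiv.Perm GolayPt)} (ht : lperm dtP ∈ S) :
    ∀ s ∈ dTP, svalid s = true ∧ lperm s ∈ S := by
  refine slp_mem d_slpT ?_ d_T_in
  intro g hg
  simp only [List.mem_cons, List.mem_nil_iff, or_false] at hg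
  rcases hg with rfl | rfl
  · exact one_ok S
  · exact ⟨dtP_valid, ht⟩

theorem mem_L {S : Subgroup (Equiv.Perm GolayPt)} (ht : lperm dtP ∈ S) (hl : lperm dlP ∈ S) :
    ∀ s ∈ dLB ++ (dVL ++ dS3), svalid s = true ∧ lperm s ∈ S := by
  refine slp_mem d_slpL ?_ d_L_in
  intro g hg
  simp only [List.mem_cons, List.mem_nil_iff, or_false] at hg
  rcases hg with rfl | rfl | rfl
  · exact one_ok S
  · exact ⟨dtP_valid, ht⟩
  · exact ⟨dlP_valid, hl⟩

theorem mem_LB {S : Subgroup (Equiv.Perm GolayPt)} (ht : lperm dtP ∈ S) (hl : lperm dlP ∈ S) :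
    ∀ s ∈ dLB, svalid s = true ∧ lperm s ∈ S :=
  fun s hs => mem_L ht hl s (List.mem_append_left _ hs)

theorem mem_VL {S : Subgroup (Equiv.Perm GolayPt)} (ht : lperm dtP ∈ S) (hl : lperm dlP ∈ S) :
    ∀ s ∈ dVL, svalid s = true ∧ lperm s ∈ S :=
  fun s hs => mem_L ht hl s (List.mem_append_right _ (List.mem_append_left _ hs))

theorem mem_S3 {S : Subgroup (Equiv.Perm GolayPt)} (ht : lperm dtP ∈ S) (hl : lperm dlP ∈ S) :
    ∀ s ∈ dS3, svalid s = true ∧ lperm s ∈ S :=
  fun s hs => mem_L ht hl s (List.mem_append_right _ (List.mem_append_right _ hs))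

theorem mem_M {S : Subgroup (Equiv.Perm GolayPt)} (ht : lperm dtP ∈ S) (hl : lperm dlP ∈ S)
    (hh : lperm dhP ∈ S) : ∀ s ∈ dWL ++ dZL, svalid s = true ∧ lperm s ∈ S := by
  refine slp_mem d_slpM ?_ d_M_in
  intro g hg
  simp only [List.mem_cons, List.mem_nil_iff, or_false] at hg
  rcases hg with rfl | rfl | rfl | rfl
  · exact one_ok S
  · exact ⟨dtP_valid, ht⟩
  · exact ⟨dlP_valid, hl⟩
  · exact ⟨dhP_valid, hh⟩

theorem dS3_valid {s : ℕ} (hs : s ∈ dS3) : svalid s = true := by
  have ht : lperm dtP ∈ (⊤ : Subgroup (Equiv.Perm GolayPt)) := Subgroup.mem_top _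
  have hl : lperm dlP ∈ (⊤ : Subgroup (Equiv.Perm GolayPt)) := Subgroup.mem_top _
  exact (mem_S3 ht hl s hs).1

section

variable {H : Subgroup (Equiv.Perm GolayPt)}

theorem fix_FL (hyp : D11Hyp H) {z : Equiv.Perm GolayPt} (hz : z ∈ H) (h1 : z (gPt 1) = gPt 1)
    (h2 : z (gPt 2) = gPt 2) : ∀ i, i < 24 → i ∉ FL → z (gPt i) = gPt i := by
  intro i hi hn
  rcases FL_compl i hi hn with rfl | rfl | h
  · exact h1
  · exact h2
  · exact hyp.sup z hz _ (by rw [gIdx_gPt hi]; exact h)

theorem pow_fix {z : Equiv.Perm GolayPt} {q : GolayPt} (h : z q = q) (n : ℕ) : (z ^ n) q = q := by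
  induction n with
  | zero => rfl
  | succ n ih => rw [pow_succ, Equiv.Perm.mul_apply, h, ih]

/-- An element of order two or three of the two-point stabiliser is in one of the families. -/
theorem e1_cases (hyp : D11Hyp H) {z : Equiv.Perm GolayPt} (hz : z ∈ H)
    (h1 : z (gPt 1) = gPt 1) (h2 : z (gPt 2) = gPt 2) (hne : z ≠ 1)
    (hord : z ^ 2 = 1 ∨ z ^ 3 = 1) : ∃ s, (s ∈ dG1 ∨ s ∈ dG2) ∧ z = lperm s := by
  have hfix := fix_FL hyp hz h1 h2
  have key : ∀ P, svalid P = true → z = lperm P → leafA P = true →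
      ∃ s, (s ∈ dG1 ∨ s ∈ dG2) ∧ z = lperm s := by
    intro P hPv hzP hT
    unfold leafA at hT
    simp only [Bool.or_eq_true] at hT
    rcases hT with hT | hT | hT | hT
    · rw [Nat.eq_of_beq_eq_true hT, lperm_idP] at hzP
      exact absurd hzP hne
    · exact ⟨P, Or.inl (memB_iff.mp hT), hzP⟩
    · exact ⟨P, Or.inr (memB_iff.mp hT), hzP⟩
    · obtain ⟨w, _, hw⟩ := List.any_eq_true.mp hT
      obtain ⟨c, hc, hbad⟩ := tryW_sound hyp.sup (mem_TP hyp.ht) hPv (hzP ▸ hz) hw
      exact absurd hbad (hyp.nobad c hc)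
  rcases hord with h | h
  · obtain ⟨P, hPv, hzP, hT⟩ := roots_enum2 (T := leafA) idP_valid d_E1a hfix
      (by rw [h, lperm_idP])
    exact key P hPv hzP hT
  · obtain ⟨P, hPv, hzP, hT⟩ := roots_enum2 (T := leafA) idP_valid d_E1b hfix
      (by rw [h, lperm_idP])
    exact key P hPv hzP hT

/-- From an element of the first family, the involution `dlP`. -/
theorem l_mem (hyp : D11Hyp H) {s : ℕ} (hs : s ∈ dG1) (hsH : lperm s ∈ H) : lperm dlP ∈ H := by
  obtain ⟨w, _, hw⟩ := zipAllB_spec d_W1 s hs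
  exact wordIs_sound (mem_TP hyp.ht) (dG1_valid hs) hsH dlP_valid hw

/-- The second family is excluded in the presence of `dlP`. -/
theorem G2_not_mem (hyp : D11Hyp H) (hl : lperm dlP ∈ H) {s : ℕ} (hs : s ∈ dG2) :
    lperm s ∉ H := by
  intro hsH
  obtain ⟨w, _, hw⟩ := List.any_eq_true.mp (List.all_eq_true.mp d_G2 s hs)
  obtain ⟨c, hc, hbad⟩ := tryW_sound hyp.sup (mem_LB hyp.ht hl) (dG2_valid hs) hsH hw
  exact hyp.nobad c hc hbad

/-- An element of prime order of the two-point stabiliser has order two or three. -/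
theorem prime_23 (hyp : D11Hyp H) {z : Equiv.Perm GolayPt} (hz : z ∈ H)
    (h1 : z (gPt 1) = gPt 1) (h2 : z (gPt 2) = gPt 2) (hq : (orderOf z).Prime) :
    z ^ 2 = 1 ∨ z ^ 3 = 1 := by
  classical
  have hfix := fix_FL hyp hz h1 h2
  have hsupp : z.support ⊆ (FL.map gPt).toFinset := by
    intro q hq'
    rw [Equiv.Perm.mem_support] at hq'
    rw [List.mem_toFinset, List.mem_map]
    refine ⟨gIdx q, ?_, gPt_gIdx q⟩
    by_contra hn
    have := hfix _ (gIdx_lt q) hn
    rw [gPt_gIdx] at this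
    exact hq' this
  have hcard : z.support.card ≤ 9 := by
    refine (Finset.card_le_card hsupp).trans ((List.toFinset_card_le _).trans ?_)
    rw [List.length_map]
    exact le_of_eq rfl
  by_cases h5 : 5 ≤ orderOf z
  · exfalso
    have hcyc : z.IsCycle := Equiv.Perm.isCycle_of_prime_order hq (by omega)
    have hoc := hcyc.orderOf
    have h9 : orderOf z ≤ 9 := by omega
    apply hyp.nobad z hz
    refine ⟨hcyc, ?_⟩
    rw [← hoc]
    have : orderOf z = 5 ∨ orderOf z = 7 := by
      revert hq h5 h9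
      generalize orderOf z = n
      intro hq h5 h9
      interval_cases n
      · exact Or.inl rfl
      · exact absurd hq (by norm_num)
      · exact Or.inr rfl
      · exact absurd hq (by norm_num)
      · exact absurd hq (by norm_num)
    rcases this with e | e
    · exact Or.inr (Or.inr (Or.inl e))
    · exact Or.inr (Or.inr (Or.inr e))
  · have h2' := hq.two_le
    have : orderOf z = 2 ∨ orderOf z = 3 := by
      revert hq h5 h2'
      generalize orderOf z = n
      intro hq h5 h2'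
      have h4 : n < 5 := by omega
      interval_cases n
      · exact Or.inl rfl
      · exact Or.inr rfl
      · exact absurd hq (by norm_num)
    rcases this with e | e
    · exact Or.inl (by rw [← e]; exact pow_orderOf_eq_one z)
    · exact Or.inr (by rw [← e]; exact pow_orderOf_eq_one z)

/-- The elements of prime order of the two-point stabiliser are in the first family. -/
theorem prime_G1 (hyp : D11Hyp H) (hl : lperm dlP ∈ H) {z : Equiv.Perm GolayPt} (hz : z ∈ H)
    (h1 : z (gPt 1) = gPt 1) (h2 : z (gPt 2) = gPt 2) (hq : (orderOf z).Prime) :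
    ∃ s ∈ dG1, z = lperm s := by
  have hne : z ≠ 1 := by
    intro e
    rw [e, orderOf_one] at hq
    exact Nat.not_prime_one hq
  obtain ⟨s, hs, hzs⟩ := e1_cases hyp hz h1 h2 hne (prime_23 hyp hz h1 h2 hq)
  rcases hs with hs | hs
  · exact ⟨s, hs, hzs⟩
  · exact absurd (hzs ▸ hz) (G2_not_mem hyp hl hs)

/-- A power of prime order of a non-trivial element. -/
theorem exists_prime_pow {z : Equiv.Perm GolayPt} (hne : z ≠ 1) :
    ∃ k, (orderOf (z ^ k)).Prime := by
  have hpos : 0 < orderOf z := orderOf_pos z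
  have hn1 : orderOf z ≠ 1 := fun e => hne (orderOf_eq_one_iff.mp e)
  refine ⟨orderOf z / (orderOf z).minFac, ?_⟩
  rw [orderOf_pow_orderOf_div hpos.ne' (Nat.minFac_dvd _)]
  exact Nat.minFac_prime hn1

/-- A non-trivial two-point stabiliser has an element of one of the two families. -/
theorem d11_dich (hyp : D11Hyp H) {z : Equiv.Perm GolayPt} (hz : z ∈ H)
    (h1 : z (gPt 1) = gPt 1) (h2 : z (gPt 2) = gPt 2) (hne : z ≠ 1) :
    ∃ s, (s ∈ dG1 ∨ s ∈ dG2) ∧ lperm s ∈ H := by
  obtain ⟨k, hk⟩ := exists_prime_pow hne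
  have hzk : z ^ k ∈ H := H.pow_mem hz k
  have h1k := pow_fix h1 k
  have h2k := pow_fix h2 k
  have hnek : z ^ k ≠ 1 := by
    intro e
    rw [e, orderOf_one] at hk
    exact Nat.not_prime_one hk
  obtain ⟨s, hs, hzs⟩ := e1_cases hyp hzk h1k h2k hnek (prime_23 hyp hzk h1k h2k hk)
  exact ⟨s, hs, hzs ▸ hzk⟩

/-- One step along a chain of transversals. -/
theorem cov_step {TL fixed : List ℕ} {c : ℕ} (hcov : covB TL fixed c = true)
    (hTL : ∀ s ∈ TL, svalid s = true ∧ lperm s ∈ H) (hfx : ∀ f ∈ fixed, f < 24) {q : GolayPt}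
    (hq : gIdx q ∈ OmL) (hq' : gIdx q ∉ fixed) :
    ∃ s ∈ TL, lperm s q = gPt c ∧ ∀ f ∈ fixed, lperm s (gPt f) = gPt f := by
  unfold covB at hcov
  rw [Bool.and_eq_true] at hcov
  obtain ⟨hA, hB⟩ := hcov
  have h1 := List.all_eq_true.mp hB _ hq
  rw [Bool.or_eq_true] at h1
  rcases h1 with h1 | h1
  · exact absurd (memB_iff.mp h1) hq'
  · obtain ⟨s, hs, hsc⟩ := List.any_eq_true.mp h1
    have hv := (hTL s hs).1
    refine ⟨s, hs, ?_, ?_⟩
    · rw [lperm_apply hv, Nat.eq_of_beq_eq_true hsc]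
    · intro f hf
      have h2 := List.all_eq_true.mp (List.all_eq_true.mp hA s hs) f hf
      rw [lperm_apply hv, gIdx_gPt (hfx f hf), Nat.eq_of_beq_eq_true h2]

theorem pres_H (hyp : D11Hyp H) {z : Equiv.Perm GolayPt} (hz : z ∈ H) {q : GolayPt}
    (hq : gIdx q ∈ OmL) : gIdx (z q) ∈ OmL := pres_Om (hyp.sup z hz) hq

theorem eq_gPt_of_gIdx {q : GolayPt} {k : ℕ} (h : gIdx q = k) : q = gPt k := by
  rw [← h, gPt_gIdx]

/-- With `dlP` and `dhP`, any four of the eleven points can be moved to the first four. -/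
theorem to_base (hyp : D11Hyp H) (hl : lperm dlP ∈ H) (hh : lperm dhP ∈ H)
    (a : Fin 4 → GolayPt) (ha : Function.Injective a) (haO : ∀ i, gIdx (a i) ∈ OmL) :
    ∃ z ∈ H, z (a 0) = gPt 1 ∧ z (a 1) = gPt 2 ∧ z (a 2) = gPt 3 ∧ z (a 3) = gPt 6 := by
  have hM := mem_M hyp.ht hl hh
  have hW : ∀ s ∈ dWL, svalid s = true ∧ lperm s ∈ H :=
    fun s hs => hM s (List.mem_append_left _ hs)
  have hZ : ∀ s ∈ dZL, svalid s = true ∧ lperm s ∈ H :=
    fun s hs => hM s (List.mem_append_right _ hs)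
  have ne01 : a 1 ≠ a 0 := fun e => absurd (ha e) (by decide)
  have ne02 : a 2 ≠ a 0 := fun e => absurd (ha e) (by decide)
  have ne12 : a 2 ≠ a 1 := fun e => absurd (ha e) (by decide)
  have ne03 : a 3 ≠ a 0 := fun e => absurd (ha e) (by decide)
  have ne13 : a 3 ≠ a 1 := fun e => absurd (ha e) (by decide)
  have ne23 : a 3 ≠ a 2 := fun e => absurd (ha e) (by decide)
  -- first point
  obtain ⟨s1, hs1, h11, -⟩ := cov_step d_covT (mem_TP hyp.ht) (fixed := [])
    (fun f hf => absurd hf List.not_mem_nil) (haO 0) List.not_mem_nil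
  have hz1 : lperm s1 ∈ H := (mem_TP hyp.ht s1 hs1).2
  -- second point
  have hq1 : gIdx (lperm s1 (a 1)) ∉ [1] := by
    intro hm
    rw [List.mem_singleton] at hm
    have := eq_gPt_of_gIdx hm
    rw [← h11] at this
    exact ne01 ((lperm s1).injective this)
  obtain ⟨s2, hs2, h21, h2f⟩ := cov_step d_covV (mem_VL hyp.ht hl) (fixed := [1])
    (by decide) (pres_H hyp hz1 (haO 1)) hq1
  have hz2 : lperm s2 ∈ H := (mem_VL hyp.ht hl s2 hs2).2
  have h2a : lperm s2 (gPt 1) = gPt 1 := h2f 1 (by decide)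
  -- third point
  have hq2 : gIdx (lperm s2 (lperm s1 (a 2))) ∉ [1, 2] := by
    intro hm
    simp only [List.mem_cons, List.mem_nil_iff, or_false] at hm
    rcases hm with hm | hm
    · have := eq_gPt_of_gIdx hm
      rw [← h2a, ← h11] at this
      exact ne02 ((lperm s1).injective ((lperm s2).injective this))
    · have := eq_gPt_of_gIdx hm
      rw [← h21] at this
      exact ne12 ((lperm s1).injective ((lperm s2).injective this))
  obtain ⟨s3, hs3, h31, h3f⟩ := cov_step d_covW hW (fixed := [1, 2])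
    (by decide) (pres_H hyp hz2 (pres_H hyp hz1 (haO 2))) hq2
  have hz3 : lperm s3 ∈ H := (hW s3 hs3).2
  have h3a : lperm s3 (gPt 1) = gPt 1 := h3f 1 (by decide)
  have h3b : lperm s3 (gPt 2) = gPt 2 := h3f 2 (by decide)
  -- fourth point
  have hq3 : gIdx (lperm s3 (lperm s2 (lperm s1 (a 3)))) ∉ [1, 2, 3] := by
    intro hm
    simp only [List.mem_cons, List.mem_nil_iff, or_false] at hm
    rcases hm with hm | hm | hm
    · have := eq_gPt_of_gIdx hm
      rw [← h3a, ← h2a, ← h11] at this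
      exact ne03 ((lperm s1).injective ((lperm s2).injective ((lperm s3).injective this)))
    · have := eq_gPt_of_gIdx hm
      rw [← h3b, ← h21] at this
      exact ne13 ((lperm s1).injective ((lperm s2).injective ((lperm s3).injective this)))
    · have := eq_gPt_of_gIdx hm
      rw [← h31] at this
      exact ne23 ((lperm s1).injective ((lperm s2).injective ((lperm s3).injective this)))
  obtain ⟨s4, hs4, h41, h4f⟩ := cov_step d_covZ hZ (fixed := [1, 2, 3])
    (by decide) (pres_H hyp hz3 (pres_H hyp hz2 (pres_H hyp hz1 (haO 3)))) hq3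
  have hz4 : lperm s4 ∈ H := (hZ s4 hs4).2
  refine ⟨lperm s4 * lperm s3 * lperm s2 * lperm s1,
    H.mul_mem (H.mul_mem (H.mul_mem hz4 hz3) hz2) hz1, ?_, ?_, ?_, ?_⟩
  · simp only [Equiv.Perm.mul_apply]
    rw [h11, h2a, h3a, h4f 1 (by decide)]
  · simp only [Equiv.Perm.mul_apply]
    rw [h21, h3b, h4f 2 (by decide)]
  · simp only [Equiv.Perm.mul_apply]
    rw [h31, h4f 3 (by decide)]
  · simp only [Equiv.Perm.mul_apply]
    rw [h41]

theorem sv_of_fix {s i : ℕ} (hv : svalid s = true) (hi : i < 24) (h : lperm s (gPt i) = gPt i) :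
    sv s i = i := by
  have h1 := congrArg gIdx h
  rwa [gIdx_lperm hv, gIdx_gPt hi] at h1

/-- In the presence of `dlP`, an element fixing the first four points is trivial. -/
theorem base_sharp (hyp : D11Hyp H) (hl : lperm dlP ∈ H) {z : Equiv.Perm GolayPt} (hz : z ∈ H)
    (h1 : z (gPt 1) = gPt 1) (h2 : z (gPt 2) = gPt 2) (h3 : z (gPt 3) = gPt 3)
    (h6 : z (gPt 6) = gPt 6) : z = 1 := by
  by_contra hne
  obtain ⟨k, hk⟩ := exists_prime_pow hne
  obtain ⟨s, hs, hzs⟩ := prime_G1 hyp hl (H.pow_mem hz k) (pow_fix h1 k) (pow_fix h2 k) hk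
  have hv := dG1_valid hs
  have e3 : sv s 3 = 3 := sv_of_fix hv (by norm_num) (by rw [← hzs]; exact pow_fix h3 k)
  have e6 : sv s 6 = 6 := sv_of_fix hv (by norm_num) (by rw [← hzs]; exact pow_fix h6 k)
  have hf := List.all_eq_true.mp d_G1_fix s hs
  rw [e3, e6] at hf
  exact absurd hf (by decide)

/-- The roots of the non-trivial elements of `dS3`, when the elements of the first family in
the group are all in `dS3`. -/
theorem roots_S3 (hyp : D11Hyp H) (hl : lperm dlP ∈ H)
    (hB : ∀ m ∈ dG1, lperm m ∈ H → m ∈ dS3) {z : Equiv.Perm GolayPt} (hz : z ∈ H)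
    (h1 : z (gPt 1) = gPt 1) (h2 : z (gPt 2) = gPt 2) {g : ℕ} (hg : g ∈ dS3) (hne : g ≠ idP)
    {q : ℕ} (hq : q = 2 ∨ q = 3) (hzq : z ^ q = lperm g) : ∃ s ∈ dS3, z = lperm s := by
  have hfix := fix_FL hyp hz h1 h2
  obtain ⟨hE2, hE3⟩ := d_E2 g hg hne
  have key : ∀ P, svalid P = true → z = lperm P → leafB P = true → ∃ s ∈ dS3, z = lperm s := by
    intro P hPv hzP hT
    unfold leafB at hT
    simp only [Bool.or_eq_true] at hT
    rcases hT with hT | hT | hT
    · exact ⟨P, memB_iff.mp hT, hzP⟩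
    · obtain ⟨w, _, hw⟩ := List.any_eq_true.mp hT
      obtain ⟨c, hc, hbad⟩ := tryW_sound hyp.sup (mem_LB hyp.ht hl) hPv (hzP ▸ hz) hw
      exact absurd hbad (hyp.nobad c hc)
    · obtain ⟨w, _, hw⟩ := List.any_eq_true.mp hT
      obtain ⟨m, hm, hwm⟩ := List.any_eq_true.mp hw
      have hm2 := List.all_eq_true.mp d_GM m hm
      simp only [Bool.and_eq_true, Bool.not_eq_true'] at hm2
      have hmG : m ∈ dG1 := memB_iff.mp hm2.1
      have hmH : lperm m ∈ H :=
        wordIs_sound (mem_LB hyp.ht hl) hPv (hzP ▸ hz) (dG1_valid hmG) hwm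
      have hmS := memB_iff.mpr (hB m hmG hmH)
      rw [hm2.2] at hmS
      exact absurd hmS (by decide)
  rcases hq with rfl | rfl
  · obtain ⟨P, hPv, hzP, hT⟩ := roots_enumC (T := leafB) (dS3_valid hg) hE2 hfix hzq
    exact key P hPv hzP hT
  · obtain ⟨P, hPv, hzP, hT⟩ := roots_enumC (T := leafB) (dS3_valid hg) hE3 hfix hzq
    exact key P hPv hzP hT

/-- The two-point stabiliser is `dS3`, when the elements of the first family in the group are
all in `dS3`. -/
theorem stab_S3 (hyp : D11Hyp H) (hl : lperm dlP ∈ H)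
    (hB : ∀ m ∈ dG1, lperm m ∈ H → m ∈ dS3) :
    ∀ (n : ℕ) (z : Equiv.Perm GolayPt), z ∈ H → z (gPt 1) = gPt 1 → z (gPt 2) = gPt 2 →
      orderOf z = n → ∃ s ∈ dS3, z = lperm s := by
  intro n
  induction n using Nat.strong_induction_on with
  | _ n ih =>
    intro z hz h1 h2 hn
    by_cases hz1 : z = 1
    · exact ⟨idP, memB_iff.mp d_S3_one, by rw [lperm_idP, hz1]⟩
    have hpos : 0 < orderOf z := orderOf_pos z
    have hn1 : orderOf z ≠ 1 := fun e => hz1 (orderOf_eq_one_iff.mp e)
    have hqp : (orderOf z).minFac.Prime := Nat.minFac_prime hn1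
    have hqd : (orderOf z).minFac ∣ orderOf z := Nat.minFac_dvd _
    by_cases hqn : (orderOf z).minFac = orderOf z
    · obtain ⟨s, hs, hzs⟩ := prime_G1 hyp hl hz h1 h2 (hqn ▸ hqp)
      exact ⟨s, hB s hs (hzs ▸ hz), hzs⟩
    · -- the minimal prime factor is 2 or 3
      have hw : orderOf (z ^ (orderOf z / (orderOf z).minFac)) = (orderOf z).minFac :=
        orderOf_pow_orderOf_div hpos.ne' hqd
      have h23 := prime_23 hyp (H.pow_mem hz _) (pow_fix h1 _) (pow_fix h2 _) (hw ▸ hqp)
      have hq : (orderOf z).minFac = 2 ∨ (orderOf z).minFac = 3 := by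
        rcases h23 with h | h
        · have := orderOf_dvd_of_pow_eq_one h
          rw [hw] at this
          exact Or.inl ((Nat.prime_dvd_prime_iff_eq hqp Nat.prime_two).mp this)
        · have := orderOf_dvd_of_pow_eq_one h
          rw [hw] at this
          exact Or.inr ((Nat.prime_dvd_prime_iff_eq hqp Nat.prime_three).mp this)
      -- the power
      have ho : orderOf (z ^ (orderOf z).minFac) = orderOf z / (orderOf z).minFac :=
        orderOf_pow_of_dvd hqp.ne_zero hqd
      have hlt : orderOf z / (orderOf z).minFac < n := by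
        rw [← hn]
        exact Nat.div_lt_self hpos hqp.one_lt
      obtain ⟨g, hg, hzg⟩ := ih _ hlt (z ^ (orderOf z).minFac) (H.pow_mem hz _) (pow_fix h1 _)
        (pow_fix h2 _) ho
      have hgne : g ≠ idP := by
        intro e
        rw [e, lperm_idP] at hzg
        have h3 := orderOf_dvd_of_pow_eq_one hzg
        have h4 := Nat.le_of_dvd hqp.pos h3
        have h5 := Nat.le_of_dvd hpos hqd
        exact hqn (le_antisymm h5 h4)
      exact roots_S3 hyp hl hB hz h1 h2 hg hgne hq hzg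

/-- The group is generated by `dtP` and `dlP`, when the elements of the first family in the
group are all in `dS3`. -/
theorem eq_closure (hyp : D11Hyp H) (hl : lperm dlP ∈ H)
    (hB : ∀ m ∈ dG1, lperm m ∈ H → m ∈ dS3) :
    H = Subgroup.closure {lperm dtP, lperm dlP} := by
  have htC : lperm dtP ∈ Subgroup.closure ({lperm dtP, lperm dlP} : Set (Equiv.Perm GolayPt)) :=
    Subgroup.subset_closure (Set.mem_insert _ _)
  have hlC : lperm dlP ∈ Subgroup.closure ({lperm dtP, lperm dlP} : Set (Equiv.Perm GolayPt)) :=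
    Subgroup.subset_closure (Set.mem_insert_of_mem _ rfl)
  apply le_antisymm
  · intro z hz
    have hO1 : gIdx (gPt 1) ∈ OmL := by rw [gIdx_gPt (by norm_num)]; decide
    have hO2 : gIdx (gPt 2) ∈ OmL := by rw [gIdx_gPt (by norm_num)]; decide
    obtain ⟨a, ha, ha1, -⟩ := cov_step d_covT (mem_TP hyp.ht) (fixed := [])
      (fun f hf => absurd hf List.not_mem_nil) (pres_H hyp hz hO1) List.not_mem_nil
    have haH : lperm a ∈ H := (mem_TP hyp.ht a ha).2
    have hq1 : gIdx (lperm a (z (gPt 2))) ∉ [1] := by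
      intro hm
      rw [List.mem_singleton] at hm
      have := eq_gPt_of_gIdx hm
      rw [← ha1] at this
      have h12 := z.injective ((lperm a).injective this)
      have h3 := congrArg gIdx h12
      rw [gIdx_gPt (by norm_num), gIdx_gPt (by norm_num)] at h3
      exact absurd h3 (by norm_num)
    obtain ⟨v, hv, hv1, hvf⟩ := cov_step d_covV (mem_VL hyp.ht hl) (fixed := [1])
      (by decide) (pres_H hyp haH (pres_H hyp hz hO2)) hq1
    have hvH : lperm v ∈ H := (mem_VL hyp.ht hl v hv).2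
    have hz2 : lperm v * (lperm a * z) ∈ H := H.mul_mem hvH (H.mul_mem haH hz)
    have hf1 : (lperm v * (lperm a * z)) (gPt 1) = gPt 1 := by
      simp only [Equiv.Perm.mul_apply]
      rw [ha1, hvf 1 (by decide)]
    have hf2 : (lperm v * (lperm a * z)) (gPt 2) = gPt 2 := by
      simp only [Equiv.Perm.mul_apply]
      rw [hv1]
    obtain ⟨s, hs, hzs⟩ := stab_S3 hyp hl hB _ _ hz2 hf1 hf2 rfl
    have hz' : z = (lperm a)⁻¹ * ((lperm v)⁻¹ * lperm s) := by
      rw [← hzs]
      group
    rw [hz']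
    exact Subgroup.mul_mem _ (Subgroup.inv_mem _ (mem_TP htC a ha).2)
      (Subgroup.mul_mem _ (Subgroup.inv_mem _ (mem_VL htC hlC v hv).2) (mem_S3 htC hlC s hs).2)
  · rw [Subgroup.closure_le]
    intro x hx
    rcases hx with rfl | rfl
    · exact hyp.ht
    · exact hl

/-- **The dichotomy**: a group with an element of the first family is sharply 4-transitive on
the eleven points, or generated by `dtP` and `dlP`. -/
theorem d11_core (hyp : D11Hyp H) {s : ℕ} (hs : s ∈ dG1) (hsH : lperm s ∈ H) :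
    ((∀ a b : Fin 4 → GolayPt, Function.Injective a → Function.Injective b →
        (∀ i, gIdx (a i) ∈ OmL) → (∀ i, gIdx (b i) ∈ OmL) → ∃ z ∈ H, ∀ i, z (a i) = b i) ∧
      (∀ z ∈ H, ∀ a : Fin 4 → GolayPt, Function.Injective a → (∀ i, gIdx (a i) ∈ OmL) →
        (∀ i, z (a i) = a i) → z = 1)) ∨
    H = Subgroup.closure {lperm dtP, lperm dlP} := by
  have hl := l_mem hyp hs hsH
  by_cases hA : ∃ m ∈ dG1, m ∉ dS3 ∧ lperm m ∈ H
  · left
    obtain ⟨m, hm, hmS, hmH⟩ := hA
    have hh : lperm dhP ∈ H := by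
      obtain ⟨w, _, hw⟩ := zipAllB_spec d_W7 m hm
      rw [Bool.or_eq_true] at hw
      rcases hw with hw | hw
      · exact absurd (memB_iff.mp hw) hmS
      · exact wordIs_sound (mem_LB hyp.ht hl) (dG1_valid hm) hmH dhP_valid hw
    constructor
    · intro a b ha hb haO hbO
      obtain ⟨za, hza, a0, a1, a2, a3⟩ := to_base hyp hl hh a ha haO
      obtain ⟨zb, hzb, b0, b1, b2, b3⟩ := to_base hyp hl hh b hb hbO
      refine ⟨zb⁻¹ * za, H.mul_mem (H.inv_mem hzb) hza, ?_⟩
      intro i
      rw [Equiv.Perm.mul_apply, Equiv.Perm.inv_eq_iff_eq]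
      fin_cases i
      · exact a0.trans b0.symm
      · exact a1.trans b1.symm
      · exact a2.trans b2.symm
      · exact a3.trans b3.symm
    · intro z hz a ha haO hfix
      obtain ⟨y, hy, y0, y1, y2, y3⟩ := to_base hyp hl hh a ha haO
      have hconj : ∀ i k, y (a i) = gPt k → (y * z * y⁻¹) (gPt k) = gPt k := by
        intro i k e
        have e2 : y⁻¹ (y (a i)) = a i := Equiv.Perm.inv_eq_iff_eq.mpr rfl
        rw [Equiv.Perm.mul_apply, Equiv.Perm.mul_apply, ← e, e2, hfix i]
      have h1 := base_sharp hyp hl (H.mul_mem (H.mul_mem hy hz) (H.inv_mem hy))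
        (hconj 0 1 y0) (hconj 1 2 y1) (hconj 2 3 y2) (hconj 3 6 y3)
      have : z = y⁻¹ * (y * z * y⁻¹) * y := by group
      rw [this, h1]
      group
  · right
    refine eq_closure hyp hl ?_
    intro m hm hmH
    by_contra hmS
    exact hA ⟨m, hm, hmS, hmH⟩

end

end Cfsg.Agent.H34
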