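import Cfsg.Agent.H34.D11Data

/-!
# Degree eleven: the enumeration of the elements of order three of the two-point stabiliser,
part 1 (helper34)
-/

set_option autoImplicit false
set_option maxRecDepth 100000

namespace Cfsg.Agent.H34

open Cfsg Cfsg.Agent.H9

theorem d_E1_3_15_3 : dfsR (fun F => chkU 3 idP F FL) (leafV leafA) [15, 9, 10, 5, 17, 4, 8]
    (Nat.lor (Nat.lor F0P (Nat.shiftLeft 15 (Nat.mul 5 3))) (Nat.shiftLeft 3 (Nat.mul 5 6)))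
    (Nat.lor (Nat.lor 0 (Nat.shiftLeft 1 15)) (Nat.shiftLeft 1 3)) = true := by decide +kernel

theorem d_E1_3_15_6 : dfsR (fun F => chkU 3 idP F FL) (leafV leafA) [15, 9, 10, 5, 17, 4, 8]
    (Nat.lor (Nat.lor F0P (Nat.shiftLeft 15 (Nat.mul 5 3))) (Nat.shiftLeft 6 (Nat.mul 5 6)))
    (Nat.lor (Nat.lor 0 (Nat.shiftLeft 1 15)) (Nat.shiftLeft 1 6)) = true := by decide +kernel

theorem d_E1_3_15_9 : dfsR (fun F => chkU 3 idP F FL) (leafV leafA) [15, 9, 10, 5, 17, 4, 8]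
    (Nat.lor (Nat.lor F0P (Nat.shiftLeft 15 (Nat.mul 5 3))) (Nat.shiftLeft 9 (Nat.mul 5 6)))
    (Nat.lor (Nat.lor 0 (Nat.shiftLeft 1 15)) (Nat.shiftLeft 1 9)) = true := by decide +kernel

theorem d_E1_3_15_10 : dfsR (fun F => chkU 3 idP F FL) (leafV leafA) [15, 9, 10, 5, 17, 4, 8]
    (Nat.lor (Nat.lor F0P (Nat.shiftLeft 15 (Nat.mul 5 3))) (Nat.shiftLeft 10 (Nat.mul 5 6)))
    (Nat.lor (Nat.lor 0 (Nat.shiftLeft 1 15)) (Nat.shiftLeft 1 10)) = true := by decide +kernel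

theorem d_E1_3_15_5 : dfsR (fun F => chkU 3 idP F FL) (leafV leafA) [15, 9, 10, 5, 17, 4, 8]
    (Nat.lor (Nat.lor F0P (Nat.shiftLeft 15 (Nat.mul 5 3))) (Nat.shiftLeft 5 (Nat.mul 5 6)))
    (Nat.lor (Nat.lor 0 (Nat.shiftLeft 1 15)) (Nat.shiftLeft 1 5)) = true := by decide +kernel

theorem d_E1_3_15_17 : dfsR (fun F => chkU 3 idP F FL) (leafV leafA) [15, 9, 10, 5, 17, 4, 8]
    (Nat.lor (Nat.lor F0P (Nat.shiftLeft 15 (Nat.mul 5 3))) (Nat.shiftLeft 17 (Nat.mul 5 6)))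
    (Nat.lor (Nat.lor 0 (Nat.shiftLeft 1 15)) (Nat.shiftLeft 1 17)) = true := by decide +kernel

theorem d_E1_3_15_4 : dfsR (fun F => chkU 3 idP F FL) (leafV leafA) [15, 9, 10, 5, 17, 4, 8]
    (Nat.lor (Nat.lor F0P (Nat.shiftLeft 15 (Nat.mul 5 3))) (Nat.shiftLeft 4 (Nat.mul 5 6)))
    (Nat.lor (Nat.lor 0 (Nat.shiftLeft 1 15)) (Nat.shiftLeft 1 4)) = true := by decide +kernel

theorem d_E1_3_15_8 : dfsR (fun F => chkU 3 idP F FL) (leafV leafA) [15, 9, 10, 5, 17, 4, 8]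
    (Nat.lor (Nat.lor F0P (Nat.shiftLeft 15 (Nat.mul 5 3))) (Nat.shiftLeft 8 (Nat.mul 5 6)))
    (Nat.lor (Nat.lor 0 (Nat.shiftLeft 1 15)) (Nat.shiftLeft 1 8)) = true := by decide +kernel

theorem d_E1_3_9_3 : dfsR (fun F => chkU 3 idP F FL) (leafV leafA) [15, 9, 10, 5, 17, 4, 8]
    (Nat.lor (Nat.lor F0P (Nat.shiftLeft 9 (Nat.mul 5 3))) (Nat.shiftLeft 3 (Nat.mul 5 6)))
    (Nat.lor (Nat.lor 0 (Nat.shiftLeft 1 9)) (Nat.shiftLeft 1 3)) = true := by decide +kernel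

theorem d_E1_3_9_6 : dfsR (fun F => chkU 3 idP F FL) (leafV leafA) [15, 9, 10, 5, 17, 4, 8]
    (Nat.lor (Nat.lor F0P (Nat.shiftLeft 9 (Nat.mul 5 3))) (Nat.shiftLeft 6 (Nat.mul 5 6)))
    (Nat.lor (Nat.lor 0 (Nat.shiftLeft 1 9)) (Nat.shiftLeft 1 6)) = true := by decide +kernel

theorem d_E1_3_9_15 : dfsR (fun F => chkU 3 idP F FL) (leafV leafA) [15, 9, 10, 5, 17, 4, 8]
    (Nat.lor (Nat.lor F0P (Nat.shiftLeft 9 (Nat.mul 5 3))) (Nat.shiftLeft 15 (Nat.mul 5 6)))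
    (Nat.lor (Nat.lor 0 (Nat.shiftLeft 1 9)) (Nat.shiftLeft 1 15)) = true := by decide +kernel

theorem d_E1_3_9_10 : dfsR (fun F => chkU 3 idP F FL) (leafV leafA) [15, 9, 10, 5, 17, 4, 8]
    (Nat.lor (Nat.lor F0P (Nat.shiftLeft 9 (Nat.mul 5 3))) (Nat.shiftLeft 10 (Nat.mul 5 6)))
    (Nat.lor (Nat.lor 0 (Nat.shiftLeft 1 9)) (Nat.shiftLeft 1 10)) = true := by decide +kernel

theorem d_E1_3_9_5 : dfsR (fun F => chkU 3 idP F FL) (leafV leafA) [15, 9, 10, 5, 17, 4, 8]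
    (Nat.lor (Nat.lor F0P (Nat.shiftLeft 9 (Nat.mul 5 3))) (Nat.shiftLeft 5 (Nat.mul 5 6)))
    (Nat.lor (Nat.lor 0 (Nat.shiftLeft 1 9)) (Nat.shiftLeft 1 5)) = true := by decide +kernel

theorem d_E1_3_9_17 : dfsR (fun F => chkU 3 idP F FL) (leafV leafA) [15, 9, 10, 5, 17, 4, 8]
    (Nat.lor (Nat.lor F0P (Nat.shiftLeft 9 (Nat.mul 5 3))) (Nat.shiftLeft 17 (Nat.mul 5 6)))
    (Nat.lor (Nat.lor 0 (Nat.shiftLeft 1 9)) (Nat.shiftLeft 1 17)) = true := by decide +kernel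

theorem d_E1_3_9_4 : dfsR (fun F => chkU 3 idP F FL) (leafV leafA) [15, 9, 10, 5, 17, 4, 8]
    (Nat.lor (Nat.lor F0P (Nat.shiftLeft 9 (Nat.mul 5 3))) (Nat.shiftLeft 4 (Nat.mul 5 6)))
    (Nat.lor (Nat.lor 0 (Nat.shiftLeft 1 9)) (Nat.shiftLeft 1 4)) = true := by decide +kernel

theorem d_E1_3_9_8 : dfsR (fun F => chkU 3 idP F FL) (leafV leafA) [15, 9, 10, 5, 17, 4, 8]
    (Nat.lor (Nat.lor F0P (Nat.shiftLeft 9 (Nat.mul 5 3))) (Nat.shiftLeft 8 (Nat.mul 5 6)))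
    (Nat.lor (Nat.lor 0 (Nat.shiftLeft 1 9)) (Nat.shiftLeft 1 8)) = true := by decide +kernel


end Cfsg.Agent.H34
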