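import Cfsg.Agent.H34.D11E1a
import Cfsg.Agent.H34.D11E1b0
import Cfsg.Agent.H34.D11E1b1
import Cfsg.Agent.H34.D11E1b2
import Cfsg.Agent.H34.D11E1b3

/-!
# Degree eleven: the elements of order two and three of the two-point stabiliser (helper34)
-/

set_option autoImplicit false
set_option maxRecDepth 100000

namespace Cfsg.Agent.H34

open Cfsg Cfsg.Agent.H9

theorem d_E1a : ∀ a ∈ FL, ∀ b ∈ FL, a ≠ b → dfsR (fun F => chkU 2 idP F FL) (leafV leafA)
    [15, 9, 10, 5, 17, 4, 8]
    (Nat.lor (Nat.lor F0P (Nat.shiftLeft a (Nat.mul 5 3))) (Nat.shiftLeft b (Nat.mul 5 6)))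
    (Nat.lor (Nat.lor 0 (Nat.shiftLeft 1 a)) (Nat.shiftLeft 1 b)) = true := by
  intro a ha b hb hab
  simp only [FL, List.mem_cons, List.mem_nil_iff, or_false] at ha hb
  rcases ha with rfl | rfl | rfl | rfl | rfl | rfl | rfl | rfl | rfl
  · rcases hb with rfl | rfl | rfl | rfl | rfl | rfl | rfl | rfl | rfl
    · exact absurd rfl hab
    · exact d_E1_2_3_6
    · exact d_E1_2_3_15
    · exact d_E1_2_3_9
    · exact d_E1_2_3_10
    · exact d_E1_2_3_5
    · exact d_E1_2_3_17
    · exact d_E1_2_3_4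
    · exact d_E1_2_3_8
  · rcases hb with rfl | rfl | rfl | rfl | rfl | rfl | rfl | rfl | rfl
    · exact d_E1_2_6_3
    · exact absurd rfl hab
    · exact d_E1_2_6_15
    · exact d_E1_2_6_9
    · exact d_E1_2_6_10
    · exact d_E1_2_6_5
    · exact d_E1_2_6_17
    · exact d_E1_2_6_4
    · exact d_E1_2_6_8
  · rcases hb with rfl | rfl | rfl | rfl | rfl | rfl | rfl | rfl | rfl
    · exact d_E1_2_15_3
    · exact d_E1_2_15_6
    · exact absurd rfl hab
    · exact d_E1_2_15_9
    · exact d_E1_2_15_10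
    · exact d_E1_2_15_5
    · exact d_E1_2_15_17
    · exact d_E1_2_15_4
    · exact d_E1_2_15_8
  · rcases hb with rfl | rfl | rfl | rfl | rfl | rfl | rfl | rfl | rfl
    · exact d_E1_2_9_3
    · exact d_E1_2_9_6
    · exact d_E1_2_9_15
    · exact absurd rfl hab
    · exact d_E1_2_9_10
    · exact d_E1_2_9_5
    · exact d_E1_2_9_17
    · exact d_E1_2_9_4
    · exact d_E1_2_9_8
  · rcases hb with rfl | rfl | rfl | rfl | rfl | rfl | rfl | rfl | rfl
    · exact d_E1_2_10_3
    · exact d_E1_2_10_6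
    · exact d_E1_2_10_15
    · exact d_E1_2_10_9
    · exact absurd rfl hab
    · exact d_E1_2_10_5
    · exact d_E1_2_10_17
    · exact d_E1_2_10_4
    · exact d_E1_2_10_8
  · rcases hb with rfl | rfl | rfl | rfl | rfl | rfl | rfl | rfl | rfl
    · exact d_E1_2_5_3
    · exact d_E1_2_5_6
    · exact d_E1_2_5_15
    · exact d_E1_2_5_9
    · exact d_E1_2_5_10
    · exact absurd rfl hab
    · exact d_E1_2_5_17
    · exact d_E1_2_5_4
    · exact d_E1_2_5_8
  · rcases hb with rfl | rfl | rfl | rfl | rfl | rfl | rfl | rfl | rfl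
    · exact d_E1_2_17_3
    · exact d_E1_2_17_6
    · exact d_E1_2_17_15
    · exact d_E1_2_17_9
    · exact d_E1_2_17_10
    · exact d_E1_2_17_5
    · exact absurd rfl hab
    · exact d_E1_2_17_4
    · exact d_E1_2_17_8
  · rcases hb with rfl | rfl | rfl | rfl | rfl | rfl | rfl | rfl | rfl
    · exact d_E1_2_4_3
    · exact d_E1_2_4_6
    · exact d_E1_2_4_15
    · exact d_E1_2_4_9
    · exact d_E1_2_4_10
    · exact d_E1_2_4_5
    · exact d_E1_2_4_17
    · exact absurd rfl hab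
    · exact d_E1_2_4_8
  · rcases hb with rfl | rfl | rfl | rfl | rfl | rfl | rfl | rfl | rfl
    · exact d_E1_2_8_3
    · exact d_E1_2_8_6
    · exact d_E1_2_8_15
    · exact d_E1_2_8_9
    · exact d_E1_2_8_10
    · exact d_E1_2_8_5
    · exact d_E1_2_8_17
    · exact d_E1_2_8_4
    · exact absurd rfl hab

theorem d_E1b : ∀ a ∈ FL, ∀ b ∈ FL, a ≠ b → dfsR (fun F => chkU 3 idP F FL) (leafV leafA)
    [15, 9, 10, 5, 17, 4, 8]
    (Nat.lor (Nat.lor F0P (Nat.shiftLeft a (Nat.mul 5 3))) (Nat.shiftLeft b (Nat.mul 5 6)))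
    (Nat.lor (Nat.lor 0 (Nat.shiftLeft 1 a)) (Nat.shiftLeft 1 b)) = true := by
  intro a ha b hb hab
  simp only [FL, List.mem_cons, List.mem_nil_iff, or_false] at ha hb
  rcases ha with rfl | rfl | rfl | rfl | rfl | rfl | rfl | rfl | rfl
  · rcases hb with rfl | rfl | rfl | rfl | rfl | rfl | rfl | rfl | rfl
    · exact absurd rfl hab
    · exact d_E1_3_3_6
    · exact d_E1_3_3_15
    · exact d_E1_3_3_9
    · exact d_E1_3_3_10
    · exact d_E1_3_3_5
    · exact d_E1_3_3_17
    · exact d_E1_3_3_4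
    · exact d_E1_3_3_8
  · rcases hb with rfl | rfl | rfl | rfl | rfl | rfl | rfl | rfl | rfl
    · exact d_E1_3_6_3
    · exact absurd rfl hab
    · exact d_E1_3_6_15
    · exact d_E1_3_6_9
    · exact d_E1_3_6_10
    · exact d_E1_3_6_5
    · exact d_E1_3_6_17
    · exact d_E1_3_6_4
    · exact d_E1_3_6_8
  · rcases hb with rfl | rfl | rfl | rfl | rfl | rfl | rfl | rfl | rfl
    · exact d_E1_3_15_3
    · exact d_E1_3_15_6
    · exact absurd rfl hab
    · exact d_E1_3_15_9
    · exact d_E1_3_15_10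
    · exact d_E1_3_15_5
    · exact d_E1_3_15_17
    · exact d_E1_3_15_4
    · exact d_E1_3_15_8
  · rcases hb with rfl | rfl | rfl | rfl | rfl | rfl | rfl | rfl | rfl
    · exact d_E1_3_9_3
    · exact d_E1_3_9_6
    · exact d_E1_3_9_15
    · exact absurd rfl hab
    · exact d_E1_3_9_10
    · exact d_E1_3_9_5
    · exact d_E1_3_9_17
    · exact d_E1_3_9_4
    · exact d_E1_3_9_8
  · rcases hb with rfl | rfl | rfl | rfl | rfl | rfl | rfl | rfl | rfl
    · exact d_E1_3_10_3
    · exact d_E1_3_10_6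
    · exact d_E1_3_10_15
    · exact d_E1_3_10_9
    · exact absurd rfl hab
    · exact d_E1_3_10_5
    · exact d_E1_3_10_17
    · exact d_E1_3_10_4
    · exact d_E1_3_10_8
  · rcases hb with rfl | rfl | rfl | rfl | rfl | rfl | rfl | rfl | rfl
    · exact d_E1_3_5_3
    · exact d_E1_3_5_6
    · exact d_E1_3_5_15
    · exact d_E1_3_5_9
    · exact d_E1_3_5_10
    · exact absurd rfl hab
    · exact d_E1_3_5_17
    · exact d_E1_3_5_4
    · exact d_E1_3_5_8
  · rcases hb with rfl | rfl | rfl | rfl | rfl | rfl | rfl | rfl | rfl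
    · exact d_E1_3_17_3
    · exact d_E1_3_17_6
    · exact d_E1_3_17_15
    · exact d_E1_3_17_9
    · exact d_E1_3_17_10
    · exact d_E1_3_17_5
    · exact absurd rfl hab
    · exact d_E1_3_17_4
    · exact d_E1_3_17_8
  · rcases hb with rfl | rfl | rfl | rfl | rfl | rfl | rfl | rfl | rfl
    · exact d_E1_3_4_3
    · exact d_E1_3_4_6
    · exact d_E1_3_4_15
    · exact d_E1_3_4_9
    · exact d_E1_3_4_10
    · exact d_E1_3_4_5
    · exact d_E1_3_4_17
    · exact absurd rfl hab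
    · exact d_E1_3_4_8
  · rcases hb with rfl | rfl | rfl | rfl | rfl | rfl | rfl | rfl | rfl
    · exact d_E1_3_8_3
    · exact d_E1_3_8_6
    · exact d_E1_3_8_15
    · exact d_E1_3_8_9
    · exact d_E1_3_8_10
    · exact d_E1_3_8_5
    · exact d_E1_3_8_17
    · exact d_E1_3_8_4
    · exact absurd rfl hab


end Cfsg.Agent.H34
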