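import Cfsg.Agent.H34.D11Core

/-!
# The group generated by `lperm dtP` and `lperm dlP` is `PSL(2, 11)` (helper34 library)

The stabiliser `SF [128, 1, D0]` of a dodecad, a point of it and a point off it (isomorphic to
`PSL(2, 11)` by `L211_equiv`) acts faithfully on the eleven points `OmL`; the image of this
action, extended by the identity, is the group generated by `lperm dtP` and `lperm dlP`.
-/

set_option autoImplicit false

namespace Cfsg.Agent.H34

open Cfsg Cfsg.Agent.H9

/-- The eleven points. -/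
def OmP (q : GolayPt) : Prop := gIdx q ∈ OmL

instance OmP_dec : DecidablePred OmP := fun q => inferInstanceAs (Decidable (gIdx q ∈ OmL))

theorem OmL_testBit : ∀ i ∈ OmL, Nat.testBit OmM i = true := by decide

/-- Enumeration of the elements of `SF [128, 1, D0]`. -/
theorem K_enum {g : Equiv.Perm GolayPt} (hg : g ∈ SF [128, 1, D0]) :
    ∃ t ∈ M11EL, sv t 7 = 7 ∧ g = lperm t := by
  have hg' : g ∈ SF [1, D0] := ⟨hg.1, fun a ha => hg.2 a (List.mem_cons_of_mem _ ha)⟩
  obtain ⟨t, ht, e⟩ := M11_enum g hg'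
  have h7 : sv t 7 = 7 := by
    have h1 := SF_fix_pt hg (j := 7) (by norm_num) (by simp)
    rw [e] at h1
    have h2 := congrArg gIdx h1
    rwa [gIdx_lperm (M11EL_valid ht), gIdx_gPt (by norm_num)] at h2
  exact ⟨t, ht, h7, e⟩

theorem K_pres_fwd {g : Equiv.Perm GolayPt} (hg : g ∈ SF [128, 1, D0]) {q : GolayPt}
    (hq : OmP q) : OmP (g q) := by
  obtain ⟨t, ht, h7, rfl⟩ := K_enum hg
  have h3 := List.all_eq_true.mp d_K_pres t ht
  rw [h7] at h3
  simp only [Nat.beq_refl, Bool.not_true, Bool.false_or, List.all_eq_true] at h3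
  unfold OmP
  rw [gIdx_lperm (M11EL_valid ht)]
  exact OmM_mem _ (lt_trans (sv_lt (M11EL_valid ht) (gIdx_lt q)) (by norm_num)) (h3 _ hq)

theorem K_pres {g : Equiv.Perm GolayPt} (hg : g ∈ SF [128, 1, D0]) (q : GolayPt) :
    OmP (g q) ↔ OmP q := by
  refine ⟨fun h => ?_, K_pres_fwd hg⟩
  have h1 := K_pres_fwd ((SF [128, 1, D0]).inv_mem hg) h
  have h2 : g⁻¹ (g q) = q := g.symm_apply_apply q
  rwa [h2] at h1

/-- The action on the eleven points, extended by the identity. -/
noncomputable def rhoF (g : ↥(SF [128, 1, D0])) : Equiv.Perm GolayPt :=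
  Equiv.Perm.ofSubtype (Equiv.Perm.subtypePerm g.1 (K_pres g.2))

theorem rhoF_mem (g : ↥(SF [128, 1, D0])) {q : GolayPt} (hq : OmP q) : rhoF g q = g.1 q := by
  unfold rhoF
  rw [Equiv.Perm.ofSubtype_apply_of_mem _ hq]
  rfl

theorem rhoF_not_mem (g : ↥(SF [128, 1, D0])) {q : GolayPt} (hq : ¬ OmP q) : rhoF g q = q := by
  unfold rhoF
  exact Equiv.Perm.ofSubtype_apply_of_not_mem _ hq

theorem rhoF_mul (g h : ↥(SF [128, 1, D0])) : rhoF (g * h) = rhoF g * rhoF h := by
  apply Equiv.ext
  intro q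
  rw [Equiv.Perm.mul_apply]
  by_cases hq : OmP q
  · rw [rhoF_mem _ hq, rhoF_mem _ hq, rhoF_mem _ (K_pres_fwd h.2 hq)]
    rfl
  · rw [rhoF_not_mem _ hq, rhoF_not_mem _ hq, rhoF_not_mem _ hq]

/-- The homomorphism. -/
noncomputable def rhoK : ↥(SF [128, 1, D0]) →* Equiv.Perm GolayPt :=
  MonoidHom.mk' rhoF rhoF_mul

theorem rhoK_apply (g : ↥(SF [128, 1, D0])) : rhoK g = rhoF g := rfl

theorem rhoK_injective : Function.Injective rhoK := by
  rw [injective_iff_map_eq_one]
  rintro ⟨g, hg⟩ h1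
  obtain ⟨t, ht, h7, rfl⟩ := K_enum hg
  have h3 := List.all_eq_true.mp d_K_inj t ht
  have h4 : OmL.all (fun u => Nat.beq (sv t u) u) = true := by
    rw [List.all_eq_true]
    intro u hu
    have hu24 : u < 24 := OmL_lt u hu
    have hq : OmP (gPt u) := by unfold OmP; rw [gIdx_gPt hu24]; exact hu
    have h5 : rhoF ⟨lperm t, hg⟩ (gPt u) = gPt u := by
      rw [← rhoK_apply, h1]; rfl
    rw [rhoF_mem _ hq] at h5
    have h6 := congrArg gIdx h5
    simp only at h6
    rw [gIdx_lperm (M11EL_valid ht), gIdx_gPt hu24] at h6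
    rw [h6]
    exact Nat.beq_refl u
  rw [h4] at h3
  simp only [Bool.not_true, Bool.false_or] at h3
  apply Subtype.ext
  show lperm t = 1
  rw [Nat.eq_of_beq_eq_true h3, lperm_idP]

theorem dtauP_mem : lperm dtauP ∈ SF [128, 1, D0] := by
  have h := d_K_ok
  simp only [Bool.and_eq_true] at h
  exact lperm_mem_SF h.1

theorem dlamP_mem : lperm dlamP ∈ SF [128, 1, D0] := by
  have h := d_K_ok
  simp only [Bool.and_eq_true] at h
  exact lperm_mem_SF h.2

theorem dtauP_valid : svalid dtauP = true := by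
  have h := d_K_ok
  simp only [Bool.and_eq_true] at h
  exact okF_svalid' h.1

theorem dlamP_valid : svalid dlamP = true := by
  have h := d_K_ok
  simp only [Bool.and_eq_true] at h
  exact okF_svalid' h.2

theorem rho_restr {a b : ℕ} (ha : svalid a = true) (hb : svalid b = true)
    (hb' : lperm b ∈ SF [128, 1, D0])
    (h : allB (fun i => Nat.beq (sv a i) (cond (Nat.testBit OmM i) (sv b i) i)) 24 = true) :
    rhoK ⟨lperm b, hb'⟩ = lperm a := by
  rw [allB_iff] at h
  apply Equiv.ext
  intro q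
  have h1 := Nat.eq_of_beq_eq_true (h (gIdx q) (gIdx_lt q))
  rw [rhoK_apply]
  by_cases hq : OmP q
  · rw [rhoF_mem _ hq]
    show lperm b q = lperm a q
    rw [lperm_apply hb, lperm_apply ha, h1, OmL_testBit _ hq]
    rfl
  · rw [rhoF_not_mem _ hq, lperm_apply ha, h1]
    have h2 : Nat.testBit OmM (gIdx q) = false := by
      by_contra hc
      rw [Bool.not_eq_false] at hc
      exact hq (OmM_mem _ (lt_trans (gIdx_lt q) (by norm_num)) hc)
    rw [h2]
    exact (gPt_gIdx q).symm

theorem rho_tau : rhoK ⟨lperm dtauP, dtauP_mem⟩ = lperm dtP := by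
  have h := d_restr
  simp only [Bool.and_eq_true] at h
  exact rho_restr dtP_valid dtauP_valid dtauP_mem h.1

theorem rho_lam : rhoK ⟨lperm dlamP, dlamP_mem⟩ = lperm dlP := by
  have h := d_restr
  simp only [Bool.and_eq_true] at h
  exact rho_restr dlP_valid dlamP_valid dlamP_mem h.2

theorem rhoK_range : rhoK.range = Subgroup.closure {lperm dtP, lperm dlP} := by
  apply le_antisymm
  · rintro _ ⟨⟨g, hg⟩, rfl⟩
    obtain ⟨t, ht, h7, rfl⟩ := K_enum hg
    have h3 := List.all_eq_true.mp d_K_in t ht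
    rw [h7] at h3
    simp only [Nat.beq_refl, Bool.not_true, Bool.false_or, List.any_eq_true] at h3
    obtain ⟨e, he, het⟩ := h3
    have h1 := slpL_sound (Q := fun s => svalid s = true ∧ ∃ h : lperm s ∈ SF [128, 1, D0],
        rhoK ⟨lperm s, h⟩ ∈ Subgroup.closure {lperm dtP, lperm dlP}) (gens := [idP, dtauP, dlamP])
      (by
        intro g hg
        simp only [List.mem_cons, List.mem_nil_iff, or_false] at hg
        rcases hg with rfl | rfl | rfl
        · refine ⟨idP_valid, by rw [lperm_idP]; exact Subgroup.one_mem _, ?_⟩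
          have : (⟨lperm idP, by rw [lperm_idP]; exact Subgroup.one_mem _⟩ :
              ↥(SF [128, 1, D0])) = 1 := Subtype.ext lperm_idP
          rw [this, map_one]
          exact Subgroup.one_mem _
        · refine ⟨dtauP_valid, dtauP_mem, ?_⟩
          rw [rho_tau]
          exact Subgroup.subset_closure (by simp)
        · refine ⟨dlamP_valid, dlamP_mem, ?_⟩
          rw [rho_lam]
          exact Subgroup.subset_closure (by simp))
      (by
        rintro r s t hr ⟨hs, hs', hs''⟩ ⟨ht, ht', ht''⟩ hp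
        have hrst := prB_sound hr hs ht hp
        have hr' : lperm r ∈ SF [128, 1, D0] := by
          rw [hrst]; exact Subgroup.mul_mem _ hs' ht'
        refine ⟨hr, hr', ?_⟩
        have : (⟨lperm r, hr'⟩ : ↥(SF [128, 1, D0])) = ⟨lperm s, hs'⟩ * ⟨lperm t, ht'⟩ :=
          Subtype.ext hrst
        rw [this, map_mul]
        exact Subgroup.mul_mem _ hs'' ht'')
      dSK d_slpK e he
    obtain ⟨-, h5, h6⟩ := h1
    have h7' : e.1 = t := Nat.eq_of_beq_eq_true het
    subst h7'
    exact h6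
  · rw [Subgroup.closure_le]
    intro x hx
    simp only [Set.mem_insert_iff, Set.mem_singleton_iff] at hx
    rcases hx with rfl | rfl
    · exact ⟨⟨lperm dtauP, dtauP_mem⟩, rho_tau⟩
    · exact ⟨⟨lperm dlamP, dlamP_mem⟩, rho_lam⟩

/-- The group generated by `lperm dtP` and `lperm dlP` is `PSL(2, 11)`. -/
theorem closure_iso : Nonempty (↥(Subgroup.closure {lperm dtP, lperm dlP}) ≃*
    Matrix.ProjectiveSpecialLinearGroup (Fin 2) (ZMod 11)) :=
  ⟨(L211_equiv.trans ((MonoidHom.ofInjective rhoK_injective).trans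
    (MulEquiv.subgroupCongr rhoK_range))).symm⟩

end Cfsg.Agent.H34
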