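import Cfsg.Agent.H34.D11Iso
import Cfsg.Agent.H75.BurnsidePrime
import Cfsg.Agent.H75.Degree7
import Cfsg.Agent.H75.OutPrime
import Cfsg.Agent.H16.JordanCycle
import Cfsg.Agent.S0675
import Cfsg.Agent.S0680

/-!
# Non-solvable transitive groups of degree eleven (helper34 library)

`d11_main`: a transitive permutation group of degree `11` that is not solvable and does not
contain the alternating group is sharply 4-transitive or isomorphic to `PSL(2, 11)`.
The group is moved to the eleven points `OmL` of the 24 points so that its element of order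
eleven becomes `lperm dtP`; then `d11_dich` and `d11_core` apply.
-/

set_option autoImplicit false

namespace Cfsg.Agent.H34

open Cfsg Cfsg.Agent.H9

section Kappa

theorem OmL_nth_mem : ∀ j, j < 11 → nthL 0 OmL j ∈ OmL := by decide

theorem OmL_nth_inj : ∀ i, i < 11 → ∀ j, j < 11 → nthL 0 OmL i = nthL 0 OmL j → i = j := by
  decide

theorem OmL_nth_surj : ∀ u ∈ OmL, ∃ j, j < 11 ∧ nthL 0 OmL j = u := by decide

/-- The `j`-th of the eleven points. -/
noncomputable def kapF (j : ZMod 11) : {q : GolayPt // OmP q} :=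
  ⟨gPt (nthL 0 OmL j.val), by
    unfold OmP
    have h := OmL_nth_mem j.val (ZMod.val_lt j)
    rw [gIdx_gPt (OmL_lt _ h)]
    exact h⟩

theorem kapF_bij : Function.Bijective kapF := by
  constructor
  · intro i j h
    have h1 : gIdx (kapF i).1 = gIdx (kapF j).1 := by rw [h]
    simp only [kapF] at h1
    rw [gIdx_gPt (OmL_lt _ (OmL_nth_mem _ (ZMod.val_lt i))),
      gIdx_gPt (OmL_lt _ (OmL_nth_mem _ (ZMod.val_lt j)))] at h1
    exact ZMod.val_injective 11 (OmL_nth_inj _ (ZMod.val_lt i) _ (ZMod.val_lt j) h1)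
  · rintro ⟨q, hq⟩
    obtain ⟨j, hj, hju⟩ := OmL_nth_surj _ hq
    refine ⟨(j : ZMod 11), ?_⟩
    apply Subtype.ext
    show gPt (nthL 0 OmL (j : ZMod 11).val) = q
    rw [ZMod.val_natCast_of_lt hj, hju, gPt_gIdx]

/-- The eleven points indexed by `ZMod 11`. -/
noncomputable def kap : ZMod 11 ≃ {q : GolayPt // OmP q} := Equiv.ofBijective kapF kapF_bij

theorem kap_val (j : ZMod 11) : (kap j).1 = gPt (nthL 0 OmL j.val) := rfl

theorem dsg_pres (q : GolayPt) : OmP (lperm dsgP q) ↔ OmP q := by
  unfold OmP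
  rw [gIdx_lperm dsgP_valid]
  exact d_sg_pres _ (gIdx_lt q)

/-- The reflection on the eleven points. -/
noncomputable def sgSub : Equiv.Perm {q : GolayPt // OmP q} :=
  (lperm dsgP).subtypePerm dsg_pres

end Kappa

section Transport

variable {α : Type*} [Fintype α] [DecidableEq α]

theorem ext_conj (ι : α ≃ {q : GolayPt // OmP q}) (g : Equiv.Perm α) :
    g.extendDomain (ι.trans sgSub) * lperm dsgP = lperm dsgP * g.extendDomain ι := by
  apply Equiv.ext
  intro q
  rw [Equiv.Perm.mul_apply, Equiv.Perm.mul_apply]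
  by_cases hq : OmP q
  · obtain ⟨a, ha⟩ : ∃ a, ι a = ⟨q, hq⟩ := ⟨ι.symm ⟨q, hq⟩, by simp⟩
    have h1 : q = (ι a).1 := by rw [ha]
    have h2 : ∀ b, lperm dsgP (ι b).1 = ((ι.trans sgSub) b).1 := fun b => rfl
    rw [h1, Equiv.Perm.extendDomain_apply_image, h2, Equiv.Perm.extendDomain_apply_image, h2]
  · rw [Equiv.Perm.extendDomain_apply_not_subtype _ _ hq,
      Equiv.Perm.extendDomain_apply_not_subtype _ _ (fun h => hq ((dsg_pres q).mp h))]

/-- The hypotheses of the core hold for the transported group. -/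
theorem hyp_of (hα : Fintype.card α = 11) (G : Subgroup (Equiv.Perm α))
    [MulAction.IsPretransitive G α] (hA : ¬ alternatingGroup α ≤ G)
    (ι : α ≃ {q : GolayPt // OmP q})
    (ht : lperm dtP ∈ G.map (Equiv.Perm.extendDomainHom ι)) :
    D11Hyp (G.map (Equiv.Perm.extendDomainHom ι)) := by
  refine ⟨ht, ?_, ?_⟩
  · rintro c ⟨x, -, rfl⟩ q hq
    exact Equiv.Perm.extendDomain_apply_not_subtype x ι hq
  · rintro c ⟨x, hx, rfl⟩ ⟨hcyc, hcard⟩
    have hct : (Equiv.Perm.extendDomainHom ι x).cycleType = x.cycleType :=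
      Equiv.Perm.cycleType_extendDomain ι
    have hxc : x.IsCycle := by
      rw [← Equiv.Perm.card_cycleType_eq_one, ← hct, Equiv.Perm.card_cycleType_eq_one]
      exact hcyc
    have hxs : x.support.card = (Equiv.Perm.extendDomainHom ι x).support.card := by
      rw [← Equiv.Perm.sum_cycleType, ← Equiv.Perm.sum_cycleType, hct]
    have hprim : MulAction.IsPreprimitive G α :=
      MulAction.IsPreprimitive.of_prime_card (by rw [Nat.card_eq_fintype_card, hα]; norm_num)
    have hp : (x.support.card).Prime ∧ x.support.card + 3 ≤ Fintype.card α := by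
      rw [hxs, hα]
      rcases hcard with h | h | h | h <;> rw [h] <;> constructor <;> norm_num
    exact hA (H16.jordan_prime_cycle G hprim hp.1 hp.2 hxc rfl hx)

/-- A non-solvable transitive group of degree eleven has a non-trivial element fixing two
given points. -/
theorem exists_two_fix (hα : Fintype.card α = 11) (G : Subgroup (Equiv.Perm α))
    [MulAction.IsPretransitive G α] (hG : ¬ Group.IsSolvable G) {a b : α} (hab : a ≠ b) :
    ∃ x ∈ G, x ≠ 1 ∧ x a = a ∧ x b = b := by
  haveI : Fact (Nat.Prime 11) := ⟨by norm_num⟩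
  have h2t : MulAction.IsMultiplyPretransitive G α 2 := by
    rcases Cfsg.Agent.S0675.result (by rw [hα]; norm_num) G with h | h
    · exact absurd h hG
    · exact h
  by_contra hcon
  have hsharp : ∀ x : Fin 2 ↪ α, MulAction.stabilizer G x = ⊥ := by
    intro x
    rw [eq_bot_iff]
    intro s hs
    rw [MulAction.mem_stabilizer_iff] at hs
    rw [Subgroup.mem_bot]
    have hx01 : x 0 ≠ x 1 := fun h => by simpa using x.injective h
    obtain ⟨g, hga, hgb⟩ := MulAction.is_two_pretransitive_iff.mp h2t hx01 hab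
    by_contra hs1
    have h0 : s • x 0 = x 0 := by
      have h := congrArg (fun f : Fin 2 ↪ α => f 0) hs
      exact h
    have h1 : s • x 1 = x 1 := by
      have h := congrArg (fun f : Fin 2 ↪ α => f 1) hs
      exact h
    apply hcon
    refine ⟨((g * s * g⁻¹ : G) : Equiv.Perm α), (g * s * g⁻¹).2, ?_, ?_, ?_⟩
    · intro h
      apply hs1
      have h3 : g * s * g⁻¹ = 1 := Subtype.ext h
      have h4 : s = g⁻¹ * (g * s * g⁻¹) * g := by group
      rw [h4, h3]
      group
    · show (g * s * g⁻¹) • a = a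
      rw [← hga, mul_smul, mul_smul, inv_smul_smul, h0]
    · show (g * s * g⁻¹) • b = b
      rw [← hgb, mul_smul, mul_smul, inv_smul_smul, h1]
  obtain ⟨p, j, hp, hj, hcard, hP⟩ := Cfsg.Agent.S0680.result G hsharp (by rw [hα]; norm_num)
  have hp11 : p = 11 := by
    rw [hα] at hcard
    have h1 : p ∣ 11 := by rw [hcard]; exact dvd_pow_self p (by omega)
    exact (Nat.prime_dvd_prime_iff_eq hp (by norm_num)).mp h1
  subst hp11
  obtain ⟨P⟩ : Nonempty (Sylow 11 G) := inferInstance
  obtain ⟨hPn, -⟩ := hP ⟨hp⟩ P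
  obtain ⟨τ, hτ, hPz, -⟩ := H75.exists_sylow_generator hα G P
  have hle : G ≤ Subgroup.normalizer
      (Subgroup.zpowers (τ : Equiv.Perm α) : Set (Equiv.Perm α)) := by
    intro g hg
    apply H75.mem_normalizer_of_conj_le
    intro y hy
    obtain ⟨k, rfl⟩ := Subgroup.mem_zpowers_iff.mp hy
    have h1 : (⟨g, hg⟩ : G) * τ ^ k * (⟨g, hg⟩ : G)⁻¹ ∈ (P : Subgroup G) :=
      hPn.conj_mem _ (by rw [hPz]; exact Subgroup.zpow_mem_zpowers τ k) _
    rw [hPz] at h1
    obtain ⟨m, hm⟩ := Subgroup.mem_zpowers_iff.mp h1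
    rw [Subgroup.mem_zpowers_iff]
    refine ⟨m, ?_⟩
    have h2 := congrArg (Subtype.val) hm
    simpa using h2
  have hsol := H75.isSolvable_normalizer_zpowers hα (τ : Equiv.Perm α)
    (by rw [Subgroup.orderOf_coe]; exact hτ)
  exact hG (solvable_of_solvable_injective (Subgroup.inclusion_injective hle))

/-- From the conclusion of the core to the statement. -/
theorem final_of (G : Subgroup (Equiv.Perm α)) (ι : α ≃ {q : GolayPt // OmP q})
    (h : ((∀ a b : Fin 4 → GolayPt, Function.Injective a → Function.Injective b →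
        (∀ i, gIdx (a i) ∈ OmL) → (∀ i, gIdx (b i) ∈ OmL) →
          ∃ z ∈ G.map (Equiv.Perm.extendDomainHom ι), ∀ i, z (a i) = b i) ∧
      (∀ z ∈ G.map (Equiv.Perm.extendDomainHom ι), ∀ a : Fin 4 → GolayPt,
        Function.Injective a → (∀ i, gIdx (a i) ∈ OmL) → (∀ i, z (a i) = a i) → z = 1)) ∨
    G.map (Equiv.Perm.extendDomainHom ι) = Subgroup.closure {lperm dtP, lperm dlP}) :
    (MulAction.IsMultiplyPretransitive G α 4 ∧
        ∀ x : Fin 4 ↪ α, MulAction.stabilizer G x = ⊥) ∨
      Nonempty (G ≃* Matrix.ProjectiveSpecialLinearGroup (Fin 2) (ZMod 11)) := by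
  rcases h with ⟨hA1, hA2⟩ | hB
  · left
    constructor
    · rw [MulAction.isMultiplyPretransitive_iff]
      intro x y
      obtain ⟨z, ⟨g, hg, rfl⟩, hz⟩ := hA1 (fun i => (ι (x i)).1) (fun i => (ι (y i)).1)
        (fun i j hij => x.injective (ι.injective (Subtype.ext hij)))
        (fun i j hij => y.injective (ι.injective (Subtype.ext hij)))
        (fun i => (ι (x i)).2) (fun i => (ι (y i)).2)
      refine ⟨⟨g, hg⟩, ?_⟩
      ext i
      have h1 := hz i
      rw [Equiv.Perm.extendDomainHom_apply, Equiv.Perm.extendDomain_apply_image] at h1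
      exact ι.injective (Subtype.ext h1)
    · intro x
      rw [eq_bot_iff]
      intro s hs
      rw [MulAction.mem_stabilizer_iff] at hs
      rw [Subgroup.mem_bot]
      have h1 := hA2 _ (Subgroup.mem_map_of_mem _ s.2) (fun i => (ι (x i)).1)
        (fun i j hij => x.injective (ι.injective (Subtype.ext hij))) (fun i => (ι (x i)).2)
        (fun i => by
          rw [Equiv.Perm.extendDomainHom_apply, Equiv.Perm.extendDomain_apply_image]
          have h := congrArg (fun f : Fin 4 ↪ α => f i) hs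
          have h' : (s : Equiv.Perm α) (x i) = x i := h
          rw [h'])
      exact Subtype.ext (Equiv.Perm.extendDomainHom_injective ι (h1.trans (map_one _).symm))
  · right
    obtain ⟨f⟩ := closure_iso
    exact ⟨((Subgroup.equivMapOfInjective G _ (Equiv.Perm.extendDomainHom_injective ι)).trans
      (MulEquiv.subgroupCongr hB)).trans f⟩

theorem t10_mem : nthL idP dTP 10 ∈ dTP := by decide

theorem t10_valid : svalid (nthL idP dTP 10) = true :=
  (mem_TP (S := ⊤) (Subgroup.mem_top _) _ t10_mem).1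

theorem t10_inv : lperm (nthL idP dTP 10) = (lperm dtP)⁻¹ := by
  have h := d_sg_t
  simp only [Bool.and_eq_true] at h
  have h1 := prB_sound idP_valid dtP_valid t10_valid h.2
  rw [lperm_idP] at h1
  exact eq_inv_of_mul_eq_one_right h1.symm

theorem sg_t10 : lperm dsgP * (lperm dtP)⁻¹ = lperm dtP * lperm dsgP := by
  have h := d_sg_t
  simp only [Bool.and_eq_true] at h
  rw [← t10_inv]
  exact conjB_sound dsgP_valid t10_valid dtP_valid h.1

/-- A transitive permutation group of degree `11` that is not solvable and does not contain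
the alternating group is sharply 4-transitive or isomorphic to `PSL(2, 11)`. -/
theorem d11_main (hα : Fintype.card α = 11) (G : Subgroup (Equiv.Perm α))
    [MulAction.IsPretransitive G α] (hG : ¬ Group.IsSolvable G)
    (hA : ¬ alternatingGroup α ≤ G) :
    (MulAction.IsMultiplyPretransitive G α 4 ∧
        ∀ x : Fin 4 ↪ α, MulAction.stabilizer G x = ⊥) ∨
      Nonempty (G ≃* Matrix.ProjectiveSpecialLinearGroup (Fin 2) (ZMod 11)) := by
  haveI : Fact (Nat.Prime 11) := ⟨by norm_num⟩
  obtain ⟨t, e, hte⟩ := H75.exists_equiv_zmod hα G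
  obtain ⟨ι, hι⟩ : ∃ ι : α ≃ {q : GolayPt // OmP q}, ι = e.symm.trans kap := ⟨_, rfl⟩
  have hιe : ∀ j, (ι (e j)).1 = gPt (nthL 0 OmL j.val) := by
    intro j
    rw [hι, Equiv.trans_apply, Equiv.symm_apply_apply]
    rfl
  have htT : Equiv.Perm.extendDomainHom ι (t : Equiv.Perm α) = lperm dtP := by
    apply Equiv.ext
    intro q
    rw [Equiv.Perm.extendDomainHom_apply]
    by_cases hq : OmP q
    · obtain ⟨j, hj⟩ : ∃ j : ZMod 11, ι (e j) = ⟨q, hq⟩ :=
        ⟨e.symm (ι.symm ⟨q, hq⟩), by simp⟩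
      have hq' : q = (ι (e j)).1 := by rw [hj]
      have hsh := d_t_shift
      rw [allB_iff] at hsh
      have h2 := Nat.eq_of_beq_eq_true (hsh j.val (ZMod.val_lt j))
      have h3 : (j + 1).val = (j.val + 1) % 11 := by
        rw [ZMod.val_add, ZMod.val_one]
      rw [hq', Equiv.Perm.extendDomain_apply_image, hte, hιe, hιe, lperm_apply dtP_valid,
        gIdx_gPt (OmL_lt _ (OmL_nth_mem _ (ZMod.val_lt j))), h2, h3]
    · rw [Equiv.Perm.extendDomain_apply_not_subtype _ _ hq, ← rho_tau, rhoK_apply,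
        rhoF_not_mem _ hq]
  have hk0 : (ι (e 0)).1 = gPt 1 := by
    rw [hιe, ZMod.val_zero]
    rfl
  have hk1 : (ι (e 1)).1 = gPt 2 := by
    rw [hιe, ZMod.val_one]
    rfl
  have h01' : (0 : ZMod 11) ≠ 1 := zero_ne_one
  have h01 : e 0 ≠ e 1 := fun h => h01' (e.injective h)
  obtain ⟨x, hxG, hx1, hxa, hxb⟩ := exists_two_fix hα G hG h01
  have hyp : D11Hyp (G.map (Equiv.Perm.extendDomainHom ι)) :=
    hyp_of hα G hA ι ⟨t, t.2, htT⟩
  have hz : Equiv.Perm.extendDomainHom ι x ∈ G.map (Equiv.Perm.extendDomainHom ι) :=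
    Subgroup.mem_map_of_mem _ hxG
  have hz1 : Equiv.Perm.extendDomainHom ι x (gPt 1) = gPt 1 := by
    rw [← hk0, Equiv.Perm.extendDomainHom_apply, Equiv.Perm.extendDomain_apply_image, hxa]
  have hz2 : Equiv.Perm.extendDomainHom ι x (gPt 2) = gPt 2 := by
    rw [← hk1, Equiv.Perm.extendDomainHom_apply, Equiv.Perm.extendDomain_apply_image, hxb]
  have hzne : Equiv.Perm.extendDomainHom ι x ≠ 1 := fun h =>
    hx1 (Equiv.Perm.extendDomainHom_injective ι (h.trans (map_one _).symm))
  obtain ⟨s, hs, hsH⟩ := d11_dich hyp hz hz1 hz2 hzne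
  rcases hs with hs | hs
  · exact final_of G ι (d11_core hyp hs hsH)
  · -- conjugate by the reflection
    have hconj : ∀ g : Equiv.Perm α, Equiv.Perm.extendDomainHom (ι.trans sgSub) g * lperm dsgP =
        lperm dsgP * Equiv.Perm.extendDomainHom ι g := fun g => ext_conj ι g
    have ht' : lperm dtP ∈ G.map (Equiv.Perm.extendDomainHom (ι.trans sgSub)) := by
      refine ⟨(t : Equiv.Perm α)⁻¹, G.inv_mem t.2, ?_⟩
      have h1 := hconj (t : Equiv.Perm α)⁻¹
      rw [map_inv (Equiv.Perm.extendDomainHom ι), htT, sg_t10] at h1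
      exact mul_right_cancel h1
    have hyp' := hyp_of hα G hA (ι.trans sgSub) ht'
    obtain ⟨y, hyG, hy⟩ := hsH
    obtain ⟨s1, hs1, hc⟩ := zipAllB_spec d_sg_G s hs
    have h2 := conjB_sound dsgP_valid (dG2_valid hs) (dG1_valid hs1) hc
    have hs1H : lperm s1 ∈ G.map (Equiv.Perm.extendDomainHom (ι.trans sgSub)) := by
      refine ⟨y, hyG, ?_⟩
      have h1 := hconj y
      rw [hy, h2] at h1
      exact mul_right_cancel h1
    exact final_of G (ι.trans sgSub) (d11_core hyp' hs1 hs1H)

end Transport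

end Cfsg.Agent.H34
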