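import Cfsg.Agent.H34.M11Cent

/-!
# Every automorphism of `SF [1, D0]` (a copy of the Mathieu group `M11`) is inner

The involutions are conjugate (`inv_conj`); the images of a fixed second generator `b` under
automorphisms fixing the involution `a` are found by three power relations and are conjugate to
`b` under the centraliser of `a`; the elements fixed by a homomorphism fixing `a` and `b` are
certified by a straight-line program and a descent along the base `gPt 1, ..., gPt 4`.
-/

set_option autoImplicit false

namespace Cfsg.Agent.H34

open Cfsg Cfsg.Agent.H9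
open scoped Pointwise

/-! ### Power relations through index functions -/

/-- The `k`-th iterate of the index function `f` is the identity on the 24 indices. -/
def powB (f : ℕ → ℕ) (k : ℕ) : Bool := allB (fun i => Nat.beq (f^[k] i) i) 24

theorem idx_pow {g : Equiv.Perm GolayPt} {f : ℕ → ℕ} (h : ∀ p, gIdx (g p) = f (gIdx p)) (k : ℕ) :
    ∀ p, gIdx ((g ^ k) p) = f^[k] (gIdx p) := by
  induction k with
  | zero => intro p; rfl
  | succ k ih =>
    intro p
    rw [pow_succ, Equiv.Perm.mul_apply, ih, h, Function.iterate_succ_apply]

theorem idx_mul {x y : Equiv.Perm GolayPt} {fx fy : ℕ → ℕ} (hx : ∀ p, gIdx (x p) = fx (gIdx p))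
    (hy : ∀ p, gIdx (y p) = fy (gIdx p)) : ∀ p, gIdx ((x * y) p) = fx (fy (gIdx p)) := by
  intro p
  rw [Equiv.Perm.mul_apply, hx, hy]

theorem powB_complete {g : Equiv.Perm GolayPt} {f : ℕ → ℕ} (h : ∀ p, gIdx (g p) = f (gIdx p))
    {k : ℕ} (hk : g ^ k = 1) : powB f k = true := by
  rw [powB, allB_iff]
  intro i hi
  have h1 := idx_pow h k (gPt i)
  rw [hk, Equiv.Perm.one_apply, gIdx_gPt hi] at h1
  rw [← h1]
  exact Nat.beq_refl _

theorem powB_sound {g : Equiv.Perm GolayPt} {f : ℕ → ℕ} (h : ∀ p, gIdx (g p) = f (gIdx p))
    {k : ℕ} (hk : powB f k = true) : g ^ k = 1 := by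
  apply Equiv.ext
  intro p
  apply gIdx_injective
  rw [idx_pow h k p, Equiv.Perm.one_apply]
  exact Nat.eq_of_beq_eq_true ((allB_iff _ _).mp hk _ (gIdx_lt p))

theorem idx_lp {s : ℕ} (hs : svalid s = true) : ∀ p, gIdx (lperm s p) = sv s (gIdx p) :=
  gIdx_lperm hs

/-! ### The second generator and the candidates for its images -/

/-- The second generator, an element of order four. -/
def bP : ℕ := 316098014123586270379931508140017696

theorem bP_ok : okF [1, D0] bP = true := by decide +kernel

theorem bP_valid : svalid bP = true := okF_svalid' bP_ok

/-- The index function of `a * y`. -/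
def fAY (s x : ℕ) : ℕ := sv t0P (sv s x)

/-- The index function of `a * (y * (a * (y * (y * (a * (y * (y * y)))))))`. -/
def fW (s x : ℕ) : ℕ :=
  sv t0P (sv s (sv t0P (sv s (sv s (sv t0P (sv s (sv s (sv s x))))))))

/-- The three power relations. -/
def candB (s : ℕ) : Bool := powB (sv s) 4 && (powB (fAY s) 11 && powB (fW s) 3)

theorem idx_AY {s : ℕ} (hs : svalid s = true) :
    ∀ p, gIdx ((lperm t0P * lperm s) p) = fAY s (gIdx p) :=
  idx_mul (idx_lp t0P_valid) (idx_lp hs)

theorem idx_W {s : ℕ} (hs : svalid s = true) :
    ∀ p, gIdx ((lperm t0P * (lperm s * (lperm t0P * (lperm s * (lperm s * (lperm t0P *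
      (lperm s * (lperm s * lperm s)))))))) p) = fW s (gIdx p) := by
  intro p
  simp only [fW, Equiv.Perm.mul_apply, gIdx_lperm hs, gIdx_lperm t0P_valid]

/-- The centraliser of the involution `lperm t0P`. -/
def CL48 : List ℕ := [980635116092604026358934254788873344, 984522881593772296139707057299359872, 523950042924174459481925539347996800, 527856823813478175538958207099868288, 315986891471743364706263535017313408, 319874656950470941574741094907290752, 766660732256409232346088507927728224, 775735565253417249969867371176920160, 517297379111454794466727610911203424, 526397565788473730132645801063879776, 318581461491042007997444726215459936, 309497754630838768468169503493629024, 766773552689894048499648392904872000, 775863598010844603273227765747418176, 517469780222742249011426111786229824, 526548416006985806818468846137250880, 318499064364176495418166082387887168, 309409018935140415179815913457755200, 980915266709283679625909308187806752, 984818244535754528103549039458486304, 523791586879772282242503951681495072, 527684422786475290854908340216271904, 315904494069280672160691028456948768, 319790992205306377776929938803827744,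 774440091754771241036762475802956032, 976737003636602513073407446066728192, 981940551097502478945506534821562624, 769258095102437419881855620725474560, 317203590780943648300787267156624640, 312012720074404300304567770231121152, 774563054107041386824903193473880224, 977028563791046567967029054018751648, 982210560358415577342993565212575904, 769367112472711321135175356586788000, 317282185205537805898931029055685792, 312083708587463745941397936378782880, 765354635848535157007732493056512544, 973130174857336885136747289839210016, 970541711713215603919599769568250400, 762761101753804675866151829323777568, 513568882102216467498056321281991200, 516175092427993777561477052443661856, 765483935971407785077494287357219104, 972850024347760763108309532794752288, 970255222635411104091894363722975520, 762889134534731011320934095840740640, 513412961040576364015131787334426912, 516011565456179003664305341911536928]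

theorem CL48_ok : CL48.all (fun c => okF [1, D0] c && conjB c t0P t0P) = true := by decide +kernel

set_option maxRecDepth 1000000 in
theorem cand_ok : M11EL.all (fun s => !(candB s) || CL48.any (fun c => conjB c bP s)) = true := by
  decide +kernel

theorem bP_cand : candB bP = true := by decide +kernel

theorem t0P_sq : powB (sv t0P) 2 = true := by decide +kernel

theorem t0P_move : sv t0P 1 ≠ 1 := by decide +kernel

theorem t0P_ne_one : lperm t0P ≠ 1 := by
  intro h
  have h1 := congrArg (fun f : Equiv.Perm GolayPt => gIdx (f (gPt 1))) h
  simp only [gIdx_lperm t0P_valid, gIdx_gPt (by norm_num : 1 < 24), Equiv.Perm.one_apply] at h1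
  exact t0P_move h1

/-- An element satisfying the three power relations is conjugate to the second generator under
the centraliser of the involution. -/
theorem cand_conj {y : Equiv.Perm GolayPt} (hy : y ∈ SF [1, D0]) (h4 : y ^ 4 = 1)
    (h11 : (lperm t0P * y) ^ 11 = 1)
    (h3 : (lperm t0P * (y * (lperm t0P * (y * (y * (lperm t0P * (y * (y * y)))))))) ^ 3 = 1) :
    ∃ c ∈ SF [1, D0], c * lperm t0P = lperm t0P * c ∧ c * lperm bP = y * c := by
  obtain ⟨s, hs, rfl⟩ := M11_enum y hy
  have hv := M11EL_valid hs
  have hc : candB s = true := by
    simp only [candB, Bool.and_eq_true]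
    exact ⟨powB_complete (idx_lp hv) h4, powB_complete (idx_AY hv) h11,
      powB_complete (idx_W hv) h3⟩
  have h := List.all_eq_true.mp cand_ok s hs
  rw [hc] at h
  simp only [Bool.not_true, Bool.false_or] at h
  obtain ⟨c, hcL, hcb⟩ := List.any_eq_true.mp h
  have hc2 := List.all_eq_true.mp CL48_ok c hcL
  simp only [Bool.and_eq_true] at hc2
  exact ⟨lperm c, lperm_mem_SF hc2.1,
    conjB_sound (okF_svalid' hc2.1) t0P_valid t0P_valid hc2.2,
    conjB_sound (okF_svalid' hc2.1) bP_valid hv hcb⟩

/-! ### Straight-line programs -/

/-- The packed permutation `r` is the product of `s` and `t`. -/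
def prB (r s t : ℕ) : Bool := allB (fun i => Nat.beq (sv r i) (sv s (sv t i))) 24

theorem prB_sound {r s t : ℕ} (hr : svalid r = true) (hs : svalid s = true)
    (ht : svalid t = true) (h : prB r s t = true) : lperm r = lperm s * lperm t := by
  apply Equiv.ext
  intro p
  apply gIdx_injective
  rw [gIdx_lperm_mul hs ht, gIdx_lperm hr]
  exact Nat.eq_of_beq_eq_true ((allB_iff _ _).mp h _ (gIdx_lt p))

/-- One step: `r` is the product of the two looked-up entries. -/
def stepB (r : ℕ) : Option (ℕ × ℕ × ℕ) → Option (ℕ × ℕ × ℕ) → Bool
  | some x, some y => svalid r && prB r x.1 y.1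
  | _, _ => false

theorem stepB_spec {r : ℕ} {ox oy : Option (ℕ × ℕ × ℕ)} (h : stepB r ox oy = true) :
    ∃ x y, ox = some x ∧ oy = some y ∧ svalid r = true ∧ prB r x.1 y.1 = true := by
  cases ox with
  | none => simp [stepB] at h
  | some x =>
    cases oy with
    | none => simp [stepB] at h
    | some y =>
      simp only [stepB, Bool.and_eq_true] at h
      exact ⟨x, y, rfl, rfl, h.1, h.2⟩

/-- A straight-line program, newest entry first: every entry is `a`, `b`, or the product of two
later entries of the list (given by their positions in the tail). -/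
def slpB (a b : ℕ) : List (ℕ × ℕ × ℕ) → Bool
  | [] => true
  | e :: rest =>
    (Nat.beq e.1 a || (Nat.beq e.1 b || stepB e.1 rest[e.2.1]? rest[e.2.2]?)) && slpB a b rest

theorem slpB_sound {Q : ℕ → Prop} {a b : ℕ} (ha : Q a) (hb : Q b)
    (hmul : ∀ r s t, svalid r = true → Q s → Q t → prB r s t = true → Q r) :
    ∀ L : List (ℕ × ℕ × ℕ), slpB a b L = true → ∀ e ∈ L, Q e.1 := by
  intro L
  induction L with
  | nil =>
    intro _ e he
    exact absurd he List.not_mem_nil
  | cons e0 rest ih =>
    intro h e he
    simp only [slpB, Bool.and_eq_true, Bool.or_eq_true] at h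
    obtain ⟨h1, h2⟩ := h
    have ihr := ih h2
    rcases List.mem_cons.mp he with rfl | he'
    · rcases h1 with h1 | h1 | h1
      · rw [Nat.eq_of_beq_eq_true h1]
        exact ha
      · rw [Nat.eq_of_beq_eq_true h1]
        exact hb
      · obtain ⟨x, y, ex, ey, hv, hp⟩ := stepB_spec h1
        exact hmul _ _ _ hv (ihr x (List.mem_of_getElem? ex)) (ihr y (List.mem_of_getElem? ey)) hp
    · exact ihr e he'

/-- The packed permutation `s` is a valid element of the group fixed by `ψ`. -/
def FixQ (ψ : ↥(SF [1, D0]) →* ↥(SF [1, D0])) (s : ℕ) : Prop :=
  svalid s = true ∧ ∃ x : ↥(SF [1, D0]), (x : Equiv.Perm GolayPt) = lperm s ∧ ψ x = x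

theorem FixQ_mul {ψ : ↥(SF [1, D0]) →* ↥(SF [1, D0])} (r s t : ℕ) (hr : svalid r = true)
    (hs : FixQ ψ s) (ht : FixQ ψ t) (h : prB r s t = true) : FixQ ψ r := by
  obtain ⟨hsv, x, ex, hx⟩ := hs
  obtain ⟨htv, y, ey, hy⟩ := ht
  refine ⟨hr, x * y, ?_, ?_⟩
  · rw [prB_sound hr hsv htv h, ← ex, ← ey]
    rfl
  · rw [map_mul, hx, hy]

/-- The straight-line program from the two generators. -/
def SLP : List (ℕ × ℕ × ℕ) := [(984818244535754528103549039458486304, 190, 190), (523871016866241286772790268246722592, 0, 188), (858949410588062151349278852544333856, 0, 188), (856022484934522320090380584149389408, 0, 186), (478640282760346036978918379661463648, 0, 185), (765159633059895636262685980069761120, 0, 185), (769382058286004880357689642984817824, 0, 183), (817314570639430346014020313660507296, 0, 183), (810310999052921206877036318952045696, 0, 181), (556045456930473047402290825462594688, 0, 181), (561345345995167487433406017283008032, 0, 179), (902916492431976509282277944605222432, 0, 179), (893905041580879652366711674323114464, 102, 177), (932855694972972591231736865702905888, 0, 177), (929876795152792032578515625929936352,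 0, 175), (973134031377700263854397642261007840, 0, 174), (314608593837887084767953408607423968, 0, 173), (808283906901059228627113278050438624, 0, 173), (813258009453228079573880291284059680, 0, 171), (556518368760210167858340761588532768, 0, 170), (486153371547291502950117903781987872, 0, 169), (309892027426922470085378993560192544, 0, 169), (320158412799268601719816930047605888, 0, 167), (522368016492183932939251334901841024, 0, 167), (527896082176507483323197116002047008, 0, 165), (606656636258101362794030502467671072, 132, 164), (596693935057177821627616253167372320, 0, 163), (564150615848193157778515083214227488, 0, 163), (554589004581002858166026172053406816, 0, 161), (693676616656099773342767583034754144, 0, 161), (679835575244751565025353159587434560, 0, 159), (774237080976405607203200082937811008, 0, 159), (762770270393491507300212651793192480, 0, 157), (941651875499088870533707550851012128, 0, 156), (965263547457815315247056966037640736, 0, 156), (983226869832047311835232873827437760, 0, 154), (483642514931922677019420888590159040, 0, 153), (561365925201207261595713904300920000, 0, 153), (566754549413805499307687257552556512,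 0, 151), (882340146661446426819543931687309792, 0, 151), (898778524343006259394884085975491680, 0, 149), (693635138320397548316603557913830496, 0, 148), (813108737235952632867563157141529696, 0, 148), (818734412348945147251443231205136640, 134, 146), (680741985038306602728348918842755104, 0, 146), (695258684039425813560012599297379616, 0, 144), (317489101231376144424838687610801440, 0, 144), (321095448002246017512161884601685056, 0, 142), (526633694407594849901355036939850816, 0, 141), (807858104903893335114724681963312192, 0, 140), (691483703485126295467280107499197504, 0, 140), (683329145130365089262514038682854432, 0, 138), (902673005950372216607814776213972000, 0, 137), (466557204126210874013677511465182240, 0, 137), (487685770781139164823113272481061344, 0, 135), (608175325044662278699679201636162016, 0, 134), (524031079720784926301819974083320288, 0, 133), (882059957428652667043149178440030688, 84, 133), (487616041172978902898937048930027552, 0, 132), (466917208783571971384012298708389120, 0, 130), (599284656322287194276469049938742528, 0, 130), (591422925054279722474260695129106496, 0, 128), (979411231622937212761527020198275136,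 0, 127), (930210345711197650950834300421974080, 0, 126), (474475766127856547658009240071841856, 0, 126), (473334919703650385711409115905204256, 0, 124), (757738639242990883200429921073930272, 79, 123), (798866382324465456966349450561816608, 0, 122), (899214583888558003150069357295700000, 0, 121), (763819876514324904847158402187855904, 0, 121), (774330917871014792544622385306872064, 0, 119), (309739821577098334719006078283524352, 0, 119), (317643385700559493956544776173337664, 0, 117), (513614814707557175420914046525946944, 0, 116), (695371457633468392531189053621582912, 0, 116), (679691095292812691801664240828777632, 0, 114), (849240160127943190589946886973064352, 0, 113), (896462805459759279758408883906086048, 0, 112), (528626239028616781885291768592794784, 0, 112), (522378187175643014698243372857985344, 0, 110), (596654714788605625529975721889499456, 0, 110), (605811945319697868921830376273416224, 80, 108), (312285355390548198233592884127434784, 0, 107), (858491673708910280360910572945213472, 0, 106), (565402183042051720333472521821587488, 0, 105), (610567220055306514578258606788085792, 0, 105), (607157358437169913380247280647476704,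 0, 103), (893903597025739526639307416316188128, 0, 102), (757728666282078826616874151162746336, 0, 101), (569394724135980010848795235302020576, 0, 101), (549602222298368849268973087227020608, 0, 99), (690152381838466732343882147043607872, 0, 98), (974059698268691857533044475079984448, 0, 97), (777121087357851347370237775098381632, 0, 97), (766326091879862411866759567211805984, 52, 95), (940387876620171959146530426437568544, 0, 95), (923798648351566926066751374940514848, 0, 93), (972726918443926366077693917124504096, 0, 92), (524004198078826481701156465618168352, 0, 92), (515918092481707313184167221435645056, 0, 90), (317652227872063275938878796673105024, 0, 89), (480871394558483421180562914413722752, 0, 89), (483764094258743219091799818218473760, 0, 87), (565158755646704069163520326003493152, 0, 87), (566636796538187843787310104946218464, 0, 85), (777845172650343644073144487021581792, 65, 84), (798823512074428879819889637572511776, 0, 84), (815950224458643164081507975434413248, 0, 82), (558849656593591835253828451584779456, 0, 81), (983396996021783447037381529091744960, 0, 81), (974063561993191207400617624853595456,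 0, 79), (840641809853183929270726941601973568, 0, 79), (849402265892696603806784856521220384, 0, 77), (901420578025552098314256885405425952, 0, 76), (519702132145435079914670945924751648, 0, 76), (527805984795344938200268646296852960, 0, 74), (591462584904293317407407047186717152, 33, 74), (806614503716222059404752332486084640, 0, 72), (487374150087885739724361845178861600, 0, 71), (757289066455260142361759855112914976, 0, 71), (778213541210023864674927853186401760, 0, 69), (566745971873561320428881226250700256, 0, 68), (610767537053160192126658658946008544, 0, 68), (608010476069880041368580775604691040, 0, 66), (965216593744657140224291964965920864, 0, 65), (804012768391059654678551646161674336, 0, 65), (798987960211410450265674406463539488, 50, 63), (565540388997140884692562485032797216, 0, 63), (568864050147186347102092992336929248, 3, 61), (564231943399370938640930458563623968, 0, 61), (561360794048247480653042480882093600, 0, 59), (485976070050277200633077753317690912, 0, 59), (478521254623721816443431224836465120, 0, 57), (777847545476757653602598454203458016, 0, 56), (607026837528761790475672062353514976,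 0, 56), (611889386470272498693891235427648704, 16, 54), (970327733665001771531453081629206560, 0, 54), (980885678629453614075845517226884640, 0, 52), (775493622182994509181902012543024672, 0, 51), (923772064829772011158189983163137568, 0, 50), (513289776294037085280746476923829792, 0, 50), (508140737777702182668980081644766368, 0, 48), (897727643275396929698439305484240032, 0, 47), (861207090272110098070936022474163360, 29, 47), (819923270339745040591734200835646496, 0, 46), (806852921614296326632121094248894720, 3, 44), (808227695578774377179173785546760224, 0, 44), (798994406432376765287226282444340512, 0, 42), (515804798677787917886002624651738400, 0, 42), (508419703890380257736522042520867072, 0, 40), (610849438859328445603333162803597568, 0, 39), (695337665851870351512815545914265856, 0, 39), (693641588762175915276630798838662336, 0, 37), (308149009509045916856251184947758272, 35, 37), (318695852609133831746333138936633376, 0, 36), (320162484423982090458778567026359360, 0, 34), (762553583659663683828991373665778752, 0, 34), (776801540912464385191013880976347328, 14, 32), (852404533161204743644039096031548448,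 0, 32), (855972850721136735199581401529893952, 0, 30), (937714869562931128198153816216126528, 0, 30), (939457849602731062547405568173709472, 7, 28), (977019619596958848382348384257970208, 0, 28), (979060457590977222460250037729501248, 22, 26), (567925679332064918603582865179741216, 0, 26), (555234357697234079107857000124491840, 0, 24), (818370335617360259474940042687981632, 0, 24), (803821945149345506192364945333884000, 7, 22), (690158716387813636057720915638816288, 0, 22), (674294544343824783086384392652822688, 0, 20), (555238868982619649440291871744104608, 11, 19), (901529956561277638725364635960219104, 0, 19), (902658125717858731168410854640226496, 0, 17), (855981992869670185363435079043420352, 7, 16), (887243414417543785057833684055527744, 0, 16), (898771072093868557303092229919872096, 0, 14), (979056817118496267485194170352571488, 6, 13), (859922487125373878184642112756320544, 0, 13), (840727048151048111023533913581623552, 0, 11), (474754464732293693162270895225575680, 0, 10), (688857090874815774926101581253417216, 7, 10), (305561619198786789946664226558906560, 8, 9), (854721482759618955615631114337589408,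 2, 8), (569070631530414074314494882857686112, 0, 7), (564023005545664326697793580208130080, 0, 5), (845928067797247604214473723502331936, 4, 4), (482090788381010706491590793060524096, 0, 4), (481108398710996648241918706853350528, 0, 2), (682086766621556617014954008053484672, 0, 1), (320152036248693840289262845573500032, 1, 0), (316098014123586270379931508140017696, 0, 0), (980635116092604026358934254788873344, 0, 0)]

set_option maxRecDepth 100000 in
theorem SLP_ok : slpB t0P bP SLP = true := by decide +kernel

/-- The packed permutation fixes the indices below `k`. -/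
def fixLow (s k : ℕ) : Bool := allB (fun i => Nat.beq (sv s i) i) k

/-- Level `k` of the descent: every point of the dodecad with index at least `k` is the image of
`k` under an entry of the list fixing the indices below `k`. -/
def levB (k : ℕ) (L : List (ℕ × ℕ × ℕ)) : Bool :=
  allB (fun j => !(D0.testBit j && Nat.ble k j) ||
    L.any (fun e => fixLow e.1 k && Nat.beq (sv e.1 k) j)) 24

set_option maxRecDepth 100000 in
theorem SLP_lev : (levB 1 SLP && (levB 2 SLP && (levB 3 SLP && levB 4 SLP))) = true := by
  decide +kernel

theorem D0_low : ∀ k, k < 5 → D0.testBit k = true := by decide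

theorem desc_step {ψ : ↥(SF [1, D0]) →* ↥(SF [1, D0])} (hS : ∀ e ∈ SLP, FixQ ψ e.1) (k : ℕ)
    (hk : k < 5) (hl : levB k SLP = true)
    (hnext : ∀ g : ↥(SF [1, D0]),
      (∀ i, i < k + 1 → (g : Equiv.Perm GolayPt) (gPt i) = gPt i) → ψ g = g)
    (g : ↥(SF [1, D0])) (hg : ∀ i, i < k → (g : Equiv.Perm GolayPt) (gPt i) = gPt i) :
    ψ g = g := by
  have hk24 : k < 24 := by omega
  have hjD : D0.testBit (gIdx ((g : Equiv.Perm GolayPt) (gPt k))) = true := by
    rw [SF_testBit g.2 (m := D0) (by simp), gIdx_gPt hk24]
    exact D0_low k hk
  have hjk : k ≤ gIdx ((g : Equiv.Perm GolayPt) (gPt k)) := by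
    by_contra hlt
    rw [not_le] at hlt
    have h1 := hg _ hlt
    rw [gPt_gIdx] at h1
    have h2 := (g : Equiv.Perm GolayPt).injective h1
    rw [h2, gIdx_gPt hk24] at hlt
    exact lt_irrefl _ hlt
  have h := (allB_iff _ _).mp hl _ (gIdx_lt ((g : Equiv.Perm GolayPt) (gPt k)))
  rw [hjD, Nat.ble_eq_true_of_le hjk] at h
  simp only [Bool.and_self, Bool.not_true, Bool.false_or] at h
  obtain ⟨e, he, hw⟩ := List.any_eq_true.mp h
  simp only [Bool.and_eq_true] at hw
  obtain ⟨hw1, hw2⟩ := hw
  obtain ⟨hv, x, ex, hx⟩ := hS e he
  have hfixx : ∀ i, i < k → (x : Equiv.Perm GolayPt) (gPt i) = gPt i := by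
    intro i hi
    rw [ex, lperm_apply hv, gIdx_gPt (by omega),
      Nat.eq_of_beq_eq_true ((allB_iff _ _).mp hw1 i hi)]
  have hxk : (x : Equiv.Perm GolayPt) (gPt k) = (g : Equiv.Perm GolayPt) (gPt k) := by
    rw [ex, lperm_apply hv, gIdx_gPt hk24, Nat.eq_of_beq_eq_true hw2, gPt_gIdx]
  have h' : ψ (x⁻¹ * g) = x⁻¹ * g := by
    apply hnext
    intro i hi
    show ((x : Equiv.Perm GolayPt)⁻¹ * (g : Equiv.Perm GolayPt)) (gPt i) = gPt i
    rw [Equiv.Perm.mul_apply, Equiv.Perm.inv_eq_iff_eq]
    rcases Nat.lt_succ_iff_lt_or_eq.mp hi with hi' | rfl
    · rw [hg i hi', hfixx i hi']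
    · exact hxk.symm
  have e2 : g = x * (x⁻¹ * g) := by group
  rw [e2, map_mul, hx, h']

/-- A homomorphism fixing the two generators is the identity. -/
theorem hom_fix_all (ψ : ↥(SF [1, D0]) →* ↥(SF [1, D0])) (ha : FixQ ψ t0P) (hb : FixQ ψ bP)
    (g : ↥(SF [1, D0])) : ψ g = g := by
  have hS := slpB_sound ha hb (fun r s t => FixQ_mul r s t) SLP SLP_ok
  have hl := SLP_lev
  simp only [Bool.and_eq_true] at hl
  obtain ⟨l1, l2, l3, l4⟩ := hl
  have T5 : ∀ g : ↥(SF [1, D0]),
      (∀ i, i < 5 → (g : Equiv.Perm GolayPt) (gPt i) = gPt i) → ψ g = g := by
    intro g hg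
    have h1 : (g : Equiv.Perm GolayPt) ∈ SF [16, 8, 4, 2, 1, D0] := by
      refine ⟨g.2.1, ?_⟩
      intro m hm
      simp only [List.mem_cons, List.not_mem_nil, or_false] at hm
      rcases hm with rfl | rfl | rfl | rfl | rfl | rfl
      · show (g : Equiv.Perm GolayPt) • fs (2 ^ 4) = fs (2 ^ 4)
        rw [smul_fs_pt _ (by norm_num), hg 4 (by norm_num), gIdx_gPt (by norm_num)]
      · show (g : Equiv.Perm GolayPt) • fs (2 ^ 3) = fs (2 ^ 3)
        rw [smul_fs_pt _ (by norm_num), hg 3 (by norm_num), gIdx_gPt (by norm_num)]
      · show (g : Equiv.Perm GolayPt) • fs (2 ^ 2) = fs (2 ^ 2)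
        rw [smul_fs_pt _ (by norm_num), hg 2 (by norm_num), gIdx_gPt (by norm_num)]
      · show (g : Equiv.Perm GolayPt) • fs (2 ^ 1) = fs (2 ^ 1)
        rw [smul_fs_pt _ (by norm_num), hg 1 (by norm_num), gIdx_gPt (by norm_num)]
      · exact g.2.2 1 (by simp)
      · exact g.2.2 D0 (by simp)
    have h2 : SF [16, 8, 4, 2, 1, D0] = ⊥ := Subgroup.card_eq_one.mp card_SF_D5
    rw [h2, Subgroup.mem_bot] at h1
    have h3 : g = 1 := Subtype.ext h1
    rw [h3, map_one]
  have T4 := desc_step hS 4 (by norm_num) l4 T5
  have T3 := desc_step hS 3 (by norm_num) l3 T4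
  have T2 := desc_step hS 2 (by norm_num) l2 T3
  have T1 := desc_step hS 1 (by norm_num) l1 T2
  apply T1
  intro i hi
  have hi0 : i = 0 := by omega
  rw [hi0]
  exact SF_fix_pt g.2 (j := 0) (by norm_num) (by simp)

/-! ### Automorphisms -/

/-- The involution, as an element of the group. -/
noncomputable def aM : ↥(SF [1, D0]) := ⟨lperm t0P, lperm_mem_SF t0P_ok⟩

/-- The second generator, as an element of the group. -/
noncomputable def bM : ↥(SF [1, D0]) := ⟨lperm bP, lperm_mem_SF bP_ok⟩

theorem aM_sq : aM * aM = 1 := by
  apply Subtype.ext
  show lperm t0P * lperm t0P = 1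
  rw [← pow_two]
  exact powB_sound (idx_lp t0P_valid) t0P_sq

theorem aM_ne_one : aM ≠ 1 := fun h => t0P_ne_one (congrArg Subtype.val h)

theorem bM_pow4 : bM ^ 4 = 1 := by
  apply Subtype.ext
  show lperm bP ^ 4 = 1
  have h := bP_cand
  simp only [candB, Bool.and_eq_true] at h
  exact powB_sound (idx_lp bP_valid) h.1

theorem abM_pow11 : (aM * bM) ^ 11 = 1 := by
  apply Subtype.ext
  show (lperm t0P * lperm bP) ^ 11 = 1
  have h := bP_cand
  simp only [candB, Bool.and_eq_true] at h
  exact powB_sound (idx_AY bP_valid) h.2.1

theorem wM_pow3 : (aM * (bM * (aM * (bM * (bM * (aM * (bM * (bM * bM)))))))) ^ 3 = 1 := by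
  apply Subtype.ext
  show (lperm t0P * (lperm bP * (lperm t0P * (lperm bP * (lperm bP * (lperm t0P *
      (lperm bP * (lperm bP * lperm bP)))))))) ^ 3 = 1
  have h := bP_cand
  simp only [candB, Bool.and_eq_true] at h
  exact powB_sound (idx_W bP_valid) h.2.2

/-- Every automorphism of `SF [1, D0]` is inner. -/
theorem aut_inner (α : MulAut ↥(SF [1, D0])) : ∃ g : ↥(SF [1, D0]), α = MulAut.conj g := by
  have h1 : ((α aM : ↥(SF [1, D0])) : Equiv.Perm GolayPt) *
      ((α aM : ↥(SF [1, D0])) : Equiv.Perm GolayPt) = 1 := by
    have h : α aM * α aM = 1 := by rw [← map_mul, aM_sq, map_one]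
    exact congrArg Subtype.val h
  have h2 : ((α aM : ↥(SF [1, D0])) : Equiv.Perm GolayPt) ≠ 1 := by
    intro h
    have h' : α aM = 1 := Subtype.ext h
    have h'' : aM = 1 := α.injective (by rw [h', map_one])
    exact aM_ne_one h''
  obtain ⟨c1, hc1, e1⟩ := inv_conj (α aM).2 h1 h2
  obtain ⟨c1M, hc1M⟩ : ∃ c1M : ↥(SF [1, D0]), (c1M : Equiv.Perm GolayPt) = c1 := ⟨⟨c1, hc1⟩, rfl⟩
  obtain ⟨β, hβ⟩ : ∃ β : MulAut ↥(SF [1, D0]), β = MulAut.conj c1M⁻¹ * α := ⟨_, rfl⟩
  have hβa : β aM = aM := by
    rw [hβ, MulAut.mul_apply, MulAut.conj_apply]
    apply Subtype.ext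
    show (c1M : Equiv.Perm GolayPt)⁻¹ * ((α aM : ↥(SF [1, D0])) : Equiv.Perm GolayPt) *
      (c1M : Equiv.Perm GolayPt)⁻¹⁻¹ = lperm t0P
    rw [← e1, hc1M]
    group
  have hy4 : ((β bM : ↥(SF [1, D0])) : Equiv.Perm GolayPt) ^ 4 = 1 := by
    have h : (β bM) ^ 4 = 1 := by rw [← map_pow, bM_pow4, map_one]
    exact congrArg Subtype.val h
  have hy11 : (lperm t0P * ((β bM : ↥(SF [1, D0])) : Equiv.Perm GolayPt)) ^ 11 = 1 := by
    have h : (β aM * β bM) ^ 11 = 1 := by rw [← map_mul, ← map_pow, abM_pow11, map_one]
    rw [hβa] at h
    exact congrArg Subtype.val h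
  have hy3 : (lperm t0P * (((β bM : ↥(SF [1, D0])) : Equiv.Perm GolayPt) * (lperm t0P *
      (((β bM : ↥(SF [1, D0])) : Equiv.Perm GolayPt) *
      (((β bM : ↥(SF [1, D0])) : Equiv.Perm GolayPt) * (lperm t0P *
      (((β bM : ↥(SF [1, D0])) : Equiv.Perm GolayPt) *
      (((β bM : ↥(SF [1, D0])) : Equiv.Perm GolayPt) *
      ((β bM : ↥(SF [1, D0])) : Equiv.Perm GolayPt))))))))) ^ 3 = 1 := by
    have h : (β aM * (β bM * (β aM * (β bM * (β bM * (β aM * (β bM * (β bM * β bM)))))))) ^ 3
        = 1 := by
      simp only [← map_mul, ← map_pow]
      rw [wM_pow3, map_one]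
    rw [hβa] at h
    exact congrArg Subtype.val h
  obtain ⟨c2, hc2, ec2a, ec2b⟩ := cand_conj (β bM).2 hy4 hy11 hy3
  obtain ⟨c2M, hc2M⟩ : ∃ c2M : ↥(SF [1, D0]), (c2M : Equiv.Perm GolayPt) = c2 := ⟨⟨c2, hc2⟩, rfl⟩
  have hγa : (MulAut.conj c2M⁻¹ * β) aM = aM := by
    rw [MulAut.mul_apply, hβa, MulAut.conj_apply]
    apply Subtype.ext
    show (c2M : Equiv.Perm GolayPt)⁻¹ * lperm t0P * (c2M : Equiv.Perm GolayPt)⁻¹⁻¹ = lperm t0P
    rw [hc2M, inv_inv, mul_assoc, ← ec2a, ← mul_assoc, inv_mul_cancel, one_mul]
  have hγb : (MulAut.conj c2M⁻¹ * β) bM = bM := by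
    rw [MulAut.mul_apply, MulAut.conj_apply]
    apply Subtype.ext
    show (c2M : Equiv.Perm GolayPt)⁻¹ * ((β bM : ↥(SF [1, D0])) : Equiv.Perm GolayPt) *
      (c2M : Equiv.Perm GolayPt)⁻¹⁻¹ = lperm bP
    rw [hc2M, inv_inv, mul_assoc, ← ec2b, ← mul_assoc, inv_mul_cancel, one_mul]
  have hγ : ∀ g, (MulAut.conj c2M⁻¹ * β) g = g :=
    hom_fix_all (MulEquiv.toMonoidHom (MulAut.conj c2M⁻¹ * β)) ⟨t0P_valid, aM, rfl, hγa⟩
      ⟨bP_valid, bM, rfl, hγb⟩
  refine ⟨c1M * c2M, ?_⟩
  ext g
  have h := hγ g
  rw [MulAut.mul_apply, hβ, MulAut.mul_apply, MulAut.conj_apply, MulAut.conj_apply] at h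
  rw [MulAut.conj_apply]
  have e : c1M * c2M * (c2M⁻¹ * (c1M⁻¹ * α g * c1M⁻¹⁻¹) * c2M⁻¹⁻¹) * (c1M * c2M)⁻¹ = α g := by
    group
  rw [← e, h]

end Cfsg.Agent.H34
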