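import Cfsg.Agent.H34.Syl2Q
import Cfsg.Agent.H34.M11L211
import Cfsg.Agent.H34.M11Out

/-!
# Kernel tools for permutation groups on eleven of the 24 points (helper34 library)

The eleven points are those of index in `OmL` (the dodecad `D0` without the point of index `0`),
listed along a cycle of an element of order eleven.  This file has

* `dfsR`: a depth-first enumeration of the permutations `z` of the nine points `FL` with
  `z ^ p` prescribed (`roots_enum1`, `roots_enum2`);
* `tryW`: a check that a word in given permutations has a power that is a cycle of length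
  `2`, `3`, `5` or `7` (`tryW_sound`);
* `wordIs`: a check that a word in given permutations is a given permutation.

The functions evaluated by the kernel are written with recursors, to keep the number of
reduction steps low.
-/

set_option autoImplicit false

namespace Cfsg.Agent.H34

open Cfsg Cfsg.Agent.H9

noncomputable section

/-! ### Evaluation primitives -/

/-- `k v`, with `v` evaluated first. -/
def nlt {β : Type} (v : ℕ) (k : ℕ → β) : β :=
  @Nat.rec (fun _ => β) (k 0) (fun n _ => k (Nat.succ n)) v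

theorem nlt_eq {β : Type} (v : ℕ) (k : ℕ → β) : nlt v k = k v := by
  cases v <;> rfl

/-- `x || y`. -/
def orR (x y : Bool) : Bool := @Bool.rec (fun _ => Bool) y true x

theorem orR_eq (x y : Bool) : orR x y = (x || y) := by
  cases x <;> rfl

/-- `L.all f`. -/
def allR (f : ℕ → Bool) (L : List ℕ) : Bool :=
  @List.rec ℕ (fun _ => Bool) true (fun a _ ih => @Bool.rec (fun _ => Bool) false ih (f a)) L

theorem allR_eq (f : ℕ → Bool) (L : List ℕ) : allR f L = L.all f := by
  induction L with
  | nil => rfl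
  | cons a L ih =>
    show @Bool.rec (fun _ => Bool) false (allR f L) (f a) = _
    rw [List.all_cons, ih]
    cases f a <;> rfl

theorem allR_spec {f : ℕ → Bool} {L : List ℕ} (h : allR f L = true) : ∀ a ∈ L, f a = true := by
  rw [allR_eq] at h
  exact List.all_eq_true.mp h

/-- `k (L.map f)`, with the values evaluated first. -/
def fmapK (f : ℕ → ℕ) (L : List ℕ) : (List ℕ → Bool) → Bool :=
  @List.rec ℕ (fun _ => (List ℕ → Bool) → Bool) (fun k => k [])
    (fun a _ ih k => nlt (f a) (fun v => ih (fun l => k (v :: l)))) L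

theorem fmapK_eq (f : ℕ → ℕ) : ∀ (L : List ℕ) (k : List ℕ → Bool), fmapK f L k = k (L.map f) := by
  intro L
  induction L with
  | nil => intro k; rfl
  | cons a r ih =>
    intro k
    show nlt (f a) (fun v => fmapK f r (fun l => k (v :: l))) = _
    rw [nlt_eq, ih]
    rfl

/-- `f^[n]`. -/
def itR (f : ℕ → ℕ) (n : ℕ) : ℕ → ℕ :=
  @Nat.rec (fun _ => ℕ → ℕ) (fun a => a) (fun _ ih a => ih (f a)) n

theorem itR_eq (f : ℕ → ℕ) (n : ℕ) : ∀ a, itR f n a = f^[n] a := by
  induction n with
  | zero => intro a; rfl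
  | succ n ih =>
    intro a
    show itR f n (f a) = _
    rw [ih, Function.iterate_succ_apply]

/-- The image of a point under a word of packed permutations. -/
def evalR (L : List ℕ) (i : ℕ) : ℕ := @List.rec ℕ (fun _ => ℕ) i (fun a _ ih => sv a ih) L

theorem evalR_eq (L : List ℕ) (i : ℕ) : evalR L i = evalW L i := by
  induction L with
  | nil => rfl
  | cons a L ih =>
    show sv a (evalR L i) = sv a (evalW L i)
    rw [ih]

theorem nthL_cases {d : ℕ} : ∀ (L : List ℕ) (n : ℕ), nthL d L n = d ∨ nthL d L n ∈ L := by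
  intro L
  induction L with
  | nil => intro n; exact Or.inl rfl
  | cons a L ih =>
    intro n
    cases n with
    | zero => exact Or.inr List.mem_cons_self
    | succ n =>
      rcases ih n with h | h
      · exact Or.inl h
      · exact Or.inr (List.mem_cons_of_mem _ h)

/-! ### Fields of packed maps -/

theorem sv_le (s i : ℕ) : sv s i ≤ 31 := Nat.and_le_right

theorem sv_zero (j : ℕ) : sv 0 j = 0 := by
  show (0 >>> (5 * j)) &&& 31 = 0
  simp

theorem sv_testBit (s i j : ℕ) :
    (sv s i).testBit j = (s.testBit (5 * i + j) && decide (j < 5)) := by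
  show ((s >>> (5 * i)) &&& 31).testBit j = _
  rw [Nat.testBit_and, Nat.testBit_shiftRight]
  congr 1
  have h : (31 : ℕ) = 2 ^ 5 - 1 := rfl
  rw [h, Nat.testBit_two_pow_sub_one]

/-- Writing a value into an empty field of a packed map. -/
theorem sv_set {F u a : ℕ} (hF : sv F u = 0) (ha : a < 32) (i : ℕ) :
    sv (F ||| a <<< (5 * u)) i = if i = u then a else sv F i := by
  have ha' : ∀ k, 5 ≤ k → a.testBit k = false := by
    intro k hk
    have h32 : (32 : ℕ) ≤ 2 ^ k := by
      calc (32 : ℕ) = 2 ^ 5 := rfl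
        _ ≤ 2 ^ k := Nat.pow_le_pow_right (by norm_num) hk
    exact Nat.testBit_lt_two_pow (lt_of_lt_of_le ha h32)
  apply Nat.eq_of_testBit_eq
  intro j
  rw [sv_testBit, Nat.testBit_or, Nat.testBit_shiftLeft]
  by_cases hj : j < 5
  · simp only [hj, decide_true, Bool.and_true]
    by_cases hi : i = u
    · subst hi
      have h0 : F.testBit (5 * i + j) = false := by
        have h1 := sv_testBit F i j
        rw [hF, Nat.zero_testBit] at h1
        simpa [hj] using h1.symm
      rw [if_pos rfl, h0, Bool.false_or]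
      simp
    · rw [if_neg hi, sv_testBit]
      simp only [hj, decide_true, Bool.and_true]
      by_cases hge : 5 * u ≤ 5 * i + j
      · have h5 : 5 ≤ 5 * i + j - 5 * u := by omega
        rw [ha' _ h5]
        simp
      · simp [hge]
  · simp only [hj, decide_false, Bool.and_false]
    split_ifs with hi
    · exact (ha' j (by omega)).symm
    · rw [sv_testBit]
      simp [hj]

theorem sv_setN {F u a : ℕ} (hF : sv F u = 0) (ha : a < 32) (i : ℕ) :
    sv (Nat.lor F (Nat.shiftLeft a (Nat.mul 5 u))) i = if i = u then a else sv F i :=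
  sv_set hF ha i

/-- The bit `v` of `m` is set. -/
def bitB (m v : ℕ) : Bool := Nat.beq (Nat.land (Nat.shiftRight m v) 1) 1

theorem bitB_testBit {m v : ℕ} (h : bitB m v = true) : m.testBit v = true := by
  have h1 : m >>> v &&& 1 = 1 := Nat.eq_of_beq_eq_true h
  simp [Nat.testBit, Nat.and_comm 1, h1]

/-- The packed map with the values of `f` at the positions of `L`. -/
def packT (f : ℕ → ℕ) (L : List ℕ) : ℕ :=
  @List.rec ℕ (fun _ => ℕ) 0 (fun i _ acc => Nat.lor acc (Nat.shiftLeft (f i) (Nat.mul 5 i))) L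

theorem packT_spec {f : ℕ → ℕ} : ∀ (L : List ℕ), L.Nodup → (∀ i ∈ L, f i < 32) →
    (∀ i ∈ L, sv (packT f L) i = f i) ∧ (∀ j, j ∉ L → sv (packT f L) j = 0) := by
  intro L
  induction L with
  | nil =>
    intro _ _
    exact ⟨fun i hi => absurd hi List.not_mem_nil, fun j _ => sv_zero j⟩
  | cons a L ih =>
    intro hnd hlt
    obtain ⟨h1, h2⟩ := ih (List.nodup_cons.mp hnd).2 (fun i hi => hlt i (List.mem_cons_of_mem _ hi))
    have haL : a ∉ L := (List.nodup_cons.mp hnd).1
    have key : ∀ i, sv (packT f (a :: L)) i = if i = a then f a else sv (packT f L) i :=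
      fun i => sv_setN (h2 a haL) (hlt a List.mem_cons_self) i
    constructor
    · intro i hi
      rw [key]
      rcases List.mem_cons.mp hi with rfl | hi'
      · rw [if_pos rfl]
      · have hia : i ≠ a := fun e => haL (e ▸ hi')
        rw [if_neg hia]
        exact h1 i hi'
    · intro j hj
      rw [key]
      have hja : j ≠ a := fun e => hj (e ▸ List.mem_cons_self)
      rw [if_neg hja]
      exact h2 j (fun hm => hj (List.mem_cons_of_mem _ hm))

/-! ### The eleven points -/

/-- The indices of the eleven points, along the cycle of the element of order eleven. -/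
def OmL : List ℕ := [1, 2, 3, 6, 15, 9, 10, 5, 17, 4, 8]

/-- The nine points other than the first two. -/
def FL : List ℕ := [3, 6, 15, 9, 10, 5, 17, 4, 8]

/-- The mask of the eleven points. -/
def OmM : ℕ := 165758

/-- The packed identity, with the value `0` at the nine points. -/
def F0P : ℕ := 984818243877532198243661949867919392

theorem OmL_lt : ∀ i ∈ OmL, i < 24 := by decide

theorem OmL_nodup : OmL.Nodup := by decide

theorem OmM_mem : ∀ v, v < 32 → OmM.testBit v = true → v ∈ OmL := by decide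

theorem FL_nodup : FL.Nodup := by decide

theorem FL_sub : ∀ i ∈ FL, i ∈ OmL := by decide

theorem FL_lt : ∀ i ∈ FL, i < 24 := by decide

theorem FL_compl : ∀ i, i < 24 → i ∉ FL → i = 1 ∨ i = 2 ∨ i ∉ OmL := by decide

theorem F0P_zero : ∀ i ∈ FL, sv F0P i = 0 := by decide +kernel

theorem F0P_id : ∀ i, i < 24 → i ∉ FL → sv F0P i = i := by decide +kernel

/-! ### Enumeration of roots -/

/-- Follow the partial map `k` times from `v`: an unassigned point (value `0`) is met, or the
end point is `tg`. -/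
def chainB (F : ℕ) (k : ℕ) : ℕ → ℕ → Bool :=
  @Nat.rec (fun _ => ℕ → ℕ → Bool) (fun v tg => Nat.beq v tg)
    (fun _ ih v tg => nlt (sv F v) (fun v' => orR (Nat.beq v' 0) (ih v' tg))) k

/-- The partial map is compatible with `z ^ p = g`, as far as it is assigned (the points are
assigned in the order of the list). -/
def chkU (p g F : ℕ) (L : List ℕ) : Bool :=
  @List.rec ℕ (fun _ => Bool) true
    (fun u _ ih => @Bool.rec (fun _ => Bool)
      (@Bool.rec (fun _ => Bool) false ih (chainB F p u (sv g u))) true (Nat.beq (sv F u) 0)) L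

/-- The partial map commutes with `g` at `u`, as far as it is assigned. -/
def commB (g F u : ℕ) : Bool :=
  nlt (sv F u) (fun a => orR (Nat.beq a 0)
    (nlt (sv F (sv g u)) (fun b => orR (Nat.beq b 0) (Nat.beq b (sv g a)))))

/-- The partial map is compatible with `z ^ p = g` and commutes with `g`. -/
def chkC (p g F : ℕ) (L : List ℕ) : Bool :=
  @List.rec ℕ (fun _ => Bool) true
    (fun u _ ih => @Bool.rec (fun _ => Bool)
      (@Bool.rec (fun _ => Bool) false
        (@Bool.rec (fun _ => Bool) false ih (commB g F u)) (chainB F p u (sv g u)))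
      true (Nat.beq (sv F u) 0)) L

/-- Depth-first search for the maps of the nine points passing the check `chk` at each step:
remaining points, packed partial map, mask of the values used. -/
def dfsR (chk : ℕ → Bool) (T : ℕ → Bool) (rest : List ℕ) : ℕ → ℕ → Bool :=
  @List.rec ℕ (fun _ => ℕ → ℕ → Bool) (fun F _ => T F)
    (fun u _ ih F used => allR (fun a => orR (bitB used a)
      (nlt (Nat.lor F (Nat.shiftLeft a (Nat.mul 5 u))) (fun F' =>
        @Bool.rec (fun _ => Bool) true
          (nlt (Nat.lor used (Nat.shiftLeft 1 a)) (fun used' => ih F' used'))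
          (chk F')))) FL) rest

theorem chain_ok {ξ : ℕ → ℕ} {F : ℕ} {rest : List ℕ} (hFL : ∀ i ∈ FL, ξ i ∈ FL)
    (h1 : ∀ i ∈ FL, i ∉ rest → sv F i = ξ i) (h2 : ∀ i ∈ rest, sv F i = 0) :
    ∀ (k v : ℕ), v ∈ FL → chainB F k v (ξ^[k] v) = true := by
  intro k
  induction k with
  | zero =>
    intro v _
    exact Nat.beq_refl v
  | succ k ih =>
    intro v hv
    show nlt (sv F v) (fun v' => orR (Nat.beq v' 0) (chainB F k v' (ξ^[k + 1] v))) = true
    rw [nlt_eq, orR_eq]
    by_cases hr : v ∈ rest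
    · rw [h2 v hr]
      rfl
    · rw [h1 v hv hr, Function.iterate_succ_apply, ih (ξ v) (hFL v hv)]
      exact Bool.or_true _

theorem chkU_ok {p g F : ℕ} : ∀ (L : List ℕ),
    (∀ u ∈ L, chainB F p u (sv g u) = true) → chkU p g F L = true := by
  intro L
  induction L with
  | nil => intro _; rfl
  | cons u L ih =>
    intro h
    show @Bool.rec (fun _ => Bool)
      (@Bool.rec (fun _ => Bool) false (chkU p g F L) (chainB F p u (sv g u))) true
      (Nat.beq (sv F u) 0) = true
    rw [h u List.mem_cons_self, ih (fun v hv => h v (List.mem_cons_of_mem _ hv))]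
    cases Nat.beq (sv F u) 0 <;> rfl

theorem chkC_ok {p g F : ℕ} : ∀ (L : List ℕ),
    (∀ u ∈ L, chainB F p u (sv g u) = true ∧ commB g F u = true) → chkC p g F L = true := by
  intro L
  induction L with
  | nil => intro _; rfl
  | cons u L ih =>
    intro h
    show @Bool.rec (fun _ => Bool)
      (@Bool.rec (fun _ => Bool) false
        (@Bool.rec (fun _ => Bool) false (chkC p g F L) (commB g F u)) (chainB F p u (sv g u)))
      true (Nat.beq (sv F u) 0) = true
    rw [(h u List.mem_cons_self).1, (h u List.mem_cons_self).2,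
      ih (fun v hv => h v (List.mem_cons_of_mem _ hv))]
    cases Nat.beq (sv F u) 0 <;> rfl

theorem iter_FL {ξ : ℕ → ℕ} (hFL : ∀ i ∈ FL, ξ i ∈ FL) (n : ℕ) : ∀ u ∈ FL, ξ^[n] u ∈ FL := by
  induction n with
  | zero => intro u hu; exact hu
  | succ n ih =>
    intro u hu
    rw [Function.iterate_succ_apply']
    exact hFL _ (ih u hu)

theorem comm_ok {ξ : ℕ → ℕ} {p g F : ℕ} {rest : List ℕ} (hFL : ∀ i ∈ FL, ξ i ∈ FL)
    (hpow : ∀ u ∈ FL, ξ^[p] u = sv g u)
    (h1 : ∀ i ∈ FL, i ∉ rest → sv F i = ξ i) (h2 : ∀ i ∈ rest, sv F i = 0) :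
    ∀ u ∈ FL, commB g F u = true := by
  intro u hu
  rw [commB, nlt_eq, orR_eq, nlt_eq, orR_eq]
  by_cases hr : u ∈ rest
  · rw [h2 u hr]
    rfl
  · have hgu : sv g u ∈ FL := by rw [← hpow u hu]; exact iter_FL hFL p u hu
    by_cases hr2 : sv g u ∈ rest
    · rw [h2 _ hr2]
      simp
    · rw [h1 u hu hr, h1 _ hgu hr2, ← hpow u hu, ← hpow (ξ u) (hFL u hu),
        ← Function.iterate_succ_apply' ξ p u, ← Function.iterate_succ_apply ξ p u, Nat.beq_refl]
      simp

/-- The state of the search agrees with the map `ξ`. -/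
structure DInv (ξ : ℕ → ℕ) (rest : List ℕ) (F used : ℕ) : Prop where
  nd : rest.Nodup
  sub : ∀ i ∈ rest, i ∈ FL
  h1 : ∀ i ∈ FL, i ∉ rest → sv F i = ξ i
  h2 : ∀ i ∈ rest, sv F i = 0
  h3 : ∀ i, i < 24 → i ∉ FL → sv F i = ξ i
  h4 : ∀ a, used.testBit a = true → ∃ u ∈ FL, u ∉ rest ∧ ξ u = a

theorem DInv.step {ξ : ℕ → ℕ} (hlt : ∀ i ∈ FL, ξ i < 32) {u : ℕ} {rest : List ℕ} {F used : ℕ}
    (h : DInv ξ (u :: rest) F used) :
    DInv ξ rest (Nat.lor F (Nat.shiftLeft (ξ u) (Nat.mul 5 u)))
      (Nat.lor used (Nat.shiftLeft 1 (ξ u))) := by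
  have hu : u ∈ FL := h.sub u List.mem_cons_self
  have hur : u ∉ rest := (List.nodup_cons.mp h.nd).1
  have key : ∀ i, sv (Nat.lor F (Nat.shiftLeft (ξ u) (Nat.mul 5 u))) i =
      if i = u then ξ u else sv F i :=
    fun i => sv_setN (h.h2 u List.mem_cons_self) (hlt u hu) i
  refine ⟨(List.nodup_cons.mp h.nd).2, fun i hi => h.sub i (List.mem_cons_of_mem _ hi), ?_, ?_,
    ?_, ?_⟩
  · intro i hi hir
    rw [key]
    by_cases hiu : i = u
    · rw [if_pos hiu, hiu]
    · rw [if_neg hiu]
      exact h.h1 i hi (fun hm => (List.mem_cons.mp hm).elim hiu hir)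
  · intro i hi
    have hiu : i ≠ u := fun e => hur (e ▸ hi)
    rw [key, if_neg hiu]
    exact h.h2 i (List.mem_cons_of_mem _ hi)
  · intro i hi hiF
    have hiu : i ≠ u := fun e => hiF (e ▸ hu)
    rw [key, if_neg hiu]
    exact h.h3 i hi hiF
  · intro a hb
    have hb' : (used ||| 1 <<< ξ u).testBit a = true := hb
    rw [Nat.one_shiftLeft, Nat.testBit_or, Bool.or_eq_true] at hb'
    rcases hb' with hb' | hb'
    · obtain ⟨u', hu', hur', he⟩ := h.h4 a hb'
      exact ⟨u', hu', fun hm => hur' (List.mem_cons_of_mem _ hm), he⟩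
    · rw [Nat.testBit_two_pow, decide_eq_true_eq] at hb'
      exact ⟨u, hu, hur, hb'⟩

theorem dfsR_sound {chk : ℕ → Bool} {T : ℕ → Bool} {ξ : ℕ → ℕ}
    (hinj : ∀ i ∈ FL, ∀ j ∈ FL, ξ i = ξ j → i = j) (hFL : ∀ i ∈ FL, ξ i ∈ FL)
    (hchk : ∀ (rest : List ℕ) (F : ℕ), (∀ i ∈ FL, i ∉ rest → sv F i = ξ i) →
      (∀ i ∈ rest, sv F i = 0) → chk F = true) :
    ∀ (rest : List ℕ) (F used : ℕ), DInv ξ rest F used → dfsR chk T rest F used = true →
      ∃ P, (∀ i, i < 24 → sv P i = ξ i) ∧ T P = true := by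
  have hlt : ∀ i ∈ FL, ξ i < 32 := fun i hi => lt_trans (FL_lt _ (hFL i hi)) (by norm_num)
  intro rest
  induction rest with
  | nil =>
    intro F used hI h
    refine ⟨F, ?_, h⟩
    intro i hi
    by_cases hF : i ∈ FL
    · exact hI.h1 i hF List.not_mem_nil
    · exact hI.h3 i hi hF
  | cons u rest ih =>
    intro F used hI h
    have hu : u ∈ FL := hI.sub u List.mem_cons_self
    have hur : u ∉ rest := (List.nodup_cons.mp hI.nd).1
    have hI' := hI.step hlt
    have h' : allR (fun a => orR (bitB used a)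
        (nlt (Nat.lor F (Nat.shiftLeft a (Nat.mul 5 u))) (fun F' =>
          @Bool.rec (fun _ => Bool) true
            (nlt (Nat.lor used (Nat.shiftLeft 1 a)) (fun used' => dfsR chk T rest F' used'))
            (chk F')))) FL = true := h
    have ha := allR_spec h' (ξ u) (hFL u hu)
    rw [orR_eq, Bool.or_eq_true] at ha
    rcases ha with ha | ha
    · obtain ⟨u', hu', hur', he⟩ := hI.h4 _ (bitB_testBit ha)
      exact absurd (List.mem_cons.mpr (Or.inl (hinj u' hu' u hu he))) hur'
    · rw [nlt_eq] at ha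
      have hchk' : chk (Nat.lor F (Nat.shiftLeft (ξ u) (Nat.mul 5 u))) = true :=
        hchk rest _ hI'.h1 hI'.h2
      rw [hchk'] at ha
      have ha' : nlt (Nat.lor used (Nat.shiftLeft 1 (ξ u))) (fun used' =>
          dfsR chk T rest (Nat.lor F (Nat.shiftLeft (ξ u) (Nat.mul 5 u))) used') = true := ha
      rw [nlt_eq] at ha'
      exact ih _ _ hI' ha'

/-- The test at a leaf: a valid packed permutation passing the test `T`. -/
def leafV (T : ℕ → Bool) (P : ℕ) : Bool := svalid P && T P

/-- The facts on the index map of a root of `lperm g` fixing the points outside `FL`. -/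
theorem roots_core {p g : ℕ} (hg : svalid g = true) {z : Equiv.Perm GolayPt}
    (hfix : ∀ i, i < 24 → i ∉ FL → z (gPt i) = gPt i) (hz : z ^ p = lperm g) :
    (∀ i ∈ FL, ∀ j ∈ FL, gIdx (z (gPt i)) = gIdx (z (gPt j)) → i = j) ∧
    (∀ i ∈ FL, gIdx (z (gPt i)) ∈ FL) ∧
    (∀ u ∈ FL, (fun i => gIdx (z (gPt i)))^[p] u = sv g u) ∧
    DInv (fun i => gIdx (z (gPt i))) FL F0P 0 := by
  have hξ : ∀ q, gIdx (z q) = (fun i => gIdx (z (gPt i))) (gIdx q) := by
    intro q
    simp only [gPt_gIdx]
  refine ⟨?_, ?_, ?_, ?_⟩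
  · intro i hi j hj e
    have h1 := z.injective (gIdx_injective e)
    have h2 := congrArg gIdx h1
    rwa [gIdx_gPt (FL_lt i hi), gIdx_gPt (FL_lt j hj)] at h2
  · intro i hi
    by_contra hn
    have h1 := hfix _ (gIdx_lt (z (gPt i))) hn
    rw [gPt_gIdx] at h1
    have h2 := z.injective h1
    have h3 := congrArg gIdx h2
    rw [gIdx_gPt (FL_lt i hi)] at h3
    exact hn (by rw [h3]; exact hi)
  · intro u hu
    have h1 := idx_pow (g := z) (f := fun i => gIdx (z (gPt i))) hξ p (gPt u)
    rw [gIdx_gPt (FL_lt u hu), hz, gIdx_lperm hg, gIdx_gPt (FL_lt u hu)] at h1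
    exact h1.symm
  · refine ⟨FL_nodup, fun i hi => hi, fun i hi hn => absurd hi hn, F0P_zero, ?_, ?_⟩
    · intro i hi hn
      show sv F0P i = gIdx (z (gPt i))
      rw [F0P_id i hi hn, hfix i hi hn, gIdx_gPt hi]
    · intro a ha
      rw [Nat.zero_testBit] at ha
      exact absurd ha (by decide)

theorem roots_fin {T : ℕ → Bool} {z : Equiv.Perm GolayPt}
    (h : ∃ P, (∀ i, i < 24 → sv P i = gIdx (z (gPt i))) ∧ leafV T P = true) :
    ∃ P, svalid P = true ∧ z = lperm P ∧ T P = true := by
  obtain ⟨P, hP, hl⟩ := h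
  rw [leafV, Bool.and_eq_true] at hl
  refine ⟨P, hl.1, ?_, hl.2⟩
  apply Equiv.ext
  intro q
  apply gIdx_injective
  rw [gIdx_lperm hl.1, hP _ (gIdx_lt q), gPt_gIdx]

theorem chkU_all {p g : ℕ} {ξ : ℕ → ℕ} (hFL : ∀ i ∈ FL, ξ i ∈ FL)
    (hpow : ∀ u ∈ FL, ξ^[p] u = sv g u) (rest : List ℕ) (F : ℕ)
    (h1 : ∀ i ∈ FL, i ∉ rest → sv F i = ξ i) (h2 : ∀ i ∈ rest, sv F i = 0) :
    chkU p g F FL = true :=
  chkU_ok FL (fun v hv => by rw [← hpow v hv]; exact chain_ok hFL h1 h2 p v hv)

theorem chkC_all {p g : ℕ} {ξ : ℕ → ℕ} (hFL : ∀ i ∈ FL, ξ i ∈ FL)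
    (hpow : ∀ u ∈ FL, ξ^[p] u = sv g u) (rest : List ℕ) (F : ℕ)
    (h1 : ∀ i ∈ FL, i ∉ rest → sv F i = ξ i) (h2 : ∀ i ∈ rest, sv F i = 0) :
    chkC p g F FL = true :=
  chkC_ok FL (fun v hv => ⟨by rw [← hpow v hv]; exact chain_ok hFL h1 h2 p v hv,
    comm_ok hFL hpow h1 h2 v hv⟩)

/-- The roots of `lperm g` fixing the points outside `FL`: if the search (with the commutation
test) succeeds, every root is `lperm P` for a packed `P` passing the test `T`. -/
theorem roots_enumC {p g : ℕ} {T : ℕ → Bool} (hg : svalid g = true)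
    (h : dfsR (fun F => chkC p g F FL) (leafV T) FL F0P 0 = true)
    {z : Equiv.Perm GolayPt} (hfix : ∀ i, i < 24 → i ∉ FL → z (gPt i) = gPt i)
    (hz : z ^ p = lperm g) : ∃ P, svalid P = true ∧ z = lperm P ∧ T P = true := by
  obtain ⟨hinj, hFL, hpow, hI⟩ := roots_core hg hfix hz
  exact roots_fin (dfsR_sound hinj hFL (chkC_all hFL hpow) _ _ _ hI h)

/-- The same without the commutation test, with the searches below the second level. -/
theorem roots_enum2 {p g : ℕ} {T : ℕ → Bool} (hg : svalid g = true)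
    (h : ∀ a ∈ FL, ∀ b ∈ FL, a ≠ b → dfsR (fun F => chkU p g F FL) (leafV T)
      [15, 9, 10, 5, 17, 4, 8]
      (Nat.lor (Nat.lor F0P (Nat.shiftLeft a (Nat.mul 5 3))) (Nat.shiftLeft b (Nat.mul 5 6)))
      (Nat.lor (Nat.lor 0 (Nat.shiftLeft 1 a)) (Nat.shiftLeft 1 b)) = true)
    {z : Equiv.Perm GolayPt} (hfix : ∀ i, i < 24 → i ∉ FL → z (gPt i) = gPt i)
    (hz : z ^ p = lperm g) : ∃ P, svalid P = true ∧ z = lperm P ∧ T P = true := by
  obtain ⟨hinj, hFL, hpow, hI⟩ := roots_core hg hfix hz
  have hlt : ∀ i ∈ FL, gIdx (z (gPt i)) < 32 :=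
    fun i hi => lt_trans (FL_lt _ (hFL i hi)) (by norm_num)
  have h3 : (3 : ℕ) ∈ FL := by decide
  have h6 : (6 : ℕ) ∈ FL := by decide
  have hne : gIdx (z (gPt 3)) ≠ gIdx (z (gPt 6)) := by
    intro e
    exact absurd (hinj 3 h3 6 h6 e) (by decide)
  exact roots_fin (dfsR_sound hinj hFL (chkU_all hFL hpow) _ _ _
    (DInv.step hlt (DInv.step hlt hI)) (h _ (hFL 3 h3) _ (hFL 6 h6) hne))

/-! ### Words with a power that is a cycle of prime length -/

/-- The permutations we want to exclude: cycles of length `2`, `3`, `5` or `7`. -/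
def BadC (c : Equiv.Perm GolayPt) : Prop :=
  c.IsCycle ∧ (c.support.card = 2 ∨ c.support.card = 3 ∨ c.support.card = 5 ∨ c.support.card = 7)

/-- Tabulate `f` on the eleven points into a packed number, and go on with it. -/
def tabP (f : ℕ → ℕ) (k : ℕ → Bool) : Bool := nlt (packT f OmL) k

/-- The letter with code `c`: the variable `P` for the code `0`, else an entry of the table. -/
def letterB (LT : List ℕ) (P c : ℕ) : ℕ := cond (Nat.beq c 0) P (nthL idP LT c)

/-- The length of the cycle of `i` under the packed map `g` (an unverified helper). -/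
def cycL (g i : ℕ) : ℕ :=
  @Nat.rec (fun _ => ℕ → ℕ → ℕ) (fun _ _ => 0)
    (fun _ ih v n => @Bool.rec (fun _ => ℕ) (nlt (sv g v) (fun v' => ih v' (Nat.succ n))) n
      (Nat.beq v i)) 12 (sv g i) 1

/-- The census of the cycle lengths: the hexadecimal digit `k` is the number of points in
cycles of length `k` (an unverified helper). -/
def census (g : ℕ) : ℕ :=
  @List.rec ℕ (fun _ => ℕ) 0
    (fun i _ acc => Nat.add (Nat.shiftLeft 1 (Nat.mul 4 (cycL g i))) acc) OmL

/-- Exactly one cycle of length `p`, and no length in the mask (an unverified helper). -/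
def okCen (T p mask : ℕ) : Bool :=
  Nat.beq (Nat.land (Nat.shiftRight T (Nat.mul 4 p)) 15) p && Nat.beq (Nat.land T mask) 0

/-- The least common multiple of the lengths other than `p` (an unverified helper). -/
def lcmCen (T p : ℕ) : ℕ :=
  @Nat.rec (fun _ => ℕ → ℕ) (fun a => a)
    (fun k ih a => nlt (cond (Nat.beq (Nat.land (Nat.shiftRight T (Nat.mul 4 (Nat.succ k))) 15) 0
      || Nat.beq (Nat.succ k) p) a (Nat.lcm a (Nat.succ k))) ih) 11 1

/-- The exponent to try (an unverified helper). -/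
def pickC (T : ℕ) : ℕ :=
  cond (okCen T 2 16557351567360) (lcmCen T 2) (cond (okCen T 3 1031043809280) (lcmCen T 3)
    (cond (okCen T 5 16492674416640) (lcmCen T 5) (cond (okCen T 7 0) (lcmCen T 7) 0)))

/-- One of the primes `2`, `3`, `5`, `7`. -/
def isP (p : ℕ) : Bool := Nat.beq p 2 || (Nat.beq p 3 || (Nat.beq p 5 || Nat.beq p 7))

/-- The number of the points of the list moved. -/
def cntMv (cP : ℕ) (L : List ℕ) : ℕ :=
  @List.rec ℕ (fun _ => ℕ) 0
    (fun i _ acc => @Bool.rec (fun _ => ℕ) (Nat.succ acc) acc (Nat.beq (sv cP i) i)) L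

theorem cntMv_eq (cP : ℕ) (L : List ℕ) :
    cntMv cP L = (L.filter (fun i => !(Nat.beq (sv cP i) i))).length := by
  induction L with
  | nil => rfl
  | cons a L ih =>
    show @Bool.rec (fun _ => ℕ) (Nat.succ (cntMv cP L)) (cntMv cP L) (Nat.beq (sv cP a) a) = _
    rw [List.filter_cons, ih]
    cases Nat.beq (sv cP a) a <;> rfl

/-- The word `w` in the letters of `LT` and the variable `P` has a power that is a cycle of
length `2`, `3`, `5` or `7` on the eleven points. -/
def tryW (LT : List ℕ) (P : ℕ) (w : List ℕ) : Bool :=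
  fmapK (letterB LT P) w (fun letters =>
    tabP (evalR letters) (fun gP =>
      nlt (census gP) (fun T => nlt (pickC T) (fun M =>
        tabP (itR (sv gP) M) (fun cP =>
          nlt (cntMv cP OmL) (fun p =>
            isP p && allR (fun i => Nat.beq (itR (sv cP) p i) i) OmL))))))

theorem tab_pow {x : Equiv.Perm GolayPt} {P : ℕ}
    (h : ∀ i ∈ OmL, gIdx (x (gPt i)) = sv P i ∧ sv P i ∈ OmL) (n : ℕ) :
    ∀ i ∈ OmL, gIdx ((x ^ n) (gPt i)) = (sv P)^[n] i ∧ (sv P)^[n] i ∈ OmL := by
  induction n with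
  | zero =>
    intro i hi
    exact ⟨gIdx_gPt (OmL_lt i hi), hi⟩
  | succ n ih =>
    intro i hi
    obtain ⟨h1, h2⟩ := h i hi
    have h3 : x (gPt i) = gPt (sv P i) := by rw [← h1, gPt_gIdx]
    rw [pow_succ, Equiv.Perm.mul_apply, h3, Function.iterate_succ_apply]
    exact ih _ h2

theorem letters_ok {S : Subgroup (Equiv.Perm GolayPt)} {LT : List ℕ}
    (hLT : ∀ s ∈ LT, svalid s = true ∧ lperm s ∈ S) {P : ℕ} (hPv : svalid P = true)
    (hP : lperm P ∈ S) (w : List ℕ) :
    (∀ a ∈ w.map (letterB LT P), svalid a = true) ∧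
      ((w.map (letterB LT P)).map lperm).prod ∈ S := by
  have key : ∀ a ∈ w.map (letterB LT P), svalid a = true ∧ lperm a ∈ S := by
    intro a ha
    obtain ⟨c, _, rfl⟩ := List.mem_map.mp ha
    unfold letterB
    cases Nat.beq c 0 with
    | true => exact ⟨hPv, hP⟩
    | false =>
      show svalid (nthL idP LT c) = true ∧ lperm (nthL idP LT c) ∈ S
      rcases nthL_cases LT c with h | h
      · rw [h, lperm_idP]
        exact ⟨idP_valid, S.one_mem⟩
      · exact hLT _ h
  refine ⟨fun a ha => (key a ha).1, Subgroup.list_prod_mem _ ?_⟩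
  intro x hx
  obtain ⟨a, ha, rfl⟩ := List.mem_map.mp hx
  exact (key a ha).2

/-- A permutation fixing the points outside the eleven points permutes the eleven points. -/
theorem pres_Om {y : Equiv.Perm GolayPt} (hy : ∀ q, gIdx q ∉ OmL → y q = q) {q : GolayPt}
    (hq : gIdx q ∈ OmL) : gIdx (y q) ∈ OmL := by
  by_contra hn
  have h1 := hy (y q) hn
  have h2 := y.injective h1
  exact hn (by rw [h2]; exact hq)

theorem tryW_sound {S : Subgroup (Equiv.Perm GolayPt)}
    (hS : ∀ c ∈ S, ∀ q, gIdx q ∉ OmL → c q = q) {LT : List ℕ}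
    (hLT : ∀ s ∈ LT, svalid s = true ∧ lperm s ∈ S) {P : ℕ} (hPv : svalid P = true)
    (hP : lperm P ∈ S) {w : List ℕ} (h : tryW LT P w = true) : ∃ c ∈ S, BadC c := by
  classical
  obtain ⟨hlv, hyS⟩ := letters_ok hLT hPv hP w
  rw [tryW, fmapK_eq] at h
  simp only [tabP, nlt_eq] at h
  have hfun : evalR (w.map (letterB LT P)) = evalW (w.map (letterB LT P)) :=
    funext (evalR_eq _)
  rw [hfun] at h
  set y := ((w.map (letterB LT P)).map lperm).prod with hy
  set gP := packT (evalW (w.map (letterB LT P))) OmL with hgP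
  set M := pickC (census gP) with hM
  set cP := packT (itR (sv gP) M) OmL with hcP
  set p := cntMv cP OmL with hpdef
  rw [Bool.and_eq_true] at h
  obtain ⟨hp, hK⟩ := h
  have hev : ∀ i ∈ OmL, evalW (w.map (letterB LT P)) i = gIdx (y (gPt i)) :=
    fun i hi => evalW_eq hlv (OmL_lt i hi)
  have hg : ∀ i ∈ OmL, sv gP i = evalW (w.map (letterB LT P)) i :=
    (packT_spec OmL OmL_nodup (fun i hi => by
      rw [hev i hi]
      exact lt_trans (gIdx_lt _) (by norm_num))).1
  have hty : ∀ i ∈ OmL, gIdx (y (gPt i)) = sv gP i ∧ sv gP i ∈ OmL := by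
    intro i hi
    have h1 : gIdx (y (gPt i)) = sv gP i := by rw [hg i hi, hev i hi]
    refine ⟨h1, ?_⟩
    rw [← h1]
    exact pres_Om (hS y hyS) (by rw [gIdx_gPt (OmL_lt i hi)]; exact hi)
  have hc : ∀ i ∈ OmL, sv cP i = (sv gP)^[M] i := by
    intro i hi
    have h1 := (packT_spec (f := itR (sv gP) M) OmL OmL_nodup (fun j hj => by
      rw [itR_eq]
      exact lt_trans (OmL_lt _ (tab_pow hty M j hj).2) (by norm_num))).1 i hi
    rw [itR_eq] at h1
    exact h1
  have htc : ∀ i ∈ OmL, gIdx ((y ^ M) (gPt i)) = sv cP i ∧ sv cP i ∈ OmL := by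
    intro i hi
    obtain ⟨h3, h4⟩ := tab_pow hty M i hi
    rw [hc i hi]
    exact ⟨h3, h4⟩
  have hcS : y ^ M ∈ S := S.pow_mem hyS M
  have hcp : (y ^ M) ^ p = 1 := by
    apply Equiv.ext
    intro q
    by_cases hq : gIdx q ∈ OmL
    · apply gIdx_injective
      have h1 := (tab_pow htc p (gIdx q) hq).1
      rw [gPt_gIdx] at h1
      rw [h1, Equiv.Perm.one_apply, ← itR_eq]
      exact Nat.eq_of_beq_eq_true (allR_spec hK _ hq)
    · exact hS _ (S.pow_mem hcS p) q hq
  have hpv : p = 2 ∨ p = 3 ∨ p = 5 ∨ p = 7 := by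
    unfold isP at hp
    simp only [Bool.or_eq_true] at hp
    rcases hp with hp | hp | hp | hp
    · exact Or.inl (Nat.eq_of_beq_eq_true hp)
    · exact Or.inr (Or.inl (Nat.eq_of_beq_eq_true hp))
    · exact Or.inr (Or.inr (Or.inl (Nat.eq_of_beq_eq_true hp)))
    · exact Or.inr (Or.inr (Or.inr (Nat.eq_of_beq_eq_true hp)))
  have hpp : p.Prime := by
    rcases hpv with e | e | e | e <;> rw [e] <;> norm_num
  have hp2 : 2 ≤ p := hpp.two_le
  have hpl : p = (OmL.filter (fun i => !(Nat.beq (sv cP i) i))).length := by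
    rw [hpdef, cntMv_eq]
  have hc1 : y ^ M ≠ 1 := by
    intro e
    have hne : OmL.filter (fun i => !(Nat.beq (sv cP i) i)) ≠ [] := by
      intro e2
      rw [e2] at hpl
      have : p = 0 := hpl
      omega
    obtain ⟨i, hi⟩ := List.exists_mem_of_ne_nil _ hne
    rw [List.mem_filter] at hi
    obtain ⟨hi1, hi2⟩ := hi
    have h1 := (htc i hi1).1
    rw [e, Equiv.Perm.one_apply, gIdx_gPt (OmL_lt i hi1)] at h1
    rw [← h1, Nat.beq_refl] at hi2
    exact absurd hi2 (by decide)
  have hfact : Fact p.Prime := ⟨hpp⟩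
  have hord : orderOf (y ^ M) = p := orderOf_eq_prime hcp hc1
  have hsupp : (y ^ M).support ⊆
      ((OmL.filter (fun i => !(Nat.beq (sv cP i) i))).map gPt).toFinset := by
    intro q hq
    rw [Equiv.Perm.mem_support] at hq
    have hqO : gIdx q ∈ OmL := by
      by_contra hn
      exact hq (hS _ hcS q hn)
    rw [List.mem_toFinset, List.mem_map]
    refine ⟨gIdx q, ?_, gPt_gIdx q⟩
    rw [List.mem_filter]
    refine ⟨hqO, ?_⟩
    have h1 := (htc _ hqO).1
    rw [gPt_gIdx] at h1
    rw [← h1]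
    cases hb : Nat.beq (gIdx ((y ^ M) q)) (gIdx q) with
    | true => exact absurd (gIdx_injective (Nat.eq_of_beq_eq_true hb)) hq
    | false => rfl
  have hcard : (y ^ M).support.card ≤ p := by
    refine (Finset.card_le_card hsupp).trans ((List.toFinset_card_le _).trans ?_)
    rw [List.length_map, ← hpl]
  have hcyc : (y ^ M).IsCycle := by
    apply Equiv.Perm.isCycle_of_prime_order
    · rw [hord]; exact hpp
    · rw [hord]; omega
  have hsc : (y ^ M).support.card = p := by
    rw [← hcyc.orderOf, hord]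
  refine ⟨y ^ M, hcS, hcyc, ?_⟩
  rw [hsc]
  exact hpv

/-! ### Words equal to a given permutation -/

/-- The word of packed permutations is the packed permutation `r`. -/
def eqWB (letters : List ℕ) (r : ℕ) : Bool :=
  allB (fun i => Nat.beq (evalR letters i) (sv r i)) 24

/-- The word `w` in the letters of `LT` and the variable `P` is the packed permutation `r`. -/
def wordIs (LT : List ℕ) (P : ℕ) (w : List ℕ) (r : ℕ) : Bool :=
  fmapK (letterB LT P) w (fun letters => eqWB letters r)

theorem wordIs_sound {S : Subgroup (Equiv.Perm GolayPt)} {LT : List ℕ}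
    (hLT : ∀ s ∈ LT, svalid s = true ∧ lperm s ∈ S) {P : ℕ} (hPv : svalid P = true)
    (hP : lperm P ∈ S) {w : List ℕ} {r : ℕ} (hr : svalid r = true)
    (h : wordIs LT P w r = true) : lperm r ∈ S := by
  obtain ⟨hlv, hyS⟩ := letters_ok hLT hPv hP w
  rw [wordIs, fmapK_eq] at h
  have e : ((w.map (letterB LT P)).map lperm).prod = lperm r := by
    apply Equiv.ext
    intro q
    apply gIdx_injective
    rw [evalW_spec hlv, gIdx_lperm hr, ← evalR_eq]
    exact Nat.eq_of_beq_eq_true ((allB_iff _ _).mp h _ (gIdx_lt q))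
  rw [← e]
  exact hyS

end

end Cfsg.Agent.H34
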