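import Cfsg.Agent.H52.SpDefs

/-!
# Existence of `J(T)`-components in the members of the family of `T` (for S2948 / S2949):
statements of the pieces (helper34)

`L` in the family of `T`, `Q = O₂(L)`, `V = Ω₁(Z(Q))`, `C = C_L(V)`.  Glauberman's structure
theorem S0617 gives an element `k` of odd order of `J(L)`, of order 3 modulo `C`, with
`|[V, k]| = 4`, inverted modulo `C` by an element `a` of a largest elementary abelian subgroup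
`A` of `T` (STRUCT).  In `L / Q` the commutator `x = [a, k]` has order 3 and is inverted by `a`;
`K = ⟨odd elements of Q⟨x⟩⟩` (CONSTR).  Clauses 1-4 of `IsJComponent` are routine (PKG, C123,
C4).  Clause 5, `|W_K| = 4`, i.e. `Q` centralizes `W_K = [Ω₁(Z(O₂(K))), K]`: otherwise there is
a subgroup `Z₁ < Z ≤ W_K` with `Z₁ = C_{W_K}(Q) = [V, x]`, `|Z| = 16`, `[Z, Q] ≤ Z₁`,
`[Z, A₁] ≤ Z₁` (`A₁ = C_A(K/O₂(K))`), invariant under `x` and `A` (W5); then `C_A(Z) Z` is an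
elementary abelian subgroup of `T` of order `> |A|` (W5B).
-/

set_option autoImplicit false
open Cfsg

namespace Cfsg.Agent.H34.Ex

universe u

/-- EX-STRUCT (from S0617, transported as in `H14.SnGL`): an element `k` of odd order of `J(X)`,
of order 3 modulo `C = C_X(V)`, with `[V, k]` inside a subgroup of order 4, inverted modulo `C`
by an element `a` of the given largest elementary abelian subgroup `A ≰ C`, and normalized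
modulo `C` by `J(X)`. -/
def StStruct : Prop := ∀ {X : Type u} [Group X] [Finite X] (V : Subgroup X) [V.Normal],
  IsElementaryAbelian 2 V → IsPSolvable 2 X →
  pCore 2 (X ⧸ Subgroup.centralizer (V : Set X)) = ⊥ →
  ∀ A ∈ maxElementaryAbelianSubgroups 2 X, ¬ A ≤ Subgroup.centralizer (V : Set X) →
  ∃ k ∈ thompsonSubgroup 2 X, ∃ a ∈ A, ∃ W₁ : Subgroup X,
    Odd (orderOf k) ∧ k ∉ Subgroup.centralizer (V : Set X) ∧
    k ^ 3 ∈ Subgroup.centralizer (V : Set X) ∧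
    a * k * a⁻¹ * k ∈ Subgroup.centralizer (V : Set X) ∧
    Nat.card ↥W₁ = 4 ∧ (∀ v ∈ V, k * v * k⁻¹ * v⁻¹ ∈ W₁) ∧
    ∀ b ∈ thompsonSubgroup 2 X, b * k * b⁻¹ * k⁻¹ ∈ Subgroup.centralizer (V : Set X) ∨
      b * k * b⁻¹ * k ∈ Subgroup.centralizer (V : Set X)

/-- EX-CONSTR: the construction of `K` inside `X`.  `Q ≤ C` normal, `Q` a 2-group, `C / Q` of
odd order, `J` a 2-group with `[C, J] ≤ Q`; `k` of odd order, of order 3 modulo `C`, inverted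
modulo `C` by the involution `a ∈ J`, and `b k b⁻¹ ≡ k^{±1}` modulo `C` for `b ∈ J`. -/
def StConstr : Prop := ∀ {X : Type u} [Group X] [Finite X] (C Q J : Subgroup X) (k a : X),
  C.Normal → Q.Normal → IsPGroup 2 ↥Q → Q ≤ C →
  (∀ c ∈ C, ∃ n : ℕ, Odd n ∧ c ^ n ∈ Q) →
  IsPGroup 2 ↥J → ⁅C, J⁆ ≤ Q → a ∈ J → a * a = 1 →
  Odd (orderOf k) → k ∉ C → k ^ 3 ∈ C → a * k * a⁻¹ * k ∈ C →
  (∀ b ∈ J, b * k * b⁻¹ * k⁻¹ ∈ C ∨ b * k * b⁻¹ * k ∈ C) →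
  ∃ (K : Subgroup X) (x : X), x ∈ K ∧ orderOf x = 3 ∧ x ∉ Q ∧
    (x * k⁻¹ ∈ C ∨ x * k ∈ C) ∧
    a * x * a⁻¹ * x ∈ Q ∧
    (∀ b ∈ J, b * x * b⁻¹ * x⁻¹ ∈ Q ∨ b * x * b⁻¹ * x ∈ Q) ∧
    K ≤ Q ⊔ Subgroup.zpowers x ∧
    Subgroup.closure {g : X | g ∈ K ∧ Odd (orderOf g)} = K ∧
    ⁅K, J⁆ = K ∧
    Q ≤ Subgroup.normalizer (K : Set X)

/-- EX-PKG: the construction, transported to `G`: for `L` in the family of `T` there are
`K ≤ L`, a largest elementary abelian subgroup `A` of `T`, `x ∈ K` of order 3 and `a ∈ A` with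
the listed properties (`Q = O₂(L)`, `V = Ω₁(Z(Q))`, `J = J(T)`). -/
def StPkg : Prop := ∀ {G : Type u} [Group G] [Finite G],
  IsCharacteristicTwoType G →
  (∀ N : Subgroup G, IsTwoLocal N → Group.IsSolvable ↥N) →
  (∀ S : Sylow 2 G, Subgroup.centralizer (omegaCenterOf (S : Subgroup G) : Set G) ≤
      Subgroup.normalizer ((S : Subgroup G) : Set G)) →
  ∀ (T : Subgroup G), IsPGroup 2 ↥T → T ≠ ⊥ → ∀ (L : Subgroup G), L ∈ jOvergroups T →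
  ∃ (K A : Subgroup G) (x a : G),
    K ≤ L ∧ x ∈ K ∧ orderOf x = 3 ∧ x ∉ pCoreOf 2 L ∧
    K ≤ pCoreOf 2 L ⊔ Subgroup.zpowers x ∧
    Subgroup.closure {g : G | g ∈ K ∧ Odd (orderOf g)} = K ∧
    ⁅K, thompsonSubgroupOf 2 T⁆ = K ∧
    pCoreOf 2 L ≤ Subgroup.normalizer (K : Set G) ∧
    K ≤ Subgroup.normalizer (pCoreOf 2 L : Set G) ∧
    IsPGroup 2 ↥(pCoreOf 2 L) ∧ pCoreOf 2 L ≤ T ∧
    T ≤ Subgroup.normalizer (pCoreOf 2 L : Set G) ∧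
    A ≤ T ∧ IsElementaryAbelian 2 A ∧
    (∀ B : Subgroup G, B ≤ T → IsElementaryAbelian 2 B → Nat.card ↥B ≤ Nat.card ↥A) ∧
    A ≤ thompsonSubgroupOf 2 T ∧
    a ∈ A ∧ a * x * a⁻¹ * x ∈ pCoreOf 2 L ∧
    (∀ b ∈ thompsonSubgroupOf 2 T,
      b * x * b⁻¹ * x⁻¹ ∈ pCoreOf 2 L ∨ b * x * b⁻¹ * x ∈ pCoreOf 2 L) ∧
    (∃ W₁ : Subgroup G, Nat.card ↥W₁ = 4 ∧
      ∀ v ∈ omegaCenterOf (pCoreOf 2 L), x * v * x⁻¹ * v⁻¹ ∈ W₁) ∧
    (∃ v ∈ omegaCenterOf (pCoreOf 2 L), x * v * x⁻¹ ≠ v)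

/-- EX-C123: `O₂(K) = K ∩ Q` has index 3 in `K`, and the 2-subgroups of `K` lie in `Q`. -/
def StC123 : Prop := ∀ {G : Type u} [Group G] [Finite G] (Q K : Subgroup G) (x : G),
  IsPGroup 2 ↥Q → Q ≤ Subgroup.normalizer (K : Set G) → K ≤ Subgroup.normalizer (Q : Set G) →
  x ∈ K → orderOf x = 3 → x ∉ Q → K ≤ Q ⊔ Subgroup.zpowers x →
  pCoreOf 2 K = K ⊓ Q ∧ (pCoreOf 2 K).relIndex K = 3 ∧
    ∀ P : Subgroup G, P ≤ K → IsPGroup 2 ↥P → P ≤ Q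

/-- EX-C4: the Sylow clause of `IsJComponent`. -/
def StC4 : Prop := ∀ {G : Type u} [Group G] [Finite G] (T Q K : Subgroup G),
  IsPGroup 2 ↥T → Q ≤ T → ⁅K, thompsonSubgroupOf 2 T⁆ = K →
  (∀ P : Subgroup G, P ≤ K → IsPGroup 2 ↥P → P ≤ Q) →
  ∀ S : Subgroup G, IsSylowTwoIn S (K ⊔ thompsonSubgroupOf 2 T) → thompsonSubgroupOf 2 T ≤ S →
    thompsonSubgroupOf 2 S = thompsonSubgroupOf 2 T

/-- EX-W5B: the counting contradiction.  `Z₁ < Z` of orders 4 and 16, of exponent 2, invariant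
under `x` (fixed-point-free, `x³` trivial on `Z`) and `a ∈ A` (inverting the action of `x`);
every `b ∈ A` or its product `a b` acts trivially on `Z / Z₁` and commutes with the action of
`x`; `A` is a largest elementary abelian 2-subgroup of `P ≥ A, Z`.  Contradiction. -/
def StW5B : Prop := ∀ {X : Type u} [Group X] [Finite X] (Z₁ Z A P : Subgroup X) (x a : X),
  Z₁ ≤ Z → Nat.card ↥Z₁ = 4 → Nat.card ↥Z = 16 → (∀ w ∈ Z, w * w = 1) →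
  (∀ w ∈ Z, x * w * x⁻¹ ∈ Z) → (∀ w ∈ Z₁, x * w * x⁻¹ ∈ Z₁) →
  (∀ w ∈ Z, x * (x * (x * w * x⁻¹) * x⁻¹) * x⁻¹ = w) →
  (∀ w ∈ Z, x * w * x⁻¹ = w → w = 1) →
  IsElementaryAbelian 2 A → A ≤ P → Z ≤ P →
  (∀ B : Subgroup X, B ≤ P → IsElementaryAbelian 2 B → Nat.card ↥B ≤ Nat.card ↥A) →
  a ∈ A → (∀ w ∈ Z, a * w * a⁻¹ ∈ Z) → (∀ w ∈ Z₁, a * w * a⁻¹ ∈ Z₁) →
  (∀ w ∈ Z, a * (x * w * x⁻¹) * a⁻¹ = x⁻¹ * (a * w * a⁻¹) * x) →
  (∀ b ∈ A, ((∀ w ∈ Z, b * w * b⁻¹ * w⁻¹ ∈ Z₁) ∧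
        ∀ w ∈ Z, b * (x * w * x⁻¹) * b⁻¹ = x * (b * w * b⁻¹) * x⁻¹) ∨
      ((∀ w ∈ Z, (a * b) * w * (a * b)⁻¹ * w⁻¹ ∈ Z₁) ∧
        ∀ w ∈ Z, (a * b) * (x * w * x⁻¹) * (a * b)⁻¹ = x * ((a * b) * w * (a * b)⁻¹) * x⁻¹)) →
  False

/-- EX-W5: the module lemma.  `W ≤ Q` of exponent 2, normalized by the 2-group `Q`, by `x`
(fixed-point-free on `W`, `x³` trivial on `W`, commuting with the action of `Q`) and by the
elementary abelian 2-group `A` (which normalizes `Q`); `a ∈ A` inverts the action of `x` and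
every `b ∈ A` commutes with or inverts the action of `x`; `|C_W(Q)| = 4`; `A` is a largest
elementary abelian 2-subgroup of `P ≥ A, W`.  Then `Q` centralizes `W`. -/
def StW5 : Prop := ∀ {X : Type u} [Group X] [Finite X] (Q W A P : Subgroup X) (x a : X),
  IsPGroup 2 ↥Q → W ≤ Q → (∀ w ∈ W, w * w = 1) →
  (∀ q ∈ Q, ∀ w ∈ W, q * w * q⁻¹ ∈ W) →
  (∀ w ∈ W, x * w * x⁻¹ ∈ W) →
  (∀ w ∈ W, x * (x * (x * w * x⁻¹) * x⁻¹) * x⁻¹ = w) →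
  (∀ w ∈ W, x * w * x⁻¹ = w → w = 1) →
  (∀ q ∈ Q, ∀ w ∈ W, q * (x * w * x⁻¹) * q⁻¹ = x * (q * w * q⁻¹) * x⁻¹) →
  Nat.card ↥(W ⊓ Subgroup.centralizer (Q : Set X)) = 4 →
  IsElementaryAbelian 2 A → A ≤ P → W ≤ P →
  (∀ B : Subgroup X, B ≤ P → IsElementaryAbelian 2 B → Nat.card ↥B ≤ Nat.card ↥A) →
  (∀ b ∈ A, ∀ w ∈ W, b * w * b⁻¹ ∈ W) →
  (∀ b ∈ A, ∀ q ∈ Q, b * q * b⁻¹ ∈ Q) →
  a ∈ A →
  (∀ w ∈ W, a * (x * w * x⁻¹) * a⁻¹ = x⁻¹ * (a * w * a⁻¹) * x) →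
  (∀ b ∈ A, (∀ w ∈ W, b * (x * w * x⁻¹) * b⁻¹ = x * (b * w * b⁻¹) * x⁻¹) ∨
      (∀ w ∈ W, b * (x * w * x⁻¹) * b⁻¹ = x⁻¹ * (b * w * b⁻¹) * x)) →
  W ≤ Subgroup.centralizer (Q : Set X)

/-- EX-CL5: clause 5 of `IsJComponent` for the constructed `K` (from W5). -/
def StCl5 : Prop := ∀ {G : Type u} [Group G] [Finite G] (T Q K A : Subgroup G) (x a : G),
  IsPGroup 2 ↥Q → Q ≤ T → T ≤ Subgroup.normalizer (Q : Set G) →
  Q ≤ Subgroup.normalizer (K : Set G) → K ≤ Subgroup.normalizer (Q : Set G) →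
  x ∈ K → orderOf x = 3 → x ∉ Q → K ≤ Q ⊔ Subgroup.zpowers x →
  A ≤ T → IsElementaryAbelian 2 A →
  (∀ B : Subgroup G, B ≤ T → IsElementaryAbelian 2 B → Nat.card ↥B ≤ Nat.card ↥A) →
  A ≤ Subgroup.normalizer (K : Set G) →
  a ∈ A → a * x * a⁻¹ * x ∈ Q →
  (∀ b ∈ A, b * x * b⁻¹ * x⁻¹ ∈ Q ∨ b * x * b⁻¹ * x ∈ Q) →
  (∃ W₁ : Subgroup G, Nat.card ↥W₁ = 4 ∧ ∀ v ∈ omegaCenterOf Q, x * v * x⁻¹ * v⁻¹ ∈ W₁) →
  (∃ v ∈ omegaCenterOf Q, x * v * x⁻¹ ≠ v) →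
  Nat.card ↥(wOf K) = 4 ∧ ∀ w ∈ wOf K, w * w = 1

/-- The existence theorem: every member `L` of the family of `T` contains a
`J(T)`-component. -/
def StExists : Prop := ∀ {G : Type u} [Group G] [Finite G],
  IsCharacteristicTwoType G →
  (∀ N : Subgroup G, IsTwoLocal N → Group.IsSolvable ↥N) →
  (∀ S : Sylow 2 G, Subgroup.centralizer (omegaCenterOf (S : Subgroup G) : Set G) ≤
      Subgroup.normalizer ((S : Subgroup G) : Set G)) →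
  ∀ (T : Subgroup G), IsPGroup 2 ↥T → T ≠ ⊥ → ∀ (L : Subgroup G), L ∈ jOvergroups T →
  ∃ K : Subgroup G, IsJComponent T K ∧ K ≤ L

/-- Assembly of the existence theorem from PKG, C123, C4, CL5. -/
theorem exists_of (hPkg : StPkg.{u}) (h123 : StC123.{u}) (h4 : StC4.{u}) (h5 : StCl5.{u}) :
    StExists.{u} := by
  intro G _ _ hL hNsol hZN T hT hT1 L hLT
  obtain ⟨K, A, x, a, hKL, hxK, hx3, hxQ, hKQx, hgen, hKJ, hQK, hKQ, hQ2, hQT, hTQ, hAT, hAel,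
    hAmax, hAJ, ha, hax, hbx, hW1, hv⟩ := hPkg hL hNsol hZN T hT hT1 L hLT
  obtain ⟨hcore, hidx, h2⟩ := h123 (pCoreOf 2 L) K x hQ2 hQK hKQ hxK hx3 hxQ hKQx
  have hJK : thompsonSubgroupOf 2 T ≤ Subgroup.normalizer (K : Set G) := by
    intro j hj
    rw [Subgroup.mem_normalizer_iff]
    have key : ∀ j ∈ thompsonSubgroupOf 2 T, ∀ k ∈ K, j * k * j⁻¹ ∈ K := by
      intro j hj k hk
      have h1 : k * j * k⁻¹ * j⁻¹ ∈ K := by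
        have := Subgroup.commutator_mem_commutator hk hj
        rw [hKJ] at this
        exact this
      have h2 : j * k * j⁻¹ = (k * j * k⁻¹ * j⁻¹)⁻¹ * k := by group
      rw [h2]
      exact K.mul_mem (K.inv_mem h1) hk
    intro k
    constructor
    · exact key j hj k
    · intro h
      have := key j⁻¹ ((thompsonSubgroupOf 2 T).inv_mem hj) _ h
      have e : j⁻¹ * (j * k * j⁻¹) * j⁻¹⁻¹ = k := by group
      rwa [e] at this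
  have hc4 := h4 T (pCoreOf 2 L) K hT hQT hKJ h2
  have hc5 := h5 T (pCoreOf 2 L) K A x a hQ2 hQT hTQ hQK hKQ hxK hx3 hxQ hKQx hAT hAel hAmax
    (hAJ.trans hJK) ha hax (fun b hb => hbx b (hAJ hb)) hW1 hv
  exact ⟨K, ⟨hgen, hKJ, hidx, hc4, hc5.1, hc5.2⟩, hKL⟩

end Cfsg.Agent.H34.Ex
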