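import Cfsg.Agent.H34.ExDefs

/-! EX-W5B (helper34): the counting contradiction for clause 5 of the existence of
`J(T)`-components. -/

set_option autoImplicit false
open Cfsg

namespace Cfsg.Agent.H34.Ex

universe u

section
variable {X : Type u} [Group X]

theorem comm_of_sq (Z : Subgroup X) (h2 : ∀ w ∈ Z, w * w = 1) {u v : X} (hu : u ∈ Z)
    (hv : v ∈ Z) : u * v = v * u := by
  have h1 := h2 (u * v) (Z.mul_mem hu hv)
  calc u * v = (u * v)⁻¹ := (inv_eq_of_mul_eq_one_left h1).symm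
    _ = v⁻¹ * u⁻¹ := mul_inv_rev u v
    _ = v * u := by rw [inv_eq_of_mul_eq_one_left (h2 v hv), inv_eq_of_mul_eq_one_left (h2 u hu)]

/-- The elements of `Z` fixed by conjugation with `a`. -/
def fixSub (Z : Subgroup X) (a : X) : Subgroup X := Z ⊓ Subgroup.centralizer ({a} : Set X)

theorem mem_fixSub (Z : Subgroup X) (a w : X) : w ∈ fixSub Z a ↔ w ∈ Z ∧ a * w * a⁻¹ = w := by
  unfold fixSub
  rw [Subgroup.mem_inf, Subgroup.mem_centralizer_iff]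
  constructor
  · rintro ⟨h1, h2⟩
    refine ⟨h1, ?_⟩
    have := h2 a (Set.mem_singleton a)
    rw [this, mul_inv_cancel_right]
  · rintro ⟨h1, h2⟩
    refine ⟨h1, ?_⟩
    intro g hg
    rw [Set.mem_singleton_iff] at hg
    subst hg
    calc g * w = g * w * g⁻¹ * g := by group
      _ = w * g := by rw [h2]

theorem fixA_sq_le [Finite X] (Z : Subgroup X) (x a : X)
    (hxZ : ∀ w ∈ Z, x * w * x⁻¹ ∈ Z)
    (hx3 : ∀ w ∈ Z, x * (x * (x * w * x⁻¹) * x⁻¹) * x⁻¹ = w)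
    (hfpf : ∀ w ∈ Z, x * w * x⁻¹ = w → w = 1)
    (hinv : ∀ w ∈ Z, a * (x * w * x⁻¹) * a⁻¹ = x⁻¹ * (a * w * a⁻¹) * x) :
    Nat.card ↥(fixSub Z a) * Nat.card ↥(fixSub Z a) ≤ Nat.card ↥Z ∧
    ((Nat.card ↥Z ≤ Nat.card ↥(fixSub Z a) * Nat.card ↥(fixSub Z a)) →
      ∀ z ∈ Z, ∃ u ∈ fixSub Z a, ∃ v ∈ fixSub Z a, z = u * (x * v * x⁻¹)) := by
  let f : ↥(fixSub Z a) × ↥(fixSub Z a) → ↥Z := fun p =>
    ⟨p.1.1 * (x * p.2.1 * x⁻¹),
      Z.mul_mem ((mem_fixSub Z a _).1 p.1.2).1 (hxZ _ ((mem_fixSub Z a _).1 p.2.2).1)⟩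
  have hf : Function.Injective f := by
    rintro ⟨⟨u, hu⟩, ⟨v, hv⟩⟩ ⟨⟨u', hu'⟩, ⟨v', hv'⟩⟩ h
    have h0 : u * (x * v * x⁻¹) = u' * (x * v' * x⁻¹) := congrArg Subtype.val h
    have hs : v' * v⁻¹ ∈ fixSub Z a := (fixSub Z a).mul_mem hv' ((fixSub Z a).inv_mem hv)
    have ht : u'⁻¹ * u ∈ fixSub Z a := (fixSub Z a).mul_mem ((fixSub Z a).inv_mem hu') hu
    have e1 : u'⁻¹ * u = x * (v' * v⁻¹) * x⁻¹ := by
      have : u = u' * (x * v' * x⁻¹) * (x * v * x⁻¹)⁻¹ := by rw [← h0]; group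
      rw [this]; group
    obtain ⟨hsZ, hsa⟩ := (mem_fixSub Z a _).1 hs
    obtain ⟨htZ, hta⟩ := (mem_fixSub Z a _).1 ht
    have e2 : x * (v' * v⁻¹) * x⁻¹ = x⁻¹ * (v' * v⁻¹) * x := by
      have h1 := hinv _ hsZ
      rw [hsa, ← e1, hta] at h1
      rw [← e1]; exact h1
    have e3 : v' * v⁻¹ = 1 := by
      apply hfpf _ hsZ
      have h3 := hx3 _ hsZ
      rw [e2] at h3
      have : x * (x * (x⁻¹ * (v' * v⁻¹) * x) * x⁻¹) * x⁻¹ = x * (v' * v⁻¹) * x⁻¹ := by group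
      rw [this] at h3
      exact h3
    have e4 : v' = v := by rwa [mul_inv_eq_one] at e3
    subst e4
    have e5 : u = u' := mul_right_cancel h0
    subst e5
    rfl
  constructor
  · have hle := Nat.card_le_card_of_injective f hf
    rwa [Nat.card_prod] at hle
  · intro hcard z hz
    have hbij := hf.bijective_of_nat_card_le (by rw [Nat.card_prod]; exact hcard)
    obtain ⟨⟨u, v⟩, huv⟩ := hbij.2 ⟨z, hz⟩
    exact ⟨u.1, u.2, v.1, v.2, (congrArg Subtype.val huv).symm⟩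

theorem card_le_fixA_sq [Finite X] (Z : Subgroup X) (a : X)
    (hexp : ∀ w ∈ Z, w * w = 1) (haZ : ∀ w ∈ Z, a * w * a⁻¹ ∈ Z) (ha2 : a * a = 1) :
    Nat.card ↥Z ≤ Nat.card ↥(fixSub Z a) * Nat.card ↥(fixSub Z a) := by
  have hcomm : ∀ u ∈ Z, ∀ v ∈ Z, u * v = v * u := fun u hu v hv => comm_of_sq Z hexp hu hv
  have hinvZ : ∀ w ∈ Z, w⁻¹ = w := fun w hw => inv_eq_of_mul_eq_one_left (hexp w hw)
  have hainv : a⁻¹ = a := inv_eq_of_mul_eq_one_left ha2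
  have hmem : ∀ w ∈ Z, a * w * a⁻¹ * w⁻¹ ∈ Z := fun w hw => Z.mul_mem (haZ w hw) (Z.inv_mem hw)
  let φ : ↥Z →* ↥Z := MonoidHom.mk' (fun w => ⟨a * w.1 * a⁻¹ * w.1⁻¹, hmem w.1 w.2⟩) (by
    intro u v
    apply Subtype.ext
    show a * (u.1 * v.1) * a⁻¹ * (u.1 * v.1)⁻¹ = (a * u.1 * a⁻¹ * u.1⁻¹) * (a * v.1 * a⁻¹ * v.1⁻¹)
    calc a * (u.1 * v.1) * a⁻¹ * (u.1 * v.1)⁻¹
        = (a * u.1 * a⁻¹) * ((a * v.1 * a⁻¹ * v.1⁻¹) * u.1⁻¹) := by group
      _ = (a * u.1 * a⁻¹) * (u.1⁻¹ * (a * v.1 * a⁻¹ * v.1⁻¹)) := by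
          rw [hcomm _ (hmem v.1 v.2) _ (Z.inv_mem u.2)]
      _ = (a * u.1 * a⁻¹ * u.1⁻¹) * (a * v.1 * a⁻¹ * v.1⁻¹) := by group)
  have h1 := Subgroup.card_mul_index φ.ker
  rw [Subgroup.index_ker] at h1
  have hk : Nat.card ↥φ.ker ≤ Nat.card ↥(fixSub Z a) := by
    let g : ↥φ.ker → ↥(fixSub Z a) := fun w => ⟨w.1.1, (mem_fixSub Z a _).2 ⟨w.1.2, by
      have h := w.2
      rw [MonoidHom.mem_ker] at h
      have h' : a * w.1.1 * a⁻¹ * w.1.1⁻¹ = 1 := congrArg Subtype.val h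
      rwa [mul_inv_eq_one] at h'⟩⟩
    apply Nat.card_le_card_of_injective g
    intro w w' h
    have h' : (g w).1 = (g w').1 := congrArg Subtype.val h
    exact Subtype.ext (Subtype.ext h')
  have hr : Nat.card ↥φ.range ≤ Nat.card ↥(fixSub Z a) := by
    let g : ↥φ.range → ↥(fixSub Z a) := fun r => ⟨r.1.1, (mem_fixSub Z a _).2 ⟨r.1.2, by
      obtain ⟨w, hw⟩ := r.2
      have hr1 : r.1.1 = a * w.1 * a⁻¹ * w.1⁻¹ := by rw [← hw]; rfl
      rw [hr1]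
      have hw' := haZ w.1 w.2
      calc a * (a * w.1 * a⁻¹ * w.1⁻¹) * a⁻¹ = (a * a) * w.1 * (a⁻¹ * w.1⁻¹ * a⁻¹) := by group
        _ = w.1 * (a * w.1 * a⁻¹)⁻¹ := by
            rw [ha2, one_mul]
            have e : a⁻¹ * w.1⁻¹ * a⁻¹ = (a * w.1 * a⁻¹)⁻¹ := by
              calc a⁻¹ * w.1⁻¹ * a⁻¹ = a * w.1⁻¹ * a⁻¹ := by nth_rewrite 1 [hainv]; rfl
                _ = (a * w.1 * a⁻¹)⁻¹ := by group
            rw [e]
        _ = w.1 * (a * w.1 * a⁻¹) := by rw [hinvZ _ hw']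
        _ = (a * w.1 * a⁻¹) * w.1 := hcomm _ w.2 _ hw'
        _ = a * w.1 * a⁻¹ * w.1⁻¹ := by rw [hinvZ _ w.2]⟩⟩
    apply Nat.card_le_card_of_injective g
    intro w w' h
    have h' : (g w).1 = (g w').1 := congrArg Subtype.val h
    exact Subtype.ext (Subtype.ext h')
  calc Nat.card ↥Z = Nat.card ↥φ.ker * Nat.card ↥φ.range := h1.symm
    _ ≤ Nat.card ↥(fixSub Z a) * Nat.card ↥(fixSub Z a) := Nat.mul_le_mul hk hr

/-- Index bound: if `τ b = τ b'` forces `b b' ∈ C_X(Z)`, then `|A| ≤ |β| |C_A(Z)|`. -/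
theorem card_le_of_fibers [Finite X] (A Z : Subgroup X) (β : Type) [Finite β] (τ : ↥A → β)
    (hτ : ∀ b b' : ↥A, τ b = τ b' → b.1 * b'.1 ∈ Subgroup.centralizer (Z : Set X)) :
    Nat.card ↥A ≤ Nat.card β * Nat.card ↥(A ⊓ Subgroup.centralizer (Z : Set X)) := by
  classical
  let rep : β → ↥A := fun t => if h : ∃ b : ↥A, τ b = t then Classical.choose h else 1
  have hrep : ∀ b : ↥A, τ (rep (τ b)) = τ b := by
    intro b
    have h : ∃ b' : ↥A, τ b' = τ b := ⟨b, rfl⟩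
    simp only [rep, dif_pos h]
    exact Classical.choose_spec h
  let g : ↥A → β × ↥(A ⊓ Subgroup.centralizer (Z : Set X)) := fun b =>
    (τ b, ⟨b.1 * (rep (τ b)).1,
      Subgroup.mem_inf.mpr ⟨A.mul_mem b.2 (rep (τ b)).2, hτ b (rep (τ b)) (hrep b).symm⟩⟩)
  have hg : Function.Injective g := by
    intro b b' h
    have h1 : τ b = τ b' := congrArg Prod.fst h
    have h2 : (g b).2.1 = (g b').2.1 := congrArg (fun p => p.2.1) h
    have h3 : b.1 * (rep (τ b)).1 = b'.1 * (rep (τ b')).1 := h2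
    rw [h1] at h3
    exact Subtype.ext (mul_right_cancel h3)
  have := Nat.card_le_card_of_injective g hg
  rwa [Nat.card_prod] at this

set_option maxHeartbeats 1000000 in
theorem w5b : StW5B.{u} := by
  intro X _ _ Z₁ Z A P x a hZ1Z hc1 hc16 hexp hxZ hxZ1 hx3 hfpf hA hAP hZP hmax haA haZ haZ1
    hinv hA1
  classical
  have hcomm : ∀ u ∈ Z, ∀ v ∈ Z, u * v = v * u := fun u hu v hv => comm_of_sq Z hexp hu hv
  have hA2 : ∀ b ∈ A, b * b = 1 := fun b hb => by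
    have := hA.2 b hb
    rwa [pow_two] at this
  have hAinv : ∀ b ∈ A, b⁻¹ = b := fun b hb => inv_eq_of_mul_eq_one_left (hA2 b hb)
  have hAc : ∀ b ∈ A, ∀ c ∈ A, b * c = c * b := by
    intro b hb c hc
    have h := hA.1
    exact congrArg Subtype.val (h.is_comm.comm (⟨b, hb⟩ : ↥A) ⟨c, hc⟩)
  have ha2 : a * a = 1 := hA2 a haA
  -- the fixed points of `a`
  obtain ⟨hL1, hsurj⟩ := fixA_sq_le Z x a hxZ hx3 hfpf hinv
  have hL2 := card_le_fixA_sq Z a hexp haZ ha2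
  have hY4 : Nat.card ↥(fixSub Z a) = 4 := by
    rw [hc16] at hL1 hL2
    have h1 : Nat.card ↥(fixSub Z a) * Nat.card ↥(fixSub Z a) = 4 * 4 := le_antisymm hL1 hL2
    exact Nat.mul_self_inj.mp h1
  obtain ⟨hL1', -⟩ := fixA_sq_le Z₁ x a hxZ1 (fun w hw => hx3 w (hZ1Z hw))
    (fun w hw => hfpf w (hZ1Z hw)) (fun w hw => hinv w (hZ1Z hw))
  have hL2' := card_le_fixA_sq Z₁ a (fun w hw => hexp w (hZ1Z hw)) haZ1 ha2
  have hY2 : Nat.card ↥(fixSub Z₁ a) = 2 := by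
    rw [hc1] at hL1' hL2'
    have h1 : Nat.card ↥(fixSub Z₁ a) * Nat.card ↥(fixSub Z₁ a) = 2 * 2 := le_antisymm hL1' hL2'
    exact Nat.mul_self_inj.mp h1
  have hY1Y : fixSub Z₁ a ≤ fixSub Z a := inf_le_inf_right _ hZ1Z
  obtain ⟨y₀, hy₀Y, hy₀⟩ : ∃ y₀ ∈ fixSub Z a, y₀ ∉ fixSub Z₁ a := by
    by_contra hcon
    push Not at hcon
    have hle : fixSub Z a ≤ fixSub Z₁ a := fun y hy => hcon y hy
    have := Nat.le_of_dvd (by omega) (Subgroup.card_dvd_of_le hle)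
    omega
  have hy₀Z : y₀ ∈ Z := ((mem_fixSub Z a _).1 hy₀Y).1
  have hy₀a : a * y₀ * a⁻¹ = y₀ := ((mem_fixSub Z a _).1 hy₀Y).2
  have hY1u : ∀ y ∈ fixSub Z₁ a, ∀ y' ∈ fixSub Z₁ a, y ≠ 1 → y' ≠ 1 → y = y' := by
    intro y hy y' hy' h1 h1'
    obtain ⟨z, -, hz⟩ := (Nat.card_eq_two_iff' (1 : ↥(fixSub Z₁ a))).mp hY2
    have e1 := hz ⟨y, hy⟩ (fun h => h1 (congrArg Subtype.val h))
    have e2 := hz ⟨y', hy'⟩ (fun h => h1' (congrArg Subtype.val h))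
    exact congrArg Subtype.val (e1.trans e2.symm)
  have hYsplit : ∀ y ∈ fixSub Z a, y ∈ fixSub Z₁ a ∨ y₀ * y ∈ fixSub Z₁ a := by
    have hidx : ((fixSub Z₁ a).subgroupOf (fixSub Z a)).index = 2 := by
      have h1 := Subgroup.card_mul_index ((fixSub Z₁ a).subgroupOf (fixSub Z a))
      have h2 : Nat.card ↥((fixSub Z₁ a).subgroupOf (fixSub Z a)) = 2 := by
        rw [← hY2]
        exact Nat.card_congr (Subgroup.subgroupOfEquivOfLe hY1Y).toEquiv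
      rw [h2, hY4] at h1
      omega
    intro y hy
    by_cases hyY1 : y ∈ fixSub Z₁ a
    · exact Or.inl hyY1
    · right
      have h3 : (⟨y₀, hy₀Y⟩ : ↥(fixSub Z a)) * ⟨y, hy⟩ ∈ (fixSub Z₁ a).subgroupOf (fixSub Z a) :=
        (Subgroup.mul_mem_iff_of_index_two hidx).mpr
          ⟨fun h => absurd (Subgroup.mem_subgroupOf.mp h) hy₀,
            fun h => absurd (Subgroup.mem_subgroupOf.mp h) hyY1⟩
      exact Subgroup.mem_subgroupOf.mp h3
  -- the property P1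
  let P1 : X → Prop := fun b => (∀ w ∈ Z, b * w * b⁻¹ * w⁻¹ ∈ Z₁) ∧
    (∀ w ∈ Z, b * (x * w * x⁻¹) * b⁻¹ = x * (b * w * b⁻¹) * x⁻¹)
  have hP1Z : ∀ c, P1 c → ∀ w ∈ Z, c * w * c⁻¹ ∈ Z := by
    intro c hP w hw
    have := Z.mul_mem (hZ1Z (hP.1 w hw)) hw
    simpa using this
  have hP1Z1 : ∀ c, P1 c → ∀ w ∈ Z₁, c * w * c⁻¹ ∈ Z₁ := by
    intro c hP w hw
    have := Z₁.mul_mem (hP.1 w (hZ1Z hw)) hw
    simpa using this
  -- an element of `A` with P1 fixing `y₀` centralizes `Z`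
  have hcen : ∀ c ∈ A, P1 c → c * y₀ * c⁻¹ = y₀ → c ∈ Subgroup.centralizer (Z : Set X) := by
    intro c hcA hP hcy
    have hcY1 : ∀ y ∈ fixSub Z₁ a, c * y * c⁻¹ = y := by
      intro y hy
      by_cases hy1 : y = 1
      · subst hy1; simp
      · obtain ⟨hyZ1, hya⟩ := (mem_fixSub Z₁ a _).1 hy
        have h1 : c * y * c⁻¹ ∈ Z₁ := hP1Z1 c hP y hyZ1
        have h2 : a * (c * y * c⁻¹) * a⁻¹ = c * y * c⁻¹ := by
          have hac := hAc a haA c hcA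
          calc a * (c * y * c⁻¹) * a⁻¹ = (a * c) * y * (a * c)⁻¹ := by group
            _ = (c * a) * y * (c * a)⁻¹ := by rw [hac]
            _ = c * (a * y * a⁻¹) * c⁻¹ := by group
            _ = c * y * c⁻¹ := by rw [hya]
        have h3 : c * y * c⁻¹ ∈ fixSub Z₁ a := (mem_fixSub Z₁ a _).2 ⟨h1, h2⟩
        have h4 : c * y * c⁻¹ ≠ 1 := by
          intro h
          apply hy1
          have : y = c⁻¹ * (c * y * c⁻¹) * c := by group
          rw [this, h]; group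
        exact hY1u _ h3 _ hy h4 hy1
    have hcY : ∀ y ∈ fixSub Z a, c * y * c⁻¹ = y := by
      intro y hy
      rcases hYsplit y hy with h | h
      · exact hcY1 y h
      · have h5 := hcY1 _ h
        have : c * (y₀ * y) * c⁻¹ = (c * y₀ * c⁻¹) * (c * y * c⁻¹) := by group
        rw [this, hcy] at h5
        exact mul_left_cancel h5
    rw [Subgroup.mem_centralizer_iff]
    intro z hz
    obtain ⟨u, hu, v, hv, rfl⟩ := hsurj (le_of_eq (by rw [hc16, hY4])) z hz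
    have hu' := hcY u hu
    have hv' := hcY v hv
    have hvZ : v ∈ Z := ((mem_fixSub Z a _).1 hv).1
    have e1 : c * (x * v * x⁻¹) * c⁻¹ = x * v * x⁻¹ := by rw [hP.2 v hvZ, hv']
    have e2 : c * (u * (x * v * x⁻¹)) * c⁻¹ = u * (x * v * x⁻¹) := by
      calc c * (u * (x * v * x⁻¹)) * c⁻¹ = (c * u * c⁻¹) * (c * (x * v * x⁻¹) * c⁻¹) := by group
        _ = u * (x * v * x⁻¹) := by rw [hu', e1]
    calc u * (x * v * x⁻¹) * c = (c * (u * (x * v * x⁻¹)) * c⁻¹) * c := by rw [e2]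
      _ = c * (u * (x * v * x⁻¹)) := by group
  -- products of two elements with P1
  have hP1mul : ∀ b ∈ A, ∀ b' ∈ A, P1 b → P1 b' → P1 (b * b') := by
    intro b hb b' hb' hP hP'
    constructor
    · intro w hw
      have h1 := hP'.1 w hw
      have h2 := hP1Z1 b hP _ h1
      have h3 := hP.1 w hw
      have : b * b' * w * (b * b')⁻¹ * w⁻¹ = (b * (b' * w * b'⁻¹ * w⁻¹) * b⁻¹) * (b * w * b⁻¹ * w⁻¹) := by
        group
      rw [this]
      exact Z₁.mul_mem h2 h3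
    · intro w hw
      have h1 := hP'.2 w hw
      have h2 := hP.2 _ (hP1Z b' hP' w hw)
      calc b * b' * (x * w * x⁻¹) * (b * b')⁻¹ = b * (b' * (x * w * x⁻¹) * b'⁻¹) * b⁻¹ := by group
        _ = b * (x * (b' * w * b'⁻¹) * x⁻¹) * b⁻¹ := by rw [h1]
        _ = x * (b * (b' * w * b'⁻¹) * b⁻¹) * x⁻¹ := h2
        _ = x * (b * b' * w * (b * b')⁻¹) * x⁻¹ := by group
  -- the displacement of y₀ under an element with P1
  have hdisp : ∀ b ∈ A, P1 b → b * y₀ * b⁻¹ * y₀⁻¹ ∈ fixSub Z₁ a := by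
    intro b hb hP
    refine (mem_fixSub Z₁ a _).2 ⟨hP.1 y₀ hy₀Z, ?_⟩
    have hac := hAc a haA b hb
    calc a * (b * y₀ * b⁻¹ * y₀⁻¹) * a⁻¹ = (a * b) * y₀ * (a * b)⁻¹ * (a * y₀ * a⁻¹)⁻¹ := by group
      _ = (b * a) * y₀ * (b * a)⁻¹ * (a * y₀ * a⁻¹)⁻¹ := by rw [hac]
      _ = b * (a * y₀ * a⁻¹) * b⁻¹ * (a * y₀ * a⁻¹)⁻¹ := by group
      _ = b * y₀ * b⁻¹ * y₀⁻¹ := by rw [hy₀a]
  -- two elements with P1 and the same behaviour on y₀
  have hsame : ∀ b ∈ A, ∀ b' ∈ A, P1 b → P1 b' →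
      ((b * y₀ * b⁻¹ = y₀) ↔ (b' * y₀ * b'⁻¹ = y₀)) →
      b * b' ∈ Subgroup.centralizer (Z : Set X) := by
    intro b hb b' hb' hP hP' hiff
    apply hcen (b * b') (A.mul_mem hb hb') (hP1mul b hb b' hb' hP hP')
    have key : b' * y₀ * b'⁻¹ = b * y₀ * b⁻¹ := by
      by_cases h : b * y₀ * b⁻¹ = y₀
      · rw [h, hiff.mp h]
      · have h' : ¬ b' * y₀ * b'⁻¹ = y₀ := fun h'' => h (hiff.mpr h'')
        have d1 := hdisp b hb hP
        have d2 := hdisp b' hb' hP'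
        have n1 : b * y₀ * b⁻¹ * y₀⁻¹ ≠ 1 := fun e => h (by rwa [mul_inv_eq_one] at e)
        have n2 : b' * y₀ * b'⁻¹ * y₀⁻¹ ≠ 1 := fun e => h' (by rwa [mul_inv_eq_one] at e)
        have e := hY1u _ d2 _ d1 n2 n1
        exact mul_right_cancel e
    calc b * b' * y₀ * (b * b')⁻¹ = b * (b' * y₀ * b'⁻¹) * b⁻¹ := by group
      _ = b * (b * y₀ * b⁻¹) * b⁻¹ := by rw [key]
      _ = (b * b) * y₀ * (b * b)⁻¹ := by group
      _ = y₀ := by rw [hA2 b hb]; group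
  -- b₁
  let b1 : X → X := fun b => if P1 b then b else a * b
  have hb1 : ∀ b ∈ A, b1 b ∈ A ∧ P1 (b1 b) := by
    intro b hb
    by_cases h : P1 b
    · simp only [b1, if_pos h]; exact ⟨hb, h⟩
    · simp only [b1, if_neg h]
      refine ⟨A.mul_mem haA hb, ?_⟩
      rcases hA1 b hb with h' | h'
      · exact absurd h' h
      · exact h'
  have hb1mul : ∀ b ∈ A, ∀ b' ∈ A, (P1 b ↔ P1 b') → b1 b * b1 b' = b * b' := by
    intro b hb b' hb' hiff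
    by_cases h : P1 b
    · have h' := hiff.mp h
      simp only [b1, if_pos h, if_pos h']
    · have h' : ¬ P1 b' := fun h'' => h (hiff.mpr h'')
      simp only [b1, if_neg h, if_neg h']
      calc a * b * (a * b') = a * (b * a) * b' := by group
        _ = a * (a * b) * b' := by rw [hAc b hb a haA]
        _ = (a * a) * b * b' := by group
        _ = b * b' := by rw [ha2, one_mul]
  -- the Thompson replacement
  have hCZ : ∀ c ∈ A ⊓ Subgroup.centralizer (Z : Set X), ∀ z ∈ Z, c * z = z * c := by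
    intro c hc z hz
    exact ((Subgroup.mem_centralizer_iff.mp (Subgroup.mem_inf.mp hc).2) z hz).symm
  let φ : ↥(A ⊓ Subgroup.centralizer (Z : Set X)) × ↥Z →* X :=
    MonoidHom.noncommCoprod (A ⊓ Subgroup.centralizer (Z : Set X)).subtype Z.subtype
      (fun c z => hCZ c.1 c.2 z.1 z.2)
  have hφ : ∀ p, φ p = p.1.1 * p.2.1 := fun p => rfl
  have hBel : IsElementaryAbelian 2 φ.range := by
    constructor
    · refine ⟨⟨fun u v => Subtype.ext ?_⟩⟩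
      obtain ⟨p, hp⟩ := u.2
      obtain ⟨q, hq⟩ := v.2
      show u.1 * v.1 = v.1 * u.1
      rw [← hp, ← hq, hφ, hφ]
      have hpA := (Subgroup.mem_inf.mp p.1.2).1
      have hqA := (Subgroup.mem_inf.mp q.1.2).1
      have e1 := hAc _ hpA _ hqA
      have e2 := hcomm _ p.2.2 _ q.2.2
      have e3 := hCZ _ q.1.2 _ p.2.2
      have e4 := hCZ _ p.1.2 _ q.2.2
      calc p.1.1 * p.2.1 * (q.1.1 * q.2.1) = p.1.1 * (p.2.1 * q.1.1) * q.2.1 := by group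
        _ = p.1.1 * (q.1.1 * p.2.1) * q.2.1 := by rw [e3]
        _ = (p.1.1 * q.1.1) * (p.2.1 * q.2.1) := by group
        _ = (q.1.1 * p.1.1) * (q.2.1 * p.2.1) := by rw [e1, e2]
        _ = q.1.1 * (p.1.1 * q.2.1) * p.2.1 := by group
        _ = q.1.1 * (q.2.1 * p.1.1) * p.2.1 := by rw [e4]
        _ = q.1.1 * q.2.1 * (p.1.1 * p.2.1) := by group
    · rintro g ⟨p, rfl⟩
      rw [hφ, pow_two]
      have hpA := (Subgroup.mem_inf.mp p.1.2).1
      have e3 := hCZ _ p.1.2 _ p.2.2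
      calc p.1.1 * p.2.1 * (p.1.1 * p.2.1) = p.1.1 * (p.2.1 * p.1.1) * p.2.1 := by group
        _ = p.1.1 * (p.1.1 * p.2.1) * p.2.1 := by rw [← e3]
        _ = (p.1.1 * p.1.1) * (p.2.1 * p.2.1) := by group
        _ = 1 := by rw [hA2 _ hpA, hexp _ p.2.2, one_mul]
  have hBP : φ.range ≤ P := by
    rintro g ⟨p, rfl⟩
    rw [hφ]
    exact P.mul_mem (hAP (Subgroup.mem_inf.mp p.1.2).1) (hZP p.2.2)
  have hBA := hmax φ.range hBP hBel
  have hker : Nat.card ↥φ.ker ≤ Nat.card ↥(A ⊓ Subgroup.centralizer (Z : Set X) ⊓ Z) := by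
    let g : ↥φ.ker → ↥(A ⊓ Subgroup.centralizer (Z : Set X) ⊓ Z) := fun p =>
      ⟨p.1.1.1, Subgroup.mem_inf.mpr ⟨p.1.1.2, by
        have h := p.2
        rw [MonoidHom.mem_ker, hφ] at h
        have e : p.1.1.1 = p.1.2.1⁻¹ := eq_inv_of_mul_eq_one_left h
        rw [e]
        exact Z.inv_mem p.1.2.2⟩⟩
    apply Nat.card_le_card_of_injective g
    intro p q h
    have h' : (g p).1 = (g q).1 := congrArg Subtype.val h
    have h1 : p.1.1.1 = q.1.1.1 := h'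
    have hp := p.2
    have hq := q.2
    rw [MonoidHom.mem_ker, hφ] at hp hq
    have h2 : p.1.2.1 = q.1.2.1 := by
      have e1 : p.1.2.1 = p.1.1.1⁻¹ := eq_inv_of_mul_eq_one_right hp
      have e2 : q.1.2.1 = q.1.1.1⁻¹ := eq_inv_of_mul_eq_one_right hq
      rw [e1, e2, h1]
    exact Subtype.ext (Prod.ext (Subtype.ext h1) (Subtype.ext h2))
  have hprod : Nat.card ↥(A ⊓ Subgroup.centralizer (Z : Set X)) * 16 ≤
      Nat.card ↥(A ⊓ Subgroup.centralizer (Z : Set X) ⊓ Z) * Nat.card ↥A := by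
    have h1 := Subgroup.card_mul_index φ.ker
    rw [Subgroup.index_ker, Nat.card_prod, hc16] at h1
    rw [← h1]
    exact Nat.mul_le_mul hker hBA
  have hDY : A ⊓ Subgroup.centralizer (Z : Set X) ⊓ Z ≤ fixSub Z a := by
    intro g hg
    obtain ⟨hg1, hgZ⟩ := Subgroup.mem_inf.mp hg
    have hgA := (Subgroup.mem_inf.mp hg1).1
    refine (mem_fixSub Z a _).2 ⟨hgZ, ?_⟩
    rw [hAc a haA g hgA]
    group
  have hCpos : 0 < Nat.card ↥(A ⊓ Subgroup.centralizer (Z : Set X)) := Nat.card_pos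
  have hDdvd := Subgroup.card_dvd_of_le hDY
  rw [hY4] at hDdvd
  by_cases hYA : fixSub Z a ≤ A
  · -- every element of A fixes y₀
    have hfix : ∀ b ∈ A, b * y₀ * b⁻¹ = y₀ := by
      intro b hb
      rw [hAc b hb y₀ (hYA hy₀Y)]
      group
    have h2 := card_le_of_fibers A Z Bool (fun b => decide (P1 b.1)) (by
      intro b b' h
      have hiff : P1 b.1 ↔ P1 b'.1 := decide_eq_decide.mp h
      have := hsame (b1 b.1) (hb1 b.1 b.2).1 (b1 b'.1) (hb1 b'.1 b'.2).1 (hb1 b.1 b.2).2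
        (hb1 b'.1 b'.2).2 (by rw [hfix _ (hb1 b.1 b.2).1, hfix _ (hb1 b'.1 b'.2).1])
      rwa [hb1mul b.1 b.2 b'.1 b'.2 hiff] at this)
    have hB : Nat.card Bool = 2 := by simp
    rw [hB] at h2
    have hD4 : Nat.card ↥(A ⊓ Subgroup.centralizer (Z : Set X) ⊓ Z) ≤ 4 :=
      Nat.le_of_dvd (by norm_num) hDdvd
    have h3 := Nat.mul_le_mul hD4 h2
    omega
  · have hDne : Nat.card ↥(A ⊓ Subgroup.centralizer (Z : Set X) ⊓ Z) ≠ 4 := by
      intro h4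
      apply hYA
      have heq : A ⊓ Subgroup.centralizer (Z : Set X) ⊓ Z = fixSub Z a :=
        Subgroup.eq_of_le_of_card_ge hDY (by rw [h4, hY4])
      rw [← heq]
      exact inf_le_left.trans inf_le_left
    have hD2 : Nat.card ↥(A ⊓ Subgroup.centralizer (Z : Set X) ⊓ Z) ≤ 2 := by
      have hle := Nat.le_of_dvd (by norm_num) hDdvd
      have key : ∀ n : ℕ, n ≤ 4 → n ∣ 4 → n ≠ 4 → n ≤ 2 := by decide
      exact key _ hle hDdvd hDne
    have h2 := card_le_of_fibers A Z (Bool × Bool)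
      (fun b => (decide (P1 b.1), decide (b1 b.1 * y₀ * (b1 b.1)⁻¹ = y₀))) (by
      intro b b' h
      have h' := Prod.mk.inj h
      have hiff : P1 b.1 ↔ P1 b'.1 := decide_eq_decide.mp h'.1
      have hiff2 : (b1 b.1 * y₀ * (b1 b.1)⁻¹ = y₀) ↔ (b1 b'.1 * y₀ * (b1 b'.1)⁻¹ = y₀) :=
        decide_eq_decide.mp h'.2
      have := hsame (b1 b.1) (hb1 b.1 b.2).1 (b1 b'.1) (hb1 b'.1 b'.2).1 (hb1 b.1 b.2).2
        (hb1 b'.1 b'.2).2 hiff2
      rwa [hb1mul b.1 b.2 b'.1 b'.2 hiff] at this)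
    have hB : Nat.card (Bool × Bool) = 4 := by simp
    rw [hB] at h2
    have h3 := Nat.mul_le_mul hD2 h2
    omega

example : StW5B.{u} := w5b

end

end Cfsg.Agent.H34.Ex

#print axioms Cfsg.Agent.H34.Ex.w5b
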