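import Mathlib
import Cfsg.Agent.H64.Hall4Defs
import Cfsg.Agent.H34.Hall4B3

/-!
helper34: piece H4-BR2 of helper64's team project S4221 (`Cfsg.Agent.H64.Hall4.BridgeCardStmt`).
-/

set_option autoImplicit false

namespace Cfsg.Agent.H34.Hall4

open Equiv Cfsg.Agent.H64.Hall4

universe u

theorem descFactorial_four (n : ℕ) : n.descFactorial 4 = n * (n - 1) * (n - 2) * (n - 3) := by
  rw [Nat.descFactorial_succ, Nat.descFactorial_succ, Nat.descFactorial_succ,
    Nat.descFactorial_succ, Nat.descFactorial_zero, Nat.sub_zero]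
  ring

theorem bridgeCard : BridgeCardStmt.{u} := by
  intro α _ _ G hT x
  refine ⟨?_, ?_⟩
  · have hpre : ∀ x y : Fin 4 ↪ α, ∃ g : G, g • x = y :=
      fun x y => MulAction.exists_smul_eq G x y
    have h1 := @MulAction.index_stabilizer_of_transitive G (Fin 4 ↪ α) _ _ x ⟨hpre⟩
    have h2 := Subgroup.card_mul_index (MulAction.stabilizer G x)
    have h3 : Nat.card (Fin 4 ↪ α) = (Fintype.card α).descFactorial 4 := by
      rw [Nat.card_eq_fintype_card, Fintype.card_embedding_eq, Fintype.card_fin]
    rw [h1, h3, descFactorial_four] at h2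
    rw [← h2]
    ring
  · refine Nat.card_congr
      { toFun := fun k => ⟨(k.1 : Perm α), Subgroup.mem_inf.2 ⟨k.1.2, mem_fix4.2
          ⟨congrArg (fun f : Fin 4 ↪ α => f 0) (MulAction.mem_stabilizer_iff.1 k.2),
           congrArg (fun f : Fin 4 ↪ α => f 1) (MulAction.mem_stabilizer_iff.1 k.2),
           congrArg (fun f : Fin 4 ↪ α => f 2) (MulAction.mem_stabilizer_iff.1 k.2),
           congrArg (fun f : Fin 4 ↪ α => f 3) (MulAction.mem_stabilizer_iff.1 k.2)⟩⟩⟩
        invFun := fun h => ⟨⟨h.1, (Subgroup.mem_inf.1 h.2).1⟩, by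
          rw [MulAction.mem_stabilizer_iff]
          obtain ⟨f0, f1, f2, f3⟩ := mem_fix4.1 (Subgroup.mem_inf.1 h.2).2
          ext i
          show (h.1 : Perm α) (x i) = x i
          have hi : i = 0 ∨ i = 1 ∨ i = 2 ∨ i = 3 := by
            fin_cases i <;> simp
          rcases hi with rfl | rfl | rfl | rfl
          · exact f0
          · exact f1
          · exact f2
          · exact f3⟩
        left_inv := fun k => rfl
        right_inv := fun h => rfl }

example : Cfsg.Agent.H64.Hall4.BridgeCardStmt.{u} := bridgeCard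

end Cfsg.Agent.H34.Hall4
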