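import Mathlib
import Cfsg.Prelude.Def_SporadicCombinatorics

/-!
# The hexacode over an abstract field with four elements

Coordinates `(a, b) ↦ a + b ω` on a field with four elements, the 64 words of the hexacode, its
weights, and its monomial automorphism group (order `1080`, permutation parts the alternating
group of degree 6).
-/

set_option autoImplicit false

namespace Cfsg.Agent.H34

open Cfsg

/-- Coordinates for the field with four elements: `(a, b)` stands for `a + b ω`. -/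
abbrev K4 : Type := ZMod 2 × ZMod 2

/-- Triples of coordinates. -/
abbrev K43 : Type := K4 × K4 × K4

/-- Sextuples of coordinates. -/
abbrev K46 : Type := K4 × K4 × K4 × K4 × K4 × K4

/-- The multiplication of the field with four elements in coordinates. -/
def mulK (x y : K4) : K4 := (x.1 * y.1 + x.2 * y.2, x.1 * y.2 + x.2 * y.1 + x.2 * y.2)

/-- The three generators of the hexacode in coordinates. -/
def hV : Fin 3 → Fin 6 → K4 :=
  ![![(0, 1), (1, 1), (1, 1), (0, 1), (1, 1), (0, 1)],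
    ![(1, 1), (0, 1), (0, 1), (1, 1), (1, 1), (0, 1)],
    ![(1, 1), (0, 1), (1, 1), (0, 1), (0, 1), (1, 1)]]

/-- Three parity checks of the hexacode in coordinates. -/
def hH : Fin 3 → Fin 6 → K4 := ![![(0, 0), (0, 0), (1, 0), (1, 0), (1, 0), (1, 0)], ![(0, 0), (1, 0), (0, 0), (1, 0), (1, 1), (0, 1)], ![(1, 0), (0, 0), (0, 0), (1, 0), (0, 1), (1, 1)]]

/-- The word with given coefficients. -/
def wordK (t : K43) : Fin 6 → K4 :=
  fun i => mulK t.1 (hV 0 i) + mulK t.2.1 (hV 1 i) + mulK t.2.2 (hV 2 i)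

/-- The weight of the word with given coefficients. -/
def wtK (t : K43) : ℕ := (Finset.univ.filter fun i => wordK t i ≠ 0).card

/-- The parity checks vanish. -/
def chkK (y : Fin 6 → K4) : Prop :=
  ∀ j : Fin 3, mulK (hH j 0) (y 0) + mulK (hH j 1) (y 1) + mulK (hH j 2) (y 2) +
    mulK (hH j 3) (y 3) + mulK (hH j 4) (y 4) + mulK (hH j 5) (y 5) = 0

instance : DecidablePred chkK := fun y => by
  unfold chkK
  infer_instance

/-- The function with given six values. -/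
def tup6 (d : K46) : Fin 6 → K4 := ![d.1, d.2.1, d.2.2.1, d.2.2.2.1, d.2.2.2.2.1, d.2.2.2.2.2]

/-- All six values are nonzero. -/
def nz6 (d : K46) : Prop := ∀ i : Fin 6, tup6 d i ≠ 0

instance : DecidablePred nz6 := fun d => by
  unfold nz6
  infer_instance

/-- The coefficient triples of the generators. -/
def genT : Fin 3 → K43 := ![((1, 0), 0, 0), (0, (1, 0), 0), (0, 0, (1, 0))]

/-- Scalings making the products of a transposition with the transposition `(0 1)` monomial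
automorphisms. -/
def hW : Fin 6 → Fin 6 → K46 := ![![((1, 0), (1, 0), (1, 0), (1, 0), (1, 0), (1, 0)), ((1, 0), (1, 0), (1, 0), (1, 0), (1, 0), (1, 0)), ((1, 0), (1, 0), (1, 0), (1, 0), (1, 1), (0, 1)), ((1, 0), (1, 0), (1, 0), (1, 0), (0, 1), (1, 1)), ((1, 0), (1, 0), (1, 1), (0, 1), (1, 0), (1, 0)), ((1, 0), (1, 0), (0, 1), (1, 1), (1, 0), (1, 0))], ![((1, 0), (1, 0), (1, 0), (1, 0), (1, 0), (1, 0)), ((1, 0), (1, 0), (1, 0), (1, 0), (1, 0), (1, 0)), ((1, 0), (1, 0), (1, 0), (1, 0), (0, 1), (1, 1)), ((1, 0), (1, 0), (1, 0), (1, 0), (1, 1), (0, 1)), ((1, 0), (1, 0), (0, 1), (1, 1), (1, 0), (1, 0)), ((1, 0), (1, 0), (1, 1), (0, 1), (1, 0), (1, 0))], ![((1, 0), (1, 0), (1, 0), (1, 0), (1, 1), (0, 1)), ((1, 0), (1, 0), (1, 0), (1, 0), (0, 1), (1, 1)), ((1, 0), (1, 0), (1, 0), (1, 0), (1, 0), (1, 0)), ((1, 0), (1, 0), (1, 0), (1, 0), (1, 0), (1, 0)), ((1, 0), (1, 1), (0, 1), (0, 1), (0, 1), (0, 1)), ((1, 0), (0, 1), (1, 1), (1, 1),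 (1, 1), (1, 1))], ![((1, 0), (1, 0), (1, 0), (1, 0), (0, 1), (1, 1)), ((1, 0), (1, 0), (1, 0), (1, 0), (1, 1), (0, 1)), ((1, 0), (1, 0), (1, 0), (1, 0), (1, 0), (1, 0)), ((1, 0), (1, 0), (1, 0), (1, 0), (1, 0), (1, 0)), ((1, 0), (0, 1), (1, 1), (1, 1), (1, 1), (1, 1)), ((1, 0), (1, 1), (0, 1), (0, 1), (0, 1), (0, 1))], ![((1, 0), (1, 0), (1, 1), (0, 1), (1, 0), (1, 0)), ((1, 0), (1, 0), (0, 1), (1, 1), (1, 0), (1, 0)), ((1, 0), (1, 1), (0, 1), (0, 1), (0, 1), (0, 1)), ((1, 0), (0, 1), (1, 1), (1, 1), (1, 1), (1, 1)), ((1, 0), (1, 0), (1, 0), (1, 0), (1, 0), (1, 0)), ((1, 0), (1, 0), (1, 0), (1, 0), (1, 0), (1, 0))], ![((1, 0), (1, 0), (0, 1), (1, 1), (1, 0), (1, 0)), ((1, 0), (1, 0), (1, 1), (0, 1), (1, 0), (1, 0)), ((1, 0), (0, 1), (1, 1), (1, 1), (1, 1), (1, 1)), ((1, 0), (1, 1), (0, 1), (0, 1), (0, 1), (0, 1)), ((1, 0), (1, 0), (1, 0), (1, 0), (1, 0), (1, 0)), ((1, 0), (1, 0), (1, 0), (1, 0), (1, 0), (1, 0))]]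

theorem wordK_inj : ∀ t t' : K43, wordK t = wordK t' → t = t' := by decide +kernel

theorem wordK_zero : wordK 0 = 0 := by decide +kernel

theorem wordK_gen : ∀ k : Fin 3, wordK (genT k) = hV k := by decide +kernel

theorem wtK_cases : ∀ t : K43, t ≠ 0 → wtK t = 4 ∨ wtK t = 6 := by decide +kernel

theorem wtK_four : (Finset.univ.filter fun t : K43 => wtK t = 4).card = 45 := by decide +kernel

theorem wtK_six : (Finset.univ.filter fun t : K43 => wtK t = 6).card = 18 := by decide +kernel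

theorem K4_add_self : ∀ x y : K4, x + y = 0 → x = y := by decide

theorem chk_word : ∀ t : K43, chkK (wordK t) := by decide +kernel

theorem diag_chk_aux : ∀ a b c d e f : K4, nz6 (a, b, c, d, e, f) →
    (∀ k : Fin 3, chkK (fun i => mulK (tup6 (a, b, c, d, e, f) i) (hV k i))) →
    ∀ i j : Fin 6, tup6 (a, b, c, d, e, f) i = tup6 (a, b, c, d, e, f) j := by
  decide +kernel

theorem diag_chk : ∀ d : K46, nz6 d →
    (∀ k : Fin 3, chkK (fun i => mulK (tup6 d i) (hV k i))) → ∀ i j : Fin 6, tup6 d i = tup6 d j :=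
  fun ⟨a, b, c, d, e, f⟩ => diag_chk_aux a b c d e f

theorem swap_chk_aux : ∀ a b c d e f : K4, nz6 (a, b, c, d, e, f) → ¬ ∀ k : Fin 3,
    chkK (fun i => mulK (tup6 (a, b, c, d, e, f) i)
      (hV k ((Equiv.swap (0 : Fin 6) 1).symm i))) := by
  decide +kernel

theorem swap_chk : ∀ d : K46, nz6 d → ¬ ∀ k : Fin 3,
    chkK (fun i => mulK (tup6 d i) (hV k ((Equiv.swap (0 : Fin 6) 1).symm i))) :=
  fun ⟨a, b, c, d, e, f⟩ => swap_chk_aux a b c d e f

theorem wit_ok : ∀ a b : Fin 6, a ≠ b → nz6 (hW a b) ∧ ∀ k : Fin 3, ∃ t' : K43,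
    (fun i => mulK (tup6 (hW a b) i)
      (hV k ((Equiv.swap a b * Equiv.swap (0 : Fin 6) 1).symm i))) = wordK t' := by
  decide +kernel

theorem tup6_eta (d : Fin 6 → K4) : d = tup6 (d 0, d 1, d 2, d 3, d 4, d 5) := by
  funext i
  fin_cases i <;> rfl

/-! ### Generic facts on monomial maps -/

section Mono

variable {α F : Type*} [Field F]

/-- The pair preserves the subspace. -/
def MPres (C : Submodule F (α → F)) (σ : Equiv.Perm α) (c : α → Fˣ) : Prop :=
  ∀ x ∈ C, monomialMap σ c x ∈ C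

theorem mmap_comp (σ τ : Equiv.Perm α) (c d : α → Fˣ) (x : α → F) :
    monomialMap σ c (monomialMap τ d x) =
      monomialMap (σ * τ) (fun i => c i * d (σ.symm i)) x := by
  funext i
  simp only [monomialMap, Units.val_mul]
  rw [mul_assoc]
  rfl

theorem MPres_mul {C : Submodule F (α → F)} {σ τ : Equiv.Perm α} {c d : α → Fˣ}
    (h1 : MPres C σ c) (h2 : MPres C τ d) : MPres C (σ * τ) (fun i => c i * d (σ.symm i)) := by
  intro x hx
  rw [← mmap_comp]
  exact h1 _ (h2 x hx)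

theorem mmap_injective (σ : Equiv.Perm α) (c : α → Fˣ) :
    Function.Injective (monomialMap (F := F) σ c) := by
  intro x y h
  funext p
  have h1 := congrFun h (σ p)
  simp only [monomialMap, Equiv.symm_apply_apply] at h1
  exact (c (σ p)).isUnit.mul_left_cancel h1

theorem MPres_surj {C : Submodule F (α → F)} [Finite ↥C] {σ : Equiv.Perm α} {c : α → Fˣ}
    (h : MPres C σ c) {y : α → F} (hy : y ∈ C) : ∃ x ∈ C, monomialMap σ c x = y := by
  let f : ↥C → ↥C := fun x => ⟨monomialMap σ c x.1, h x.1 x.2⟩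
  have hf : Function.Injective f := by
    intro x x' hxx
    exact Subtype.ext (mmap_injective σ c (congrArg Subtype.val hxx))
  obtain ⟨x, hx⟩ := (Finite.injective_iff_surjective.mp hf) ⟨y, hy⟩
  exact ⟨x.1, x.2, congrArg Subtype.val hx⟩

theorem MPres_inv {C : Submodule F (α → F)} [Finite ↥C] {σ : Equiv.Perm α} {c : α → Fˣ}
    (h : MPres C σ c) : MPres C σ⁻¹ (fun i => (c (σ i))⁻¹) := by
  intro y hy
  obtain ⟨x, hx, rfl⟩ := MPres_surj h hy
  have e : monomialMap σ⁻¹ (fun i => (c (σ i))⁻¹) (monomialMap σ c x) = x := by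
    funext i
    have e1 : (σ⁻¹).symm i = σ i := rfl
    simp only [monomialMap, e1, Equiv.symm_apply_apply]
    rw [← mul_assoc, ← Units.val_mul, inv_mul_cancel, Units.val_one, one_mul]
  rw [e]
  exact hx

theorem MPres_smul {C : Submodule F (α → F)} {σ : Equiv.Perm α} {c : α → Fˣ}
    (h : MPres C σ c) (u : Fˣ) : MPres C σ (fun i => c i * u) := by
  intro x hx
  have e : monomialMap σ (fun i => c i * u) x = (u : F) • monomialMap σ c x := by
    funext i
    simp only [monomialMap, Units.val_mul, Pi.smul_apply, smul_eq_mul]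
    ring
  rw [e]
  exact Submodule.smul_mem _ _ (h x hx)

/-- Two scalings for the same permutation differ by a scaling preserving the subspace. -/
theorem MPres_quot {C : Submodule F (α → F)} [Finite ↥C] {σ : Equiv.Perm α} {c d : α → Fˣ}
    (hc : MPres C σ c) (hd : MPres C σ d) : MPres C 1 (fun i => d i * (c i)⁻¹) := by
  intro y hy
  obtain ⟨x, hx, rfl⟩ := MPres_surj hc hy
  have e : monomialMap 1 (fun i => d i * (c i)⁻¹) (monomialMap σ c x) = monomialMap σ d x := by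
    funext i
    have e1 : (1 : Equiv.Perm α).symm i = i := rfl
    simp only [monomialMap, Units.val_mul, e1]
    rw [mul_assoc, ← mul_assoc ((c i)⁻¹ : Fˣ).val, ← Units.val_mul, inv_mul_cancel,
      Units.val_one, one_mul]
  rw [e]
  exact hd x hx

theorem mmap_lin (σ : Equiv.Perm α) (c : α → Fˣ) (r s u : F) (x y z : α → F) :
    monomialMap σ c (r • x + s • y + u • z) =
      r • monomialMap σ c x + s • monomialMap σ c y + u • monomialMap σ c z := by
  funext i
  simp only [monomialMap, Pi.add_apply, Pi.smul_apply, smul_eq_mul]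
  ring

end Mono

/-! ### The bridge to an abstract field with four elements -/

section Bridge

variable {F : Type*} [Field F] [Fintype F]

theorem F4_two (hF : Fintype.card F = 4) : (2 : F) = 0 := by
  have h4 : (4 : F) = 0 := by
    have h := card_nsmul_eq_zero (G := F) (x := (1 : F))
    rw [hF] at h
    simpa using h
  have h22 : (2 : F) * 2 = 0 := by
    rw [← h4]
    norm_num
  exact mul_self_eq_zero.mp h22

/-- The element with given coordinates. -/
def eK (ω : F) (x : K4) : F := (x.1.val : F) + (x.2.val : F) * ω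

omit [Fintype F] in
theorem cast_mod2 (h2 : (2 : F) = 0) (n : ℕ) : ((n % 2 : ℕ) : F) = (n : F) := by
  have e : (n : F) = ((2 * (n / 2) + n % 2 : ℕ) : F) := by rw [Nat.div_add_mod]
  rw [e, Nat.cast_add, Nat.cast_mul, Nat.cast_ofNat, h2, zero_mul, zero_add]

omit [Fintype F] in
theorem eK_add (h2 : (2 : F) = 0) (ω : F) (x y : K4) : eK ω (x + y) = eK ω x + eK ω y := by
  unfold eK
  rw [Prod.fst_add, Prod.snd_add, ZMod.val_add, ZMod.val_add, cast_mod2 h2, cast_mod2 h2,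
    Nat.cast_add, Nat.cast_add]
  ring

omit [Fintype F] in
theorem eK_mul (h2 : (2 : F) = 0) (ω : F) (hω : ω ^ 2 + ω + 1 = 0) (x y : K4) :
    eK ω (mulK x y) = eK ω x * eK ω y := by
  unfold eK mulK
  simp only [ZMod.val_add, ZMod.val_mul, cast_mod2 h2, Nat.cast_add, Nat.cast_mul]
  linear_combination (-((x.2.val : F) * (y.2.val : F))) * hω +
    ((x.2.val : F) * (y.2.val : F) * (ω + 1)) * h2

omit [Fintype F] in
theorem eK_zero (ω : F) : eK ω 0 = 0 := by simp [eK]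

omit [Fintype F] in
theorem eK_eq_zero (ω : F) (hω : ω ^ 2 + ω + 1 = 0) {x : K4} (h : eK ω x = 0) : x = 0 := by
  have ha := ZMod.val_lt x.1
  have hb := ZMod.val_lt x.2
  unfold eK at h
  rcases (by omega : x.1.val = 0 ∨ x.1.val = 1) with ea | ea <;>
    rcases (by omega : x.2.val = 0 ∨ x.2.val = 1) with eb | eb
  · exact Prod.ext ((ZMod.val_eq_zero _).mp ea) ((ZMod.val_eq_zero _).mp eb)
  · exfalso
    rw [ea, eb] at h
    simp only [Nat.cast_zero, Nat.cast_one, zero_add, one_mul] at h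
    rw [h] at hω
    simp at hω
  · exfalso
    rw [ea, eb] at h
    simp at h
  · exfalso
    rw [ea, eb] at h
    simp only [Nat.cast_one, one_mul] at h
    have e : ω = -1 := by linear_combination h
    rw [e] at hω
    norm_num at hω

omit [Fintype F] in
theorem eK_inj (h2 : (2 : F) = 0) (ω : F) (hω : ω ^ 2 + ω + 1 = 0) :
    Function.Injective (eK ω) := by
  intro x y h
  apply K4_add_self
  apply eK_eq_zero ω hω
  rw [eK_add h2, h]
  have e : eK ω y + eK ω y = 2 * eK ω y := by ring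
  rw [e, h2, zero_mul]

theorem eK_bij (hF : Fintype.card F = 4) (ω : F) (hω : ω ^ 2 + ω + 1 = 0) :
    Function.Bijective (eK ω) := by
  rw [Fintype.bijective_iff_injective_and_card]
  exact ⟨eK_inj (F4_two hF) ω hω, by rw [hF]; decide⟩

omit [Fintype F] in
theorem eK_w (ω : F) : eK ω (0, 1) = ω := by
  have e1 : (1 : ZMod 2).val = 1 := rfl
  have e0 : (0 : ZMod 2).val = 0 := rfl
  show (((0 : ZMod 2).val : ℕ) : F) + (((1 : ZMod 2).val : ℕ) : F) * ω = ω
  rw [e1, e0, Nat.cast_zero, Nat.cast_one, zero_add, one_mul]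

omit [Fintype F] in
theorem eK_w2 (h2 : (2 : F) = 0) (ω : F) (hω : ω ^ 2 + ω + 1 = 0) : eK ω (1, 1) = ω ^ 2 := by
  have e1 : (1 : ZMod 2).val = 1 := rfl
  show (((1 : ZMod 2).val : ℕ) : F) + (((1 : ZMod 2).val : ℕ) : F) * ω = ω ^ 2
  rw [e1, Nat.cast_one, one_mul]
  linear_combination (-1 : F) * hω + (ω + 1) * h2

omit [Fintype F] in
theorem eK_one (ω : F) : eK ω (1, 0) = 1 := by
  have e1 : (1 : ZMod 2).val = 1 := rfl
  have e0 : (0 : ZMod 2).val = 0 := rfl
  show (((1 : ZMod 2).val : ℕ) : F) + (((0 : ZMod 2).val : ℕ) : F) * ω = 1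
  rw [e1, e0, Nat.cast_zero, Nat.cast_one, zero_mul, add_zero]

omit [Fintype F] in
theorem eK_hV (h2 : (2 : F) = 0) (ω : F) (hω : ω ^ 2 + ω + 1 = 0) (k : Fin 3) (i : Fin 6) :
    eK ω (hV k i) = (![![ω, ω ^ 2, ω ^ 2, ω, ω ^ 2, ω], ![ω ^ 2, ω, ω, ω ^ 2, ω ^ 2, ω],
      ![ω ^ 2, ω, ω ^ 2, ω, ω, ω ^ 2]] : Fin 3 → Fin 6 → F) k i := by
  fin_cases k <;> fin_cases i <;> first | exact eK_w ω | exact eK_w2 h2 ω hω

omit [Fintype F] in
theorem word_key (h2 : (2 : F) = 0) (ω : F) (hω : ω ^ 2 + ω + 1 = 0) (t : K43) :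
    (fun i => eK ω (wordK t i)) =
      eK ω t.1 • (![ω, ω ^ 2, ω ^ 2, ω, ω ^ 2, ω] : Fin 6 → F) +
      eK ω t.2.1 • (![ω ^ 2, ω, ω, ω ^ 2, ω ^ 2, ω] : Fin 6 → F) +
      eK ω t.2.2 • (![ω ^ 2, ω, ω ^ 2, ω, ω, ω ^ 2] : Fin 6 → F) := by
  funext i
  simp only [wordK, eK_add h2, eK_mul h2 ω hω, Pi.add_apply, Pi.smul_apply, smul_eq_mul]
  rw [eK_hV h2 ω hω 0 i, eK_hV h2 ω hω 1 i, eK_hV h2 ω hω 2 i]
  rfl

theorem mem_hex_iff (hF : Fintype.card F = 4) (ω : F) (hω : ω ^ 2 + ω + 1 = 0)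
    (x : Fin 6 → F) : x ∈ hexacode F ω ↔ ∃ t : K43, x = fun i => eK ω (wordK t i) := by
  have h2 := F4_two hF
  have hb := eK_bij hF ω hω
  unfold hexacode
  rw [Submodule.mem_span_triple]
  constructor
  · rintro ⟨r, s, u, rfl⟩
    obtain ⟨a, rfl⟩ := hb.2 r
    obtain ⟨b, rfl⟩ := hb.2 s
    obtain ⟨c, rfl⟩ := hb.2 u
    exact ⟨(a, b, c), (word_key h2 ω hω (a, b, c)).symm⟩
  · rintro ⟨t, rfl⟩
    exact ⟨eK ω t.1, eK ω t.2.1, eK ω t.2.2, (word_key h2 ω hω t).symm⟩

theorem word_inj (hF : Fintype.card F = 4) (ω : F) (hω : ω ^ 2 + ω + 1 = 0) :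
    Function.Injective (fun t : K43 => fun i => eK ω (wordK t i)) := by
  intro t t' h
  apply wordK_inj
  funext i
  exact eK_inj (F4_two hF) ω hω (congrFun h i)

theorem hex_card (hF : Fintype.card F = 4) (ω : F) (hω : ω ^ 2 + ω + 1 = 0) :
    Nat.card ↥(hexacode F ω) = 64 := by
  let Ψ : K43 → ↥(hexacode F ω) := fun t =>
    ⟨fun i => eK ω (wordK t i), (mem_hex_iff hF ω hω _).mpr ⟨t, rfl⟩⟩
  have hΨi : Function.Injective Ψ := by
    intro t t' h
    exact word_inj hF ω hω (congrArg Subtype.val h)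
  have hΨs : Function.Surjective Ψ := by
    rintro ⟨x, hx⟩
    obtain ⟨t, rfl⟩ := (mem_hex_iff hF ω hω x).mp hx
    exact ⟨t, rfl⟩
  rw [← Nat.card_congr (Equiv.ofBijective Ψ ⟨hΨi, hΨs⟩), Nat.card_eq_fintype_card]
  decide

omit [Fintype F] in
theorem hex_wt [DecidableEq F] (ω : F) (hω : ω ^ 2 + ω + 1 = 0) (t : K43) :
    (Finset.univ.filter fun i => eK ω (wordK t i) ≠ 0).card = wtK t := by
  unfold wtK
  congr 1
  ext i
  simp only [Finset.mem_filter, Finset.mem_univ, true_and]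
  constructor
  · intro h h0
    exact h (by rw [h0, eK_zero])
  · intro h h0
    exact h (eK_eq_zero ω hω h0)

theorem hex_ncard [DecidableEq F] (hF : Fintype.card F = 4) (ω : F) (hω : ω ^ 2 + ω + 1 = 0)
    (n : ℕ) : {x : Fin 6 → F | x ∈ hexacode F ω ∧
      (Finset.univ.filter fun i => x i ≠ 0).card = n}.ncard =
      (Finset.univ.filter fun t : K43 => wtK t = n).card := by
  have e : {x : Fin 6 → F | x ∈ hexacode F ω ∧
      (Finset.univ.filter fun i => x i ≠ 0).card = n} =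
      (fun t : K43 => fun i => eK ω (wordK t i)) ''
        ((Finset.univ.filter fun t : K43 => wtK t = n : Finset K43) : Set K43) := by
    ext x
    constructor
    · rintro ⟨hx, hw⟩
      obtain ⟨t, rfl⟩ := (mem_hex_iff hF ω hω x).mp hx
      refine ⟨t, ?_, rfl⟩
      rw [Finset.mem_coe, Finset.mem_filter]
      exact ⟨Finset.mem_univ _, by rw [← hex_wt ω hω t]; exact hw⟩
    · rintro ⟨t, ht, rfl⟩
      rw [Finset.mem_coe, Finset.mem_filter] at ht
      exact ⟨(mem_hex_iff hF ω hω _).mpr ⟨t, rfl⟩, by rw [hex_wt ω hω t]; exact ht.2⟩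
  rw [e, Set.ncard_image_of_injective _ (word_inj hF ω hω), Set.ncard_coe_finset]

theorem hex_wt_cases [DecidableEq F] (hF : Fintype.card F = 4) (ω : F)
    (hω : ω ^ 2 + ω + 1 = 0) (x : Fin 6 → F) (hx : x ∈ hexacode F ω) (hx0 : x ≠ 0) :
    (Finset.univ.filter fun i => x i ≠ 0).card = 4 ∨
      (Finset.univ.filter fun i => x i ≠ 0).card = 6 := by
  obtain ⟨t, rfl⟩ := (mem_hex_iff hF ω hω x).mp hx
  rw [hex_wt ω hω t]
  apply wtK_cases
  rintro rfl
  apply hx0
  funext i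
  rw [wordK_zero]
  exact eK_zero ω

/-! ### The monomial group -/

theorem hex_finite (hF : Fintype.card F = 4) (ω : F) (hω : ω ^ 2 + ω + 1 = 0) :
    Finite ↥(hexacode F ω) :=
  Nat.finite_of_card_ne_zero (by rw [hex_card hF ω hω]; norm_num)

/-- Coordinates of a scaling. -/
theorem exists_coord (hF : Fintype.card F = 4) (ω : F) (hω : ω ^ 2 + ω + 1 = 0)
    (c : Fin 6 → Fˣ) : ∃ d : K46, nz6 d ∧ ∀ i, eK ω (tup6 d i) = (c i : F) := by
  have hb := eK_bij hF ω hω
  choose d hd using fun i => hb.2 (c i : F)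
  refine ⟨(d 0, d 1, d 2, d 3, d 4, d 5), ?_, ?_⟩
  · intro i h0
    rw [← tup6_eta d] at h0
    have h1 := hd i
    rw [h0, eK_zero] at h1
    exact (c i).ne_zero h1.symm
  · intro i
    rw [← tup6_eta d]
    exact hd i

/-- A scaling with given nonzero coordinates. -/
theorem exists_scal (_hF : Fintype.card F = 4) (ω : F) (hω : ω ^ 2 + ω + 1 = 0)
    (d : K46) (hd : nz6 d) : ∃ c : Fin 6 → Fˣ, ∀ i, (c i : F) = eK ω (tup6 d i) :=
  ⟨fun i => Units.mk0 (eK ω (tup6 d i)) (fun h => hd i (eK_eq_zero ω hω h)), fun _ => rfl⟩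

theorem gen_mem (hF : Fintype.card F = 4) (ω : F) (hω : ω ^ 2 + ω + 1 = 0) (k : Fin 3) :
    (fun i => eK ω (hV k i)) ∈ hexacode F ω :=
  (mem_hex_iff hF ω hω _).mpr ⟨genT k, by rw [wordK_gen]⟩

/-- A monomial automorphism satisfies the parity checks on the images of the generators. -/
theorem pres_chk (hF : Fintype.card F = 4) (ω : F) (hω : ω ^ 2 + ω + 1 = 0)
    {σ : Equiv.Perm (Fin 6)} {c : Fin 6 → Fˣ} (h : MPres (hexacode F ω) σ c) {d : K46}
    (hd : ∀ i, eK ω (tup6 d i) = (c i : F)) (k : Fin 3) :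
    chkK (fun i => mulK (tup6 d i) (hV k (σ.symm i))) := by
  have h2 := F4_two hF
  obtain ⟨t', ht'⟩ := (mem_hex_iff hF ω hω _).mp (h _ (gen_mem hF ω hω k))
  have e : (fun i => mulK (tup6 d i) (hV k (σ.symm i))) = wordK t' := by
    funext i
    apply eK_inj h2 ω hω
    have h3 := congrFun ht' i
    simp only [monomialMap] at h3
    rw [eK_mul h2 ω hω, hd i]
    exact h3
  rw [e]
  exact chk_word t'

/-- A pair whose images of the generators are words is a monomial automorphism. -/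
theorem pres_of_words (hF : Fintype.card F = 4) (ω : F) (hω : ω ^ 2 + ω + 1 = 0)
    {σ : Equiv.Perm (Fin 6)} {c : Fin 6 → Fˣ} {d : K46}
    (hd : ∀ i, (c i : F) = eK ω (tup6 d i))
    (hw : ∀ k : Fin 3, ∃ t' : K43,
      (fun i => mulK (tup6 d i) (hV k (σ.symm i))) = wordK t') :
    MPres (hexacode F ω) σ c := by
  have h2 := F4_two hF
  have hg : ∀ k : Fin 3, monomialMap σ c (fun i => eK ω (hV k i)) ∈ hexacode F ω := by
    intro k
    obtain ⟨t', ht'⟩ := hw k
    refine (mem_hex_iff hF ω hω _).mpr ⟨t', ?_⟩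
    funext i
    have h3 := congrFun ht' i
    simp only [monomialMap]
    rw [hd i, ← eK_mul h2 ω hω, h3]
  intro x hx
  obtain ⟨t, rfl⟩ := (mem_hex_iff hF ω hω x).mp hx
  have e : (fun i => eK ω (wordK t i)) = eK ω t.1 • (fun i => eK ω (hV 0 i)) +
      eK ω t.2.1 • (fun i => eK ω (hV 1 i)) + eK ω t.2.2 • (fun i => eK ω (hV 2 i)) := by
    funext i
    simp only [wordK, eK_add h2, eK_mul h2 ω hω, Pi.add_apply, Pi.smul_apply, smul_eq_mul]
  rw [e, mmap_lin]
  exact add_mem (add_mem (Submodule.smul_mem _ _ (hg 0)) (Submodule.smul_mem _ _ (hg 1)))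
    (Submodule.smul_mem _ _ (hg 2))

/-- A scaling preserving the hexacode is a scalar. -/
theorem hex_diag (hF : Fintype.card F = 4) (ω : F) (hω : ω ^ 2 + ω + 1 = 0)
    (c : Fin 6 → Fˣ) (h : MPres (hexacode F ω) 1 c) (i j : Fin 6) : c i = c j := by
  obtain ⟨d, hnz, hd⟩ := exists_coord hF ω hω c
  have h1 := diag_chk d hnz (fun k => pres_chk hF ω hω h hd k) i j
  apply Units.ext
  rw [← hd i, ← hd j, h1]

/-- The transposition `(0 1)` has no scaling. -/
theorem hex_swap (hF : Fintype.card F = 4) (ω : F) (hω : ω ^ 2 + ω + 1 = 0)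
    (c : Fin 6 → Fˣ) : ¬ MPres (hexacode F ω) (Equiv.swap (0 : Fin 6) 1) c := by
  intro h
  obtain ⟨d, hnz, hd⟩ := exists_coord hF ω hω c
  exact swap_chk d hnz (fun k => pres_chk hF ω hω h hd k)

/-- The permutations admitting a scaling. -/
def HP (ω : F) : Set (Equiv.Perm (Fin 6)) := {σ | ∃ c : Fin 6 → Fˣ, MPres (hexacode F ω) σ c}

omit [Fintype F] in
theorem HP_mul (ω : F) {σ τ : Equiv.Perm (Fin 6)} (h1 : σ ∈ HP ω) (h2 : τ ∈ HP ω) :
    σ * τ ∈ HP ω := by
  obtain ⟨c, hc⟩ := h1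
  obtain ⟨d, hd⟩ := h2
  exact ⟨_, MPres_mul hc hd⟩

theorem HP_inv (hF : Fintype.card F = 4) (ω : F) (hω : ω ^ 2 + ω + 1 = 0)
    {σ : Equiv.Perm (Fin 6)} (h1 : σ ∈ HP ω) : σ⁻¹ ∈ HP ω := by
  have := hex_finite hF ω hω
  obtain ⟨c, hc⟩ := h1
  exact ⟨_, MPres_inv hc⟩

theorem HP_swap (hF : Fintype.card F = 4) (ω : F) (hω : ω ^ 2 + ω + 1 = 0) {a b : Fin 6}
    (hab : a ≠ b) : Equiv.swap a b * Equiv.swap (0 : Fin 6) 1 ∈ HP ω := by
  obtain ⟨hnz, hw⟩ := wit_ok a b hab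
  obtain ⟨c, hc⟩ := exists_scal hF ω hω (hW a b) hnz
  exact ⟨c, pres_of_words hF ω hω hc hw⟩

theorem HP_swaps (hF : Fintype.card F = 4) (ω : F) (hω : ω ^ 2 + ω + 1 = 0)
    {g h : Equiv.Perm (Fin 6)} (hg : g.IsSwap) (hh : h.IsSwap) : g * h ∈ HP ω := by
  obtain ⟨a, b, hab, rfl⟩ := hg
  obtain ⟨c, d, hcd, rfl⟩ := hh
  have e : Equiv.swap a b * Equiv.swap c d = (Equiv.swap a b * Equiv.swap (0 : Fin 6) 1) *
      (Equiv.swap c d * Equiv.swap (0 : Fin 6) 1)⁻¹ := by
    rw [mul_inv_rev, Equiv.swap_inv, Equiv.swap_inv, mul_assoc, ← mul_assoc (Equiv.swap 0 1),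
      Equiv.swap_mul_self, one_mul]
  rw [e]
  exact HP_mul ω (HP_swap hF ω hω hab) (HP_inv hF ω hω (HP_swap hF ω hω hcd))

/-- The permutation parts of the monomial group of the hexacode are the even permutations. -/
theorem HP_eq (hF : Fintype.card F = 4) (ω : F) (hω : ω ^ 2 + ω + 1 = 0) :
    HP ω = (alternatingGroup (Fin 6) : Set (Equiv.Perm (Fin 6))) := by
  have hone : (1 : Equiv.Perm (Fin 6)) ∈ HP ω := by
    have h := HP_swaps hF ω hω (g := Equiv.swap (0 : Fin 6) 1) (h := Equiv.swap (0 : Fin 6) 1)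
      ⟨0, 1, by decide, rfl⟩ ⟨0, 1, by decide, rfl⟩
    rw [Equiv.swap_mul_self] at h
    exact h
  have hsub : ∀ σ : Equiv.Perm (Fin 6), σ ∈ alternatingGroup (Fin 6) → σ ∈ HP ω := by
    intro σ hσ
    suffices hind : ∀ (n : ℕ) (l : List (Equiv.Perm (Fin 6))) (_ : ∀ g, g ∈ l → g.IsSwap)
        (_ : l.length = 2 * n), l.prod ∈ HP ω by
      obtain ⟨l, rfl, hl⟩ := Equiv.Perm.truncSwapFactors σ
      obtain ⟨n, hn⟩ := (Equiv.Perm.prod_list_swap_mem_alternatingGroup_iff_even_length hl).1 hσ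
      rw [← two_mul] at hn
      exact hind n l hl hn
    intro n
    induction n with
    | zero =>
      intro l _ hn
      rw [List.length_eq_zero_iff.1 hn, List.prod_nil]
      exact hone
    | succ n ih =>
      intro l hl hn
      rw [Nat.mul_succ] at hn
      obtain ⟨a, l, rfl⟩ := l.exists_of_length_succ hn
      rw [List.length_cons, Nat.succ_inj] at hn
      obtain ⟨b, l, rfl⟩ := l.exists_of_length_succ hn
      rw [List.length_cons, Nat.succ_inj] at hn
      rw [List.prod_cons, List.prod_cons, ← mul_assoc]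
      refine HP_mul ω (HP_swaps hF ω hω (hl a (by simp)) (hl b (by simp))) (ih l ?_ hn)
      intro g hg
      exact hl g (by simp [hg])
  ext σ
  constructor
  · intro hσ
    rw [SetLike.mem_coe, Equiv.Perm.mem_alternatingGroup]
    rcases Int.units_eq_one_or (Equiv.Perm.sign σ) with h | h
    · exact h
    · exfalso
      have hτ : σ⁻¹ * Equiv.swap (0 : Fin 6) 1 ∈ alternatingGroup (Fin 6) := by
        rw [Equiv.Perm.mem_alternatingGroup, map_mul, map_inv, h,
          Equiv.Perm.sign_swap (by decide)]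
        decide
      have h1 := HP_mul ω hσ (hsub _ hτ)
      rw [mul_inv_cancel_left] at h1
      obtain ⟨c, hc⟩ := h1
      exact hex_swap hF ω hω c hc
  · intro hσ
    exact hsub σ hσ

/-- The monomial group of the hexacode has order `1080`. -/
theorem hex_mono_card (hF : Fintype.card F = 4) (ω : F) (hω : ω ^ 2 + ω + 1 = 0) :
    Nat.card {f : Equiv.Perm (Fin 6) × (Fin 6 → Fˣ) //
      (∀ x ∈ hexacode F ω, monomialMap f.1 f.2 x ∈ hexacode F ω)} = 1080 := by
  have := hex_finite hF ω hω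
  have hmem : ∀ f : {f : Equiv.Perm (Fin 6) × (Fin 6 → Fˣ) //
      (∀ x ∈ hexacode F ω, monomialMap f.1 f.2 x ∈ hexacode F ω)},
      f.1.1 ∈ alternatingGroup (Fin 6) := by
    intro f
    have h : f.1.1 ∈ HP ω := ⟨f.1.2, f.2⟩
    rw [HP_eq hF ω hω] at h
    exact h
  let Φ : {f : Equiv.Perm (Fin 6) × (Fin 6 → Fˣ) //
      (∀ x ∈ hexacode F ω, monomialMap f.1 f.2 x ∈ hexacode F ω)} →
      ↥(alternatingGroup (Fin 6)) × Fˣ := fun f => (⟨f.1.1, hmem f⟩, f.1.2 0)
  have hinj : Function.Injective Φ := by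
    rintro ⟨⟨σ, c⟩, hc⟩ ⟨⟨σ', d⟩, hd⟩ hfg
    have h1 : σ = σ' := congrArg (fun z => (z.1 : Equiv.Perm (Fin 6))) hfg
    have h2 : c 0 = d 0 := congrArg Prod.snd hfg
    subst h1
    have h3 : c = d := by
      have hq := hex_diag hF ω hω _ (MPres_quot (C := hexacode F ω) hc hd)
      funext i
      have h4 : d i * (c i)⁻¹ = d 0 * (c 0)⁻¹ := hq i 0
      rw [h2, mul_inv_cancel, mul_inv_eq_one] at h4
      exact h4.symm
    subst h3
    rfl
  have hsurj : Function.Surjective Φ := by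
    rintro ⟨⟨σ, hσ⟩, u⟩
    have h : σ ∈ HP ω := by
      rw [HP_eq hF ω hω]
      exact hσ
    obtain ⟨c, hc⟩ := h
    refine ⟨⟨(σ, fun i => c i * ((c 0)⁻¹ * u)), MPres_smul hc _⟩, ?_⟩
    show ((⟨σ, _⟩ : ↥(alternatingGroup (Fin 6))), c 0 * ((c 0)⁻¹ * u)) = (⟨σ, hσ⟩, u)
    rw [mul_inv_cancel_left]
  rw [Nat.card_congr (Equiv.ofBijective Φ ⟨hinj, hsurj⟩), Nat.card_prod,
    nat_card_alternatingGroup, Nat.card_units, Nat.card_eq_fintype_card (α := F), hF,
    Nat.card_eq_fintype_card (α := Fin 6), Fintype.card_fin]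
  decide

end Bridge

end Cfsg.Agent.H34
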