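import Mathlib
import Cfsg.Prelude.Def_Transfer
import Cfsg.Agent.H9.J2.ES
import Cfsg.Agent.H32.J3CAbsK
import Cfsg.Agent.H51.J3CTabE8
import Cfsg.Agent.H51.J3CTabA5

/-!
Abstract part of statement S2135: from multiplication tables of a normal subgroup `Q` of order 32
and a complement `H` of order 60 of an element centraliser of order at most 1920 to its structure
`2^{1+4}_- : A₅`. Uses the pieces of helper32 (`cent_structure`) and helper51 (`noE8_of_table`,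
`a5_of_table`).
-/

set_option autoImplicit false

namespace Cfsg.Agent.H34.J3C

/-- two involutions with the same image modulo a centre of order 3 are equal -/
theorem invol_inj {G : Type*} [Group G] (hZ : Nat.card (Subgroup.center G) = 3) (a b : G)
    (ha : a ^ 2 = 1) (hb : b ^ 2 = 1)
    (h : (QuotientGroup.mk a : G ⧸ Subgroup.center G) = QuotientGroup.mk b) : a = b := by
  have hz : b⁻¹ * a ∈ Subgroup.center G := by
    rw [← QuotientGroup.eq_one_iff, QuotientGroup.mk_mul, QuotientGroup.mk_inv, h]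
    exact inv_mul_cancel _
  have hcomm : ∀ g : G, g * (b⁻¹ * a) = (b⁻¹ * a) * g := fun g =>
    Subgroup.mem_center_iff.mp hz g
  have h3 : (b⁻¹ * a) ^ 3 = 1 := by
    have := pow_card_eq_one' (G := Subgroup.center G) (x := ⟨b⁻¹ * a, hz⟩)
    rw [hZ] at this
    exact congrArg Subtype.val this
  have h2 : (b⁻¹ * a) ^ 2 = 1 := by
    have e : a = b * (b⁻¹ * a) := by group
    have e2 : a ^ 2 = b ^ 2 * (b⁻¹ * a) ^ 2 := by
      have hc := hcomm b
      calc a ^ 2 = (b * (b⁻¹ * a)) ^ 2 := by rw [← e]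
        _ = b * ((b⁻¹ * a) * b) * (b⁻¹ * a) := by rw [pow_two]; group
        _ = b * (b * (b⁻¹ * a)) * (b⁻¹ * a) := by rw [← hc]
        _ = b ^ 2 * (b⁻¹ * a) ^ 2 := by rw [pow_two, pow_two]; group
    rw [ha, hb, one_mul] at e2
    exact e2.symm
  have h1 : b⁻¹ * a = 1 := by
    have : (b⁻¹ * a) ^ 3 = (b⁻¹ * a) ^ 2 * (b⁻¹ * a) := pow_succ _ 2
    rw [h3, h2, one_mul] at this
    exact this.symm
  calc a = b * (b⁻¹ * a) := by group
    _ = b := by rw [h1, mul_one]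

/-- elementwise extraspecial data from a multiplication table -/
theorem esdata_of_table {P : Type*} [Group P] (e : Fin 32 → P) (m : Fin 32 → Fin 32 → Fin 32)
    (z0 : Fin 32) (he : Function.Bijective e) (h1 : e 0 = 1) (hm : ∀ a b, e a * e b = e (m a b))
    (hz0 : z0 ≠ 0) (hzc : ∀ a, m a z0 = m z0 a)
    (hcen : ∀ c, (∀ a, m a c = m c a) → c = 0 ∨ c = z0)
    (hsq : ∀ a, m a a = 0 ∨ m a a = z0) (hcomm : ∃ a b, m a b = m z0 (m b a)) :
    Cfsg.Agent.H9.J2.ESData P := by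
  obtain ⟨a0, b0, hab⟩ := hcomm
  refine ⟨e z0, ?_, ?_, ?_, ?_, ⟨e a0, e b0, ?_⟩, ?_⟩
  · intro h
    exact hz0 (he.1 (h.trans h1.symm))
  · intro a
    obtain ⟨a, rfl⟩ := he.2 a
    rw [hm, hm, hzc]
  · intro c hc
    obtain ⟨c, rfl⟩ := he.2 c
    have : ∀ a, m a c = m c a := by
      intro a
      apply he.1
      rw [← hm, ← hm]
      exact hc (e a)
    rcases hcen c this with rfl | rfl
    · left; exact h1
    · right; rfl
  · intro a
    obtain ⟨a, rfl⟩ := he.2 a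
    rw [hm]
    rcases hsq a with h | h
    · left; rw [h, h1]
    · right; rw [h]
  · have e1 : e a0 * e b0 = e z0 * (e b0 * e a0) := by
      rw [hm, hm, hm, hab]
    calc e a0 * e b0 * (e a0)⁻¹ * (e b0)⁻¹ = (e a0 * e b0) * ((e a0)⁻¹ * (e b0)⁻¹) := by group
      _ = e z0 * (e b0 * e a0) * ((e a0)⁻¹ * (e b0)⁻¹) := by rw [e1]
      _ = e z0 := by group
  · rw [← Nat.card_congr (Equiv.ofBijective e he), Nat.card_fin]

/-- the structure of a centraliser from tables -/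
theorem cent_main {J : Type*} [Group J] [Finite J] (t : J)
    (eq : Fin 32 → J) (eh : Fin 60 → J) (qm : Fin 32 → Fin 32 → Fin 32)
    (hm : Fin 60 → Fin 60 → Fin 60) (act : Fin 60 → Fin 32 → Fin 32)
    (hq1 : eq 0 = 1) (hqm : ∀ a a', eq a * eq a' = eq (qm a a'))
    (hh1 : eh 0 = 1) (hhm : ∀ b b', eh b * eh b' = eh (hm b b'))
    (hact : ∀ b a, eh b * eq a = eq (act b a) * eh b)
    (hqinj : Function.Injective eq) (hhinj : Function.Injective eh)
    (hdisj : ∀ a b, eq a = eh b → a = 0)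
    (hqt : ∀ a, eq a * t = t * eq a) (hht : ∀ b, eh b * t = t * eh b)
    (hC : Nat.card (Subgroup.centralizer ({t} : Set J)) ≤ 1920)
    (z0 : Fin 32) (hz0 : z0 ≠ 0) (hzc : ∀ a, qm a z0 = qm z0 a)
    (hcen : ∀ c, (∀ a, qm a c = qm c a) → c = 0 ∨ c = z0)
    (hsq : ∀ a, qm a a = 0 ∨ qm a a = z0) (hcomm : ∃ a b, qm a b = qm z0 (qm b a))
    (hE8 : ∀ a b c, qm a a = 0 → qm b b = 0 → qm c c = 0 → qm a b = qm b a → qm a c = qm c a →
      qm b c = qm c b → a = 0 ∨ b = 0 ∨ a = b ∨ c = 0 ∨ c = a ∨ c = b ∨ c = qm a b)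
    (b1 b2 : Fin 60) (hb1 : b1 ≠ 0) (h51 : hm b1 (hm b1 (hm b1 (hm b1 b1))) = 0)
    (h52 : hm b2 (hm b2 (hm b2 (hm b2 b2))) = 0)
    (hb2 : b2 ≠ 0 ∧ b2 ≠ b1 ∧ b2 ≠ hm b1 b1 ∧ b2 ≠ hm b1 (hm b1 b1) ∧
      b2 ≠ hm b1 (hm b1 (hm b1 b1))) :
    ∃ (Q : Subgroup ↥(Subgroup.centralizer ({t} : Set J))) (_ : Q.Normal),
      Cfsg.IsExtraspecial 2 Q ∧ Nat.card Q = 32 ∧
      (∀ E : Subgroup Q, Cfsg.IsElementaryAbelian 2 E → Nat.card E ≤ 2 ^ 2) ∧
      (∃ H : Subgroup ↥(Subgroup.centralizer ({t} : Set J)), Q.IsComplement' H) ∧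
      Nonempty (↥(Subgroup.centralizer ({t} : Set J)) ⧸ Q ≃* ↥(alternatingGroup (Fin 5))) := by
  obtain ⟨Q, H, hQn, fq, fh, hfq, hfq1, hfqm, hfh, hfh1, hfhm, hcompl⟩ :=
    Cfsg.Agent.H32.J3C.cent_structure t eq eh qm hm act hq1 hqm hh1 hhm hact hqinj hhinj hdisj
      hqt hht hC
  have hes := esdata_of_table fq qm z0 hfq hfq1 hfqm hz0 hzc hcen hsq hcomm
  refine ⟨Q, hQn, hes.extraspecial, hes.card, ?_, ⟨H, hcompl⟩, ?_⟩
  · exact fun E hE => Cfsg.Agent.H51.J3C.noE8_of_table fq qm hfq hfq1 hfqm hE8 E hE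
  · obtain ⟨ψ⟩ := Cfsg.Agent.H51.J3C.a5_of_table fh hm hfh hfh1 hfhm b1 b2 hb1 h51 h52 hb2
    exact ⟨(hcompl.symm.QuotientMulEquiv).trans ψ⟩

end Cfsg.Agent.H34.J3C
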