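import Cfsg.Agent.H34.J3CData

/-!
Kernel-evaluated certificate checks for the involution centraliser of `J₃` (statement S2135).
-/

set_option autoImplicit false

namespace Cfsg.Agent.H34.J3C

open Cfsg.Agent.H10.F4 Cfsg.Agent.H10.J3 Cfsg.Agent.H6.J3O

/-- entry `a` of the table of `Q` -/
def Qent (a : Nat) : Nat := Nat.land (Nat.shiftRight nQ (Nat.mul (nat_lit 256) a)) M256
/-- the code of element `a` of `Q` -/
def cQ (a : Nat) : Nat := codeOf (Qent a)
/-- the index of its inverse -/
def Qiv (a : Nat) : Nat := fld (Qent a) (nat_lit 162) (nat_lit 31)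
/-- where it sifts to -/
def Qsi (a : Nat) : Nat := fld (Qent a) (nat_lit 169) (nat_lit 32767)
/-- where it sifts to -/
def Qse (a : Nat) : Nat := fld (Qent a) (nat_lit 184) (nat_lit 8191)
/-- the index of a product in `Q` -/
def QM (a a' : Nat) : Nat :=
  fld nQM (Nat.mul (nat_lit 5) (Nat.add (Nat.mul (nat_lit 32) a) a')) (nat_lit 31)

/-- entry `b` of the table of `H` -/
def Hent (b : Nat) : Nat := Nat.land (Nat.shiftRight nH (Nat.mul (nat_lit 256) b)) M256
/-- the code of element `b` of `H` -/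
def cH (b : Nat) : Nat := codeOf (Hent b)
/-- the index of its inverse -/
def Hiv (b : Nat) : Nat := fld (Hent b) (nat_lit 162) (nat_lit 63)
/-- where it sifts to -/
def Hsi (b : Nat) : Nat := fld (Hent b) (nat_lit 169) (nat_lit 32767)
/-- where it sifts to -/
def Hse (b : Nat) : Nat := fld (Hent b) (nat_lit 184) (nat_lit 8191)
/-- the index of a product in `H` -/
def HM (b b' : Nat) : Nat :=
  fld nHM (Nat.mul (nat_lit 6) (Nat.add (Nat.mul (nat_lit 60) b) b')) (nat_lit 63)
/-- the index of the conjugate of element `a` of `Q` by element `b` of `H` -/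
def ACT (b a : Nat) : Nat :=
  fld nACT (Nat.mul (nat_lit 5) (Nat.add (Nat.mul (nat_lit 32) b) a)) (nat_lit 31)

/-- entry `j` of the table of parent pointers -/
def Pent (j : Nat) : Nat := fld nPAR (Nat.mul (nat_lit 24) j) (nat_lit 16777215)
/-- the shift of the parent -/
def Ppi (j : Nat) : Nat := fld (Pent j) (nat_lit 0) (nat_lit 31)
/-- the parent -/
def Ppj (j : Nat) : Nat := fld (Pent j) (nat_lit 5) (nat_lit 2047)
/-- the level -/
def Plv (j : Nat) : Nat := fld (Pent j) (nat_lit 16) (nat_lit 7)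

/-- entry `k` of the sorted list of involutions -/
def Sent (k : Nat) : Nat := fld nSRT (Nat.mul (nat_lit 16) k) (nat_lit 65535)
/-- its shift -/
def Ssi (k : Nat) : Nat := fld (Sent k) (nat_lit 0) (nat_lit 31)
/-- its representative -/
def Ssj (k : Nat) : Nat := fld (Sent k) (nat_lit 5) (nat_lit 2047)

/-- the check for element `a` of `Q` -/
noncomputable def chkQ (a : Nat) : Bool :=
  allFrom (fun a' => Nat.beq (mulP (cQ a) (cQ a')) (cQ (QM a a'))) 0 32 &&
  Nat.beq (mulP (cQ a) (cQ (Qiv a))) ONE && Nat.beq (mulP (cQ (Qiv a)) (cQ a)) ONE &&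
  Nat.blt (Qsi a) (nat_lit 23256) && Nat.blt (Qse a) (nat_lit 6480) &&
  Nat.beq (mulP (Tc tT (Qsi a)) (Ec tE (Qse a))) (cQ a) &&
  Nat.beq (mulP (cQ a) cY) (mulP cY (cQ a)) &&
  allFrom (fun a' => !(isScal (mulP (cQ a) (cQ (Qiv a')))) || Nat.beq a a') 0 32

/-- the check for element `b` of `H` -/
noncomputable def chkH (b : Nat) : Bool :=
  allFrom (fun b' => Nat.blt (HM b b') (nat_lit 60) &&
    Nat.beq (mulP (cH b) (cH b')) (cH (HM b b'))) 0 60 &&
  Nat.blt (Hiv b) (nat_lit 60) &&
  Nat.beq (mulP (cH b) (cH (Hiv b))) ONE && Nat.beq (mulP (cH (Hiv b)) (cH b)) ONE &&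
  Nat.blt (Hsi b) (nat_lit 23256) && Nat.blt (Hse b) (nat_lit 6480) &&
  Nat.beq (mulP (Tc tT (Hsi b)) (Ec tE (Hse b))) (cH b) &&
  Nat.beq (mulP (cH b) cY) (mulP cY (cH b)) &&
  allFrom (fun b' => !(isScal (mulP (cH b) (cH (Hiv b')))) || Nat.beq b b') 0 60 &&
  allFrom (fun a => Nat.beq (mulP (cH b) (cQ a)) (mulP (cQ (ACT b a)) (cH b)) &&
    (!(isScal (mulP (cQ a) (cH (Hiv b)))) || Nat.beq a (nat_lit 0))) 0 32

/-- the check for the parent pointer of representative `j` -/
noncomputable def chkPar (j : Nat) : Bool :=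
  Nat.beq j (nat_lit 276) ||
    (Nat.blt (Ppi j) (nat_lit 19) && Nat.blt (Ppj j) (nat_lit 1377) &&
      Nat.beq (Rcj (Ppi j) (Ppj j)) j && Nat.blt (Plv (Ppj j)) (Plv j))

/-- the code of entry `k` of the sorted list -/
noncomputable def skey (k : Nat) : Nat := codeOf (conjC (Ssi k) (Ssj k))

/-- the check for entry `k` of the sorted list -/
noncomputable def chkSrt (k : Nat) : Bool :=
  Nat.blt (Ssi k) (nat_lit 19) && Nat.blt (Ssj k) (nat_lit 1377) &&
    (Nat.beq (k + 1) (nat_lit 26163) || Nat.blt (skey k) (skey (k + 1)))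

theorem chkQ_0 : allFrom chkQ 0 32 = true := by decide +kernel

theorem chkH_0 : allFrom chkH 0 60 = true := by decide +kernel

theorem chkPar_0 : allFrom chkPar 0 1377 = true := by decide +kernel

theorem cQ_zero : cQ 0 = ONE := by decide +kernel
theorem cQ_one : cQ 1 = cY := by decide +kernel
theorem cH_zero : cH 0 = ONE := by decide +kernel

end Cfsg.Agent.H34.J3C
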