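import Cfsg.Agent.H34.J3CSrt
import Cfsg.Agent.H34.J3CAbs
import Cfsg.Agent.H6.J3Out
import Cfsg.Agent.H32.J3COrb
import Cfsg.Agent.H24.J3CLift

/-!
Statement S2135: `J₃` has one class of involutions, and the centraliser of an involution has
shape `2^{1+4}_- : A₅`.

Built on helper10's code library for `3·J₃` and helper6's list of all involutions
(`Cfsg.Agent.H6.J3O.invol_G`).
-/

set_option autoImplicit false
set_option linter.unusedSectionVars false

namespace Cfsg.Agent.H34.J3C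

open Cfsg.Agent.H10.F4 Cfsg.Agent.H10.J3 Cfsg.Agent.H6.J3O Cfsg.Spor
open scoped MatrixGroups
open Matrix

/-! ### Unpacking the checks -/

theorem chkQ_sound (a : Nat) (ha : a < 32) :
    (∀ a', a' < 32 → mulP (cQ a) (cQ a') = cQ (QM a a')) ∧
    mulP (cQ a) (cQ (Qiv a)) = ONE ∧ mulP (cQ (Qiv a)) (cQ a) = ONE ∧
    Qsi a < 23256 ∧ Qse a < 6480 ∧ mulP (Tc tT (Qsi a)) (Ec tE (Qse a)) = cQ a ∧
    mulP (cQ a) cY = mulP cY (cQ a) ∧
    (∀ a', a' < 32 → isScal (mulP (cQ a) (cQ (Qiv a'))) = true → a = a') := by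
  have hc := allFrom_sound _ _ _ chkQ_0 a (by omega) (by omega)
  simp only [chkQ, Bool.and_eq_true, Nat.blt_eq, Nat.beq_eq] at hc
  obtain ⟨⟨⟨⟨⟨⟨⟨h1, h2⟩, h3⟩, h4⟩, h5⟩, h6⟩, h7⟩, h8⟩ := hc
  refine ⟨fun a' ha' => ?_, h2, h3, h4, h5, h6, h7, fun a' ha' hs => ?_⟩
  · have := allFrom_sound _ _ _ h1 a' (by omega) (by omega)
    exact Nat.eq_of_beq_eq_true this
  · have := allFrom_sound _ _ _ h8 a' (by omega) (by omega)
    simp only [Bool.or_eq_true, Bool.not_eq_true', Nat.beq_eq] at this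
    rcases this with h | h
    · rw [hs] at h; exact absurd h (by decide)
    · exact h

theorem chkH_sound (b : Nat) (hb : b < 60) :
    (∀ b', b' < 60 → HM b b' < 60 ∧ mulP (cH b) (cH b') = cH (HM b b')) ∧
    Hiv b < 60 ∧
    mulP (cH b) (cH (Hiv b)) = ONE ∧ mulP (cH (Hiv b)) (cH b) = ONE ∧
    Hsi b < 23256 ∧ Hse b < 6480 ∧ mulP (Tc tT (Hsi b)) (Ec tE (Hse b)) = cH b ∧
    mulP (cH b) cY = mulP cY (cH b) ∧
    (∀ b', b' < 60 → isScal (mulP (cH b) (cH (Hiv b'))) = true → b = b') ∧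
    (∀ a, a < 32 → mulP (cH b) (cQ a) = mulP (cQ (ACT b a)) (cH b) ∧
      (isScal (mulP (cQ a) (cH (Hiv b))) = true → a = 0)) := by
  have hc := allFrom_sound _ _ _ chkH_0 b (by omega) (by omega)
  simp only [chkH, Bool.and_eq_true, Nat.blt_eq, Nat.beq_eq] at hc
  obtain ⟨⟨⟨⟨⟨⟨⟨⟨⟨h1, h2⟩, h3⟩, h4⟩, h5⟩, h6⟩, h7⟩, h8⟩, h9⟩, h10⟩ := hc
  refine ⟨fun b' hb' => ?_, h2, h3, h4, h5, h6, h7, h8, fun b' hb' hs => ?_, fun a ha => ?_⟩
  · have := allFrom_sound _ _ _ h1 b' (by omega) (by omega)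
    simp only [Bool.and_eq_true, Nat.blt_eq, Nat.beq_eq] at this
    exact this
  · have := allFrom_sound _ _ _ h9 b' (by omega) (by omega)
    simp only [Bool.or_eq_true, Bool.not_eq_true', Nat.beq_eq] at this
    rcases this with h | h
    · rw [hs] at h; exact absurd h (by decide)
    · exact h
  · have := allFrom_sound _ _ _ h10 a (by omega) (by omega)
    simp only [Bool.and_eq_true, Bool.or_eq_true, Bool.not_eq_true', Nat.beq_eq] at this
    refine ⟨this.1, fun hs => ?_⟩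
    rcases this.2 with h | h
    · rw [hs] at h; exact absurd h (by decide)
    · exact h

theorem chkPar_sound (j : Nat) (hj : j < 1377) :
    j = 276 ∨ (Ppi j < 19 ∧ Ppj j < 1377 ∧ Rcj (Ppi j) (Ppj j) = j ∧ Plv (Ppj j) < Plv j) := by
  have hc := allFrom_sound _ _ _ chkPar_0 j (by omega) (by omega)
  simp only [chkPar, Bool.or_eq_true, Bool.and_eq_true, Nat.blt_eq, Nat.beq_eq] at hc
  rcases hc with h | h
  · exact Or.inl h
  · exact Or.inr ⟨h.1.1.1, h.1.1.2, h.1.2, h.2⟩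

theorem chkSrt_sound (k : Nat) (hk : k < 26163) :
    Ssi k < 19 ∧ Ssj k < 1377 ∧ (k + 1 < 26163 → skey k < skey (k + 1)) := by
  have hc := chkSrt_all k hk
  simp only [chkSrt, Bool.or_eq_true, Bool.and_eq_true, Nat.blt_eq, Nat.beq_eq] at hc
  refine ⟨hc.1.1, hc.1.2, fun hlt => ?_⟩
  rcases hc.2 with h | h
  · omega
  · exact h

section

variable {F : Type*} [Field F] [Finite F] {ω : F} (h : Cfsg.Agent.H10.F4.IsF4 F ω)

/-! ### The elements of `Q` and `H` -/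

theorem exQ (a : Fin 32) : ∃ g : G h, Rep ω (g : GL F9 F) (cQ a) := by
  obtain ⟨-, h2, h3, h4, h5, h6, -, -⟩ := chkQ_sound a a.2
  have hr := rep_mkGL h (cQ a) (cQ (Qiv a)) h2 h3
  exact ⟨⟨mkGL h (cQ a) (cQ (Qiv a)) h2 h3,
    gen_mem_G h _ (cQ a) (Qsi a, Qse a) hr h4 h5 h6⟩, hr⟩

/-- element `a` of `Q` -/
noncomputable def gQ (a : Fin 32) : G h := Classical.choose (exQ h a)

theorem rep_gQ (a : Fin 32) : Rep ω (gQ h a : GL F9 F) (cQ a) := Classical.choose_spec (exQ h a)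

theorem exH (b : Fin 60) : ∃ g : G h, Rep ω (g : GL F9 F) (cH b) := by
  obtain ⟨-, -, h2, h3, h4, h5, h6, -, -, -⟩ := chkH_sound b b.2
  have hr := rep_mkGL h (cH b) (cH (Hiv b)) h2 h3
  exact ⟨⟨mkGL h (cH b) (cH (Hiv b)) h2 h3,
    gen_mem_G h _ (cH b) (Hsi b, Hse b) hr h4 h5 h6⟩, hr⟩

/-- element `b` of `H` -/
noncomputable def gH (b : Fin 60) : G h := Classical.choose (exH h b)

theorem rep_gH (b : Fin 60) : Rep ω (gH h b : GL F9 F) (cH b) := Classical.choose_spec (exH h b)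

/-- the multiplication table of `Q` -/
def qmF (a a' : Fin 32) : Fin 32 := ⟨QM a a', Nat.lt_succ_of_le (fld_le _ _ _)⟩

/-- the multiplication table of `H` -/
def hmF (b b' : Fin 60) : Fin 60 := ⟨HM b b' % 60, Nat.mod_lt _ (by norm_num)⟩

/-- the action of `H` on `Q` -/
def actF (b : Fin 60) (a : Fin 32) : Fin 32 := ⟨ACT b a, Nat.lt_succ_of_le (fld_le _ _ _)⟩

theorem hmF_val (b b' : Fin 60) : (hmF b b').val = HM b b' :=
  Nat.mod_eq_of_lt ((chkH_sound b b.2).1 b' b'.2).1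

theorem ext_rep {g g' : G h} {P : Nat} (hg : Rep ω (g : GL F9 F) P)
    (hg' : Rep ω (g' : GL F9 F) P) : g = g' := Subtype.ext (Rep.unique hg hg')

theorem yh_sq : yh h * yh h = 1 := by
  refine ext_rep h (Rep.mul h (rep_yG h) (rep_yG h)) ?_
  rw [cY_sq]
  exact Rep.one

theorem gQ_zero : gQ h 0 = 1 := by
  refine ext_rep h (rep_gQ h 0) ?_
  show Rep ω _ (cQ 0)
  rw [cQ_zero]
  exact Rep.one

theorem gH_zero : gH h 0 = 1 := by
  refine ext_rep h (rep_gH h 0) ?_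
  show Rep ω _ (cH 0)
  rw [cH_zero]
  exact Rep.one

theorem gQ_mul (a a' : Fin 32) : gQ h a * gQ h a' = gQ h (qmF a a') := by
  refine ext_rep h (Rep.mul h (rep_gQ h a) (rep_gQ h a')) ?_
  rw [(chkQ_sound a a.2).1 a' a'.2]
  exact rep_gQ h (qmF a a')

theorem gH_mul (b b' : Fin 60) : gH h b * gH h b' = gH h (hmF b b') := by
  refine ext_rep h (Rep.mul h (rep_gH h b) (rep_gH h b')) ?_
  rw [((chkH_sound b b.2).1 b' b'.2).2, ← hmF_val]
  exact rep_gH h (hmF b b')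

theorem gH_gQ (b : Fin 60) (a : Fin 32) : gH h b * gQ h a = gQ h (actF b a) * gH h b := by
  refine ext_rep h (Rep.mul h (rep_gH h b) (rep_gQ h a)) ?_
  rw [((chkH_sound b b.2).2.2.2.2.2.2.2.2.2 a a.2).1]
  exact Rep.mul h (rep_gQ h (actF b a)) (rep_gH h b)

theorem gQ_yh (a : Fin 32) : gQ h a * yh h = yh h * gQ h a := by
  refine ext_rep h (Rep.mul h (rep_gQ h a) (rep_yG h)) ?_
  rw [(chkQ_sound a a.2).2.2.2.2.2.2.1]
  exact Rep.mul h (rep_yG h) (rep_gQ h a)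

theorem gH_yh (b : Fin 60) : gH h b * yh h = yh h * gH h b := by
  refine ext_rep h (Rep.mul h (rep_gH h b) (rep_yG h)) ?_
  rw [(chkH_sound b b.2).2.2.2.2.2.2.2.1]
  exact Rep.mul h (rep_yG h) (rep_gH h b)

theorem pi_eq_iff (g g' : G h) : pi h g = pi h g' ↔ pi h (g * g'⁻¹) = 1 := by
  rw [map_mul, map_inv, mul_inv_eq_one]

theorem pi_gQ_inj : Function.Injective (fun a : Fin 32 => pi h (gQ h a)) := by
  intro a a' e
  have e1 : pi h (gQ h a * (gQ h a')⁻¹) = 1 := (pi_eq_iff h _ _).mp e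
  have hr : Rep ω ((gQ h a * (gQ h a')⁻¹ : G h) : GL F9 F) (mulP (cQ a) (cQ (Qiv a'))) :=
    Rep.mul h (rep_gQ h a) (rep_inv h (rep_gQ h a') (chkQ_sound a' a'.2).2.1)
  exact Fin.ext ((chkQ_sound a a.2).2.2.2.2.2.2.2 a' a'.2 ((pi_eq_one_iff h _ hr).mp e1))

theorem pi_gH_inj : Function.Injective (fun b : Fin 60 => pi h (gH h b)) := by
  intro b b' e
  have e1 : pi h (gH h b * (gH h b')⁻¹) = 1 := (pi_eq_iff h _ _).mp e
  have hr : Rep ω ((gH h b * (gH h b')⁻¹ : G h) : GL F9 F) (mulP (cH b) (cH (Hiv b'))) :=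
    Rep.mul h (rep_gH h b) (rep_inv h (rep_gH h b') (chkH_sound b' b'.2).2.2.1)
  exact Fin.ext ((chkH_sound b b.2).2.2.2.2.2.2.2.2.1 b' b'.2 ((pi_eq_one_iff h _ hr).mp e1))

theorem pi_gQ_gH (a : Fin 32) (b : Fin 60) (e : pi h (gQ h a) = pi h (gH h b)) : a = 0 := by
  have e1 : pi h (gQ h a * (gH h b)⁻¹) = 1 := (pi_eq_iff h _ _).mp e
  have hr : Rep ω ((gQ h a * (gH h b)⁻¹ : G h) : GL F9 F) (mulP (cQ a) (cH (Hiv b))) :=
    Rep.mul h (rep_gQ h a) (rep_inv h (rep_gH h b) (chkH_sound b b.2).2.2.1)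
  exact Fin.ext (((chkH_sound b b.2).2.2.2.2.2.2.2.2.2 a a.2).2 ((pi_eq_one_iff h _ hr).mp e1))

/-! ### The representatives are conjugate to `y` -/

/-- the second generator in the group -/
def xh' : G h := ⟨gX' h, gX'_mem h⟩

theorem rep_conj {g : G h} {j : ℕ} (i : ℕ) (hi : i < 19) (hg : Rep ω (g : GL F9 F) (cR j)) :
    Rep ω ((xh h ^ i * g * (xh h ^ i)⁻¹ : G h) : GL F9 F) (conjC i j) := by
  have h1 := Rep.mul h (Rep.mul h (rep_XP h i) hg) (rep_XPi h i)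
  rw [Nat.mod_eq_of_lt hi] at h1
  exact h1

theorem rep_unconj {g : G h} {i j : ℕ} (hi : i < 19) (hg : Rep ω (g : GL F9 F) (conjC i j)) :
    Rep ω (((xh h ^ i)⁻¹ * g * xh h ^ i : G h) : GL F9 F) (cR j) := by
  have e : ((g : GL F9 F) : Matrix F9 F9 F) =
      ((gX h ^ i : GL F9 F) : Matrix F9 F9 F) * msem9 ω (cR j) *
        (((gX h ^ i)⁻¹ : GL F9 F) : Matrix F9 F9 F) := by
    have := msem9_conjC h i j
    rw [Nat.mod_eq_of_lt hi] at this
    rw [← this]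
    exact hg
  show (((gX h ^ i)⁻¹ * (g : GL F9 F) * gX h ^ i : GL F9 F) : Matrix F9 F9 F) = _
  rw [Units.val_mul, Units.val_mul, e, mul_assoc _ (msem9 ω (cR j)),
    Units.inv_mul_cancel_left, Units.inv_mul_cancel_right]

theorem exR : ∀ n j : ℕ, j < 1377 → Plv j ≤ n →
    ∃ g : G h, Rep ω (g : GL F9 F) (cR j) ∧ ∃ u : G h, u * g * u⁻¹ = yh h := by
  intro n
  induction n with
  | zero =>
    intro j hj hl
    rcases chkPar_sound j hj with rfl | ⟨-, -, -, h4⟩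
    · exact ⟨yh h, by rw [cR_y]; exact rep_yG h, 1, by group⟩
    · omega
  | succ n ih =>
    intro j hj hl
    rcases chkPar_sound j hj with rfl | ⟨h1, h2, h3, h4⟩
    · exact ⟨yh h, by rw [cR_y]; exact rep_yG h, 1, by group⟩
    · obtain ⟨g0, hg0, u0, hu0⟩ := ih (Ppj j) h2 (by omega)
      obtain ⟨c1, c2, c3⟩ := chkS_sound (Ppj j) h2 (Ppi j) h1
      rw [h3] at c3
      have hg1 := rep_conj h (Ppi j) h1 hg0
      have hg2 : Rep ω ((xh' h * (xh h ^ Ppi j * g0 * (xh h ^ Ppi j)⁻¹) * (xh' h)⁻¹ : G h) :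
          GL F9 F) (conjC (Rci (Ppi j) (Ppj j)) j) := by
        rw [← c3]
        exact Rep.mul h (Rep.mul h (rep_gX' h) hg1) (rep_inv h (rep_gX' h) cXpi_inv)
      have hg3 := rep_unconj h c1 hg2
      refine ⟨_, hg3, u0 * ((xh h ^ Rci (Ppi j) (Ppj j))⁻¹ * xh' h * xh h ^ Ppi j)⁻¹, ?_⟩
      rw [← hu0]
      group

/-- representative `j` in the group -/
noncomputable def gR (j : Fin 1377) : G h := Classical.choose (exR h (Plv j) j j.2 le_rfl)

theorem rep_gR (j : Fin 1377) : Rep ω (gR h j : GL F9 F) (cR j) :=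
  (Classical.choose_spec (exR h (Plv j) j j.2 le_rfl)).1

theorem gR_conj (j : Fin 1377) : ∃ u : G h, u * gR h j * u⁻¹ = yh h :=
  (Classical.choose_spec (exR h (Plv j) j j.2 le_rfl)).2

/-- every involution of `3·J₃` is conjugate to `y` -/
theorem invol_conj (g : G h) (hg2 : g ^ 2 = 1) (hg1 : g ≠ 1) : ∃ u : G h, u * yh h * u⁻¹ = g := by
  have hS := invol_G h (g : GL F9 F) g.2 (by rw [← Subgroup.coe_pow, hg2]; rfl)
    (fun e => hg1 (Subtype.ext e))
  obtain ⟨i, j, hi, hj, hr⟩ := rep_of_mem_SS h hS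
  obtain ⟨u, hu⟩ := gR_conj h ⟨j, hj⟩
  have e : g = xh h ^ i * gR h ⟨j, hj⟩ * (xh h ^ i)⁻¹ :=
    ext_rep h hr (rep_conj h i hi (rep_gR h ⟨j, hj⟩))
  refine ⟨xh h ^ i * u⁻¹, ?_⟩
  rw [e, ← hu]
  group

/-! ### The class of `y` has 26163 elements -/

/-- the `k`-th involution -/
noncomputable def gS (k : Fin 26163) : G h :=
  xh h ^ Ssi k * gR h ⟨Ssj k, (chkSrt_sound k k.2).2.1⟩ * (xh h ^ Ssi k)⁻¹

theorem rep_gS (k : Fin 26163) : Rep ω (gS h k : GL F9 F) (conjC (Ssi k) (Ssj k)) :=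
  rep_conj h (Ssi k) (chkSrt_sound k k.2).1 (rep_gR h ⟨Ssj k, (chkSrt_sound k k.2).2.1⟩)

theorem gS_conj (k : Fin 26163) : ∃ u : G h, gS h k = u * yh h * u⁻¹ := by
  obtain ⟨u, hu⟩ := gR_conj h ⟨Ssj k, (chkSrt_sound k k.2).2.1⟩
  refine ⟨xh h ^ Ssi k * u⁻¹, ?_⟩
  rw [gS, ← hu]
  group

theorem gS_sq (k : Fin 26163) : gS h k ^ 2 = 1 := by
  obtain ⟨u, hu⟩ := gS_conj h k
  rw [hu, pow_two]
  calc u * yh h * u⁻¹ * (u * yh h * u⁻¹) = u * (yh h * yh h) * u⁻¹ := by group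
    _ = 1 := by rw [yh_sq]; group

theorem gS_inj : Function.Injective (gS h) := by
  intro k k' e
  have h1 := rep_gS h k
  rw [e] at h1
  have h2 := Rep.inj h h1 (rep_gS h k')
  exact Fin.ext (inj_of_succ_lt skey 26163
    (fun e he => (chkSrt_sound e (by omega)).2.2 he) k k' k.2 k'.2 h2)

theorem card_cent_le :
    Nat.card (Subgroup.centralizer ({pi h (yh h)} : Set (G h ⧸ Subgroup.center (G h)))) ≤ 1920 := by
  have hcard : Nat.card (G h ⧸ Subgroup.center (G h)) = 50232960 := (main h (G h) rfl).2.2.1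
  have : Finite (G h ⧸ Subgroup.center (G h)) :=
    Nat.finite_of_card_ne_zero (by rw [hcard]; norm_num)
  have hinj : Function.Injective (fun k : Fin 26163 => pi h (gS h k)) := by
    intro k k' e
    exact gS_inj h (invol_inj (center_card h) _ _ (gS_sq h k) (gS_sq h k') e)
  have hconj : ∀ k : Fin 26163, ∃ g : G h ⧸ Subgroup.center (G h),
      pi h (gS h k) = g * pi h (yh h) * g⁻¹ := by
    intro k
    obtain ⟨u, hu⟩ := gS_conj h k
    exact ⟨pi h u, by rw [hu, map_mul, map_mul, map_inv]⟩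
  have := Cfsg.Agent.H32.J3C.card_centralizer_mul_le (pi h (yh h)) 26163
    (fun k : Fin 26163 => pi h (gS h k)) hinj hconj
  rw [hcard] at this
  omega

/-! ### The table facts -/

theorem tab_zc : ∀ a : Fin 32, qmF a 1 = qmF 1 a := by decide +kernel

theorem tab_cen : ∀ c : Fin 32, (∀ a : Fin 32, qmF a c = qmF c a) → c = 0 ∨ c = 1 := by
  decide +kernel

theorem tab_sq : ∀ a : Fin 32, qmF a a = 0 ∨ qmF a a = 1 := by decide +kernel

theorem tab_comm : qmF 2 3 = qmF 1 (qmF 3 2) := by decide +kernel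

theorem tab_E8 : ∀ a b c : Fin 32, qmF a a = 0 → qmF b b = 0 → qmF c c = 0 → qmF a b = qmF b a →
    qmF a c = qmF c a → qmF b c = qmF c b →
    a = 0 ∨ b = 0 ∨ a = b ∨ c = 0 ∨ c = a ∨ c = b ∨ c = qmF a b := by decide +kernel

theorem tab_51 : hmF 7 (hmF 7 (hmF 7 (hmF 7 7))) = 0 := by decide +kernel

theorem tab_52 : hmF 17 (hmF 17 (hmF 17 (hmF 17 17))) = 0 := by decide +kernel

theorem tab_b2 : (17 : Fin 60) ≠ 0 ∧ (17 : Fin 60) ≠ 7 ∧ (17 : Fin 60) ≠ hmF 7 7 ∧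
    (17 : Fin 60) ≠ hmF 7 (hmF 7 7) ∧ (17 : Fin 60) ≠ hmF 7 (hmF 7 (hmF 7 7)) := by
  decide +kernel

/-! ### The theorem -/

theorem pi_yh_order : orderOf (pi h (yh h)) = 2 := by
  have : Fact (Nat.Prime 2) := ⟨Nat.prime_two⟩
  refine orderOf_eq_prime ?_ ?_
  · rw [pow_two, ← map_mul, yh_sq, map_one]
  · intro e
    have := (pi_eq_one_iff h (yh h) (rep_yG h)).mp e
    rw [cY_ne] at this
    exact Bool.false_ne_true this

theorem main_h :
    (∀ x y : G h ⧸ Subgroup.center (G h), orderOf x = 2 → orderOf y = 2 → IsConj x y) ∧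
    ∃ t : G h ⧸ Subgroup.center (G h), orderOf t = 2 ∧
      ∃ (Q : Subgroup ↥(Subgroup.centralizer ({t} : Set (G h ⧸ Subgroup.center (G h)))))
        (_ : Q.Normal), Cfsg.IsExtraspecial 2 Q ∧ Nat.card Q = 32 ∧
        (∀ E : Subgroup Q, Cfsg.IsElementaryAbelian 2 E → Nat.card E ≤ 2 ^ 2) ∧
        (∃ H : Subgroup ↥(Subgroup.centralizer ({t} : Set (G h ⧸ Subgroup.center (G h)))),
          Q.IsComplement' H) ∧
        Nonempty (↥(Subgroup.centralizer ({t} : Set (G h ⧸ Subgroup.center (G h)))) ⧸ Q ≃*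
          ↥(alternatingGroup (Fin 5))) := by
  have hcard : Nat.card (G h ⧸ Subgroup.center (G h)) = 50232960 := (main h (G h) rfl).2.2.1
  have hfin : Finite (G h ⧸ Subgroup.center (G h)) :=
    Nat.finite_of_card_ne_zero (by rw [hcard]; norm_num)
  have key : ∀ x : G h ⧸ Subgroup.center (G h), orderOf x = 2 → IsConj (pi h (yh h)) x := by
    intro x hx
    obtain ⟨g, hg2, hg1, hgx⟩ := Cfsg.Agent.H24.J3C.invol_lift (center_card h) x hx
    obtain ⟨u, hu⟩ := invol_conj h g hg2 hg1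
    rw [isConj_iff]
    refine ⟨pi h u, ?_⟩
    rw [← hgx, ← hu]
    show pi h u * pi h (yh h) * (pi h u)⁻¹ = pi h (u * yh h * u⁻¹)
    rw [map_mul, map_mul, map_inv]
  refine ⟨fun x y hx hy => (key x hx).symm.trans (key y hy), pi h (yh h), pi_yh_order h, ?_⟩
  refine cent_main (pi h (yh h)) (fun a => pi h (gQ h a)) (fun b => pi h (gH h b)) qmF hmF actF
    ?_ ?_ ?_ ?_ ?_ (pi_gQ_inj h) (pi_gH_inj h) (pi_gQ_gH h) ?_ ?_ (card_cent_le h)
    1 (by decide) tab_zc tab_cen tab_sq ⟨2, 3, tab_comm⟩ tab_E8 7 17 (by decide) tab_51 tab_52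
    tab_b2
  · show pi h (gQ h 0) = 1
    rw [gQ_zero, map_one]
  · intro a a'
    show pi h (gQ h a) * pi h (gQ h a') = pi h (gQ h (qmF a a'))
    rw [← map_mul, gQ_mul]
  · show pi h (gH h 0) = 1
    rw [gH_zero, map_one]
  · intro b b'
    show pi h (gH h b) * pi h (gH h b') = pi h (gH h (hmF b b'))
    rw [← map_mul, gH_mul]
  · intro b a
    show pi h (gH h b) * pi h (gQ h a) = pi h (gQ h (actF b a)) * pi h (gH h b)
    rw [← map_mul, ← map_mul, gH_gQ]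
  · intro a
    show pi h (gQ h a) * pi h (yh h) = pi h (yh h) * pi h (gQ h a)
    rw [← map_mul, ← map_mul, gQ_yh]
  · intro b
    show pi h (gH h b) * pi h (yh h) = pi h (yh h) * pi h (gH h b)
    rw [← map_mul, ← map_mul, gH_yh]

theorem main_K (K : Subgroup (GL F9 F)) (hK : K = G h) :
    (∀ x y : K ⧸ Subgroup.center K, orderOf x = 2 → orderOf y = 2 → IsConj x y) ∧
    ∃ t : K ⧸ Subgroup.center K, orderOf t = 2 ∧
      ∃ (Q : Subgroup ↥(Subgroup.centralizer ({t} : Set (K ⧸ Subgroup.center K))))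
        (_ : Q.Normal), Cfsg.IsExtraspecial 2 Q ∧ Nat.card Q = 32 ∧
        (∀ E : Subgroup Q, Cfsg.IsElementaryAbelian 2 E → Nat.card E ≤ 2 ^ 2) ∧
        (∃ H : Subgroup ↥(Subgroup.centralizer ({t} : Set (K ⧸ Subgroup.center K))),
          Q.IsComplement' H) ∧
        Nonempty (↥(Subgroup.centralizer ({t} : Set (K ⧸ Subgroup.center K))) ⧸ Q ≃*
          ↥(alternatingGroup (Fin 5))) := by
  subst hK
  exact main_h h

end

end Cfsg.Agent.H34.J3C
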