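import Cfsg.Agent.H34.J3CChk

/-!
Kernel-evaluated check that the 26163 listed involutions of `3·J₃` have strictly increasing codes
(statement S2135).
-/

set_option autoImplicit false

namespace Cfsg.Agent.H34.J3C

open Cfsg.Agent.H10.F4 Cfsg.Agent.H10.J3 Cfsg.Agent.H6.J3O

theorem chkSrt_0 : allFrom chkSrt 0 6600 = true := by decide +kernel
theorem chkSrt_1 : allFrom chkSrt 6600 6600 = true := by decide +kernel
theorem chkSrt_2 : allFrom chkSrt 13200 6600 = true := by decide +kernel
theorem chkSrt_3 : allFrom chkSrt 19800 6363 = true := by decide +kernel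

theorem chkSrt_all : ∀ k, k < 26163 → chkSrt k = true := by
  intro k hk
  by_cases h0 : k < 6600
  · exact allFrom_sound _ _ _ chkSrt_0 k (by omega) (by omega)
  by_cases h1 : k < 13200
  · exact allFrom_sound _ _ _ chkSrt_1 k (by omega) (by omega)
  by_cases h2 : k < 19800
  · exact allFrom_sound _ _ _ chkSrt_2 k (by omega) (by omega)
  exact allFrom_sound _ _ _ chkSrt_3 k (by omega) (by omega)

end Cfsg.Agent.H34.J3C
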