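import Cfsg.Agent.H34.JkTI
import Cfsg.Agent.H91.JkFour
import Cfsg.Agent.H25.SpLE

/-!
# JZ-KILL: the conjugation step K-CONJ, and K-CENT / K-TI from it (S2951 / S2952)

`kConj (hSR) (hZ2) (h46) : StKConj`: in (R), every element of `V = Ω₁Z(O₂(L))` is
`L`-conjugate into `Ω₁Z(J(S))`.  Here `hSR` is helper52's structure statement, `hZ2` is JZ-Z2,
and `h46` is the statement S2946 (as a hypothesis, to keep the closure clash-free).

`kCent (hSR) (hZ2) (h46) (hNV) : StKCent` and `kTIfull (hSR) (hZ2) (h46) (hNV) : StKTI` follow.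
-/

set_option autoImplicit false
open Cfsg

namespace Cfsg.Agent.H34.Jk

open Cfsg.Agent.H64.Jz Cfsg.Agent.H59.JzK

universe u

/-- The statement S2946 (verbatim), as a hypothesis. -/
def St46 : Prop := ∀ {G : Type u} [Group G] [Finite G] (_hL : Cfsg.IsCharacteristicTwoType G)
    (_hN : ∀ N : Subgroup G, Cfsg.IsTwoLocal N → Group.IsSolvable ↥N)
    (_hZ : ∀ S : Sylow 2 G, Subgroup.centralizer (Cfsg.omegaCenterOf (S : Subgroup G) : Set G) ≤
      Subgroup.normalizer ((S : Subgroup G) : Set G)) (T : Subgroup G) (_hT : IsPGroup 2 ↥T)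
    (_hT1 : T ≠ ⊥) (K : Subgroup G) (_hK : Cfsg.IsJComponent T K)
    (Z₀ : Subgroup G) (_hZ₀ : Z₀ = Cfsg.omegaCenterOf (Cfsg.thompsonSubgroupOf 2 T)),
    Nat.card ↥(Z₀ ⊓ Cfsg.wOf K) = 2 ∧
      (Z₀ ⊓ ((K ⊔ Cfsg.thompsonSubgroupOf 2 T) ⊓
        Subgroup.centralizer ((K ⊔ Cfsg.thompsonSubgroupOf 2 T) : Set G))) ⊔
        (Z₀ ⊓ Cfsg.wOf K) = Z₀

/-- `Ω₁Z(X) ≤ X ∩ C(X)`. -/
theorem omegaCenterOf_le_inf' {G : Type u} [Group G] (X : Subgroup G) :
    omegaCenterOf X ≤ X ⊓ Subgroup.centralizer (X : Set G) := by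
  unfold omegaCenterOf omegaOne
  rw [Subgroup.closure_le]
  intro x hx
  exact hx.1

/-- K-CONJ. -/
theorem kConj (hSR : Cfsg.Agent.H52.Sr.StStruct.{u}) (hZ2 : StZ2.{u}) (h46 : St46.{u}) :
    StKConj.{u} := by
  intro G _ _ S M K L T' K' L' hR u hu
  obtain ⟨hB, hX, hB', hne⟩ := hR
  have hcardZ : Nat.card ↥(omegaCenterOf (S : Subgroup G)) = 2 := hZ2 S L T' K' L' hB' hne
  obtain ⟨hLS, h1, h2, h3, h4, h5, h6⟩ :=
    Cfsg.Agent.H91.JzK.struct_of_base hSR S M K L hB hcardZ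
  obtain ⟨⟨hc2, hsolv, hZ⟩, hO, hM, hMJ, hSmax, -, hKout, hLmax, hKL⟩ := hB
  have hS1 : (S : Subgroup G) ≠ ⊥ := hSmax.1.2.1
  have hS2 : IsPGroup 2 ↥(S : Subgroup G) := S.isPGroup'
  have hle : Vof L ≤ pCoreOf 2 L ⊓ Subgroup.centralizer (pCoreOf 2 L : Set G) :=
    omegaCenterOf_le_inf' (pCoreOf 2 L)
  have hVc : ∀ a ∈ Vof L, ∀ b ∈ Vof L, a * b = b * a := by
    intro a ha b hb
    exact (Subgroup.mem_centralizer_iff.mp (hle ha).2 b (hle hb).1).symm
  have hWV : ∀ i : Cfsg.Agent.H52.Sr.Orb (S : Subgroup G) K, wOf i.1 ≤ Vof L := by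
    intro i
    have := le_iSup (fun i : Cfsg.Agent.H52.Sr.Orb (S : Subgroup G) K => wOf i.1) i
    rwa [h1] at this
  have key := Cfsg.Agent.H34.Jz.conj_into (ι := Cfsg.Agent.H52.Sr.Orb (S : Subgroup G) K)
    (fun i => i.1) (fun i => wOf i.1) (Vof L)
    (omegaCenterOf (thompsonSubgroupOf 2 (S : Subgroup G))) L
    h1.ge hWV hVc h5 ?_ ?_ (fun i => (h3 i).2.1) u hu
  · obtain ⟨k, hk, hk2⟩ := key
    exact ⟨k, hk, hk2.1⟩
  · intro i a ha ha1 b hb hb1
    exact Cfsg.Agent.H34.Jz.trans_of_fpf (wOf i.1) i.1 (h3 i).2.2 (h3 i).1.2.2.2.2.2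
      (Subgroup.le_normalizer.trans (Cfsg.Agent.H25.Sp.le i.1)) (h6 i) a b ha ha1 hb hb1
  · intro i
    have hc := (h46 hc2 hsolv hZ (S : Subgroup G) hS2 hS1 i.1 (h3 i).1 _ rfl).1
    have hne0 : omegaCenterOf (thompsonSubgroupOf 2 (S : Subgroup G)) ⊓ wOf i.1 ≠ ⊥ := by
      intro h0
      rw [h0, Subgroup.card_bot] at hc
      omega
    obtain ⟨y, hy1⟩ := (Subgroup.ne_bot_iff_exists_ne_one).mp hne0
    exact ⟨y.1, y.2.2, fun h => hy1 (Subtype.ext h), y.2.1⟩

/-- In (R): the centralizer of a nontrivial element of `Ω₁Z(J(S))` of order 2 lies in `L`. -/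
theorem cent_le_of_mem_Z0 {G : Type u} [Group G] [Finite G] (S : Sylow 2 G)
    (M K L T' K' L' : Subgroup G) (hR : RCtx S M K L T' K' L') (y : G)
    (hy : y ∈ omegaCenterOf (thompsonSubgroupOf 2 (S : Subgroup G))) (hy1 : y ≠ 1)
    (hy2 : y * y = 1) : Subgroup.centralizer ({y} : Set G) ≤ L := by
  have hyc := (omegaCenterOf_le_inf' _ hy).2
  -- `C_G(y) = N_G(⟨y⟩)` is a 2-local over `J(S)`
  have h2loc : IsTwoLocal (Subgroup.centralizer ({y} : Set G)) := by
    refine ⟨Subgroup.zpowers y, ?_, ?_, ?_⟩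
    · have ho : orderOf y = 2 := orderOf_eq_prime (by rw [pow_two]; exact hy2) hy1
      refine IsPGroup.of_card (n := 1) ?_
      rw [Nat.card_zpowers, ho, pow_one]
    · intro h0
      apply hy1
      have : y ∈ Subgroup.zpowers y := Subgroup.mem_zpowers y
      rw [h0] at this
      exact Subgroup.mem_bot.mp this
    · apply le_antisymm
      · intro c hc
        have hcy : c * y = y * c := Subgroup.mem_centralizer_singleton_iff.mp hc
        rw [Subgroup.mem_normalizer_iff]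
        intro x
        have hcx : ∀ x ∈ Subgroup.zpowers y, c * x * c⁻¹ = x := by
          intro x hx
          obtain ⟨n, rfl⟩ := Subgroup.mem_zpowers_iff.mp hx
          have hcomm : Commute c (y ^ n) := (show Commute c y from hcy).zpow_right n
          rw [hcomm.eq, mul_inv_cancel_right]
        constructor
        · intro hx
          rw [hcx x hx]
          exact hx
        · intro hx
          have h3 : c⁻¹ * (c * x * c⁻¹) * c = x := by group
          have hcinv : ∀ z ∈ Subgroup.zpowers y, c⁻¹ * z * c = z := by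
            intro z hz
            have := hcx z hz
            calc c⁻¹ * z * c = c⁻¹ * (c * z * c⁻¹) * c := by rw [this]
              _ = z := by group
          rw [← h3, hcinv _ hx]
          exact hx
      · intro c hc
        rw [Subgroup.mem_centralizer_singleton_iff]
        have hmem : c * y * c⁻¹ ∈ Subgroup.zpowers y :=
          (Subgroup.mem_normalizer_iff.mp hc y).mp (Subgroup.mem_zpowers y)
        -- the only elements of `⟨y⟩` are `1` and `y`
        obtain ⟨n, hn⟩ := Subgroup.mem_zpowers_iff.mp hmem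
        have hpar : y ^ n = 1 ∨ y ^ n = y := by
          rcases Int.emod_two_eq_zero_or_one n with h | h
          · left
            have : n = 2 * (n / 2) := by omega
            rw [this, zpow_mul, zpow_ofNat, pow_two, hy2, one_zpow]
          · right
            have : n = 2 * (n / 2) + 1 := by omega
            rw [this, zpow_add, zpow_mul, zpow_ofNat, pow_two, hy2, one_zpow, one_mul, zpow_one]
        rcases hpar with h | h
        · exfalso
          apply hy1
          rw [h] at hn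
          calc y = c⁻¹ * (c * y * c⁻¹) * c := by group
            _ = 1 := by rw [← hn]; group
        · rw [h] at hn
          calc c * y = c * y * c⁻¹ * c := by group
            _ = y * c := by rw [← hn]
  refine hR.2.1 _ h2loc ?_
  intro j hj
  rw [Subgroup.mem_centralizer_singleton_iff]
  exact Subgroup.mem_centralizer_iff.mp hyc j hj

/-- K-CENT from the conjugation step and K-NV. -/
theorem kCent_of (hConj : StKConj.{u}) (hExp : StKExp.{u}) (hNV : StKNV.{u}) : StKCent.{u} := by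
  intro G _ _ S M K L T' K' L' hR _ u hu hu1
  have hNVeq : Subgroup.normalizer (Vof L : Set G) = L := hNV S M K L T' K' L' hR
  rw [hNVeq]
  obtain ⟨k, hk, hky⟩ := hConj S M K L T' K' L' hR u hu
  have hne : k * u * k⁻¹ ≠ 1 := by
    intro h
    apply hu1
    calc u = k⁻¹ * (k * u * k⁻¹) * k := by group
      _ = 1 := by rw [h]; group
  have hu2 : u * u = 1 := hExp (pCoreOf 2 L) u hu
  have hsq : k * u * k⁻¹ * (k * u * k⁻¹) = 1 := by
    calc k * u * k⁻¹ * (k * u * k⁻¹) = k * (u * u) * k⁻¹ := by group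
      _ = 1 := by rw [hu2]; group
  have h2 := cent_le_of_mem_Z0 S M K L T' K' L' hR _ hky hne hsq
  intro c hc
  have hcu : c * u = u * c := Subgroup.mem_centralizer_singleton_iff.mp hc
  have hc' : k * c * k⁻¹ ∈ Subgroup.centralizer ({k * u * k⁻¹} : Set G) := by
    rw [Subgroup.mem_centralizer_singleton_iff]
    calc k * c * k⁻¹ * (k * u * k⁻¹) = k * (c * u) * k⁻¹ := by group
      _ = k * (u * c) * k⁻¹ := by rw [hcu]
      _ = k * u * k⁻¹ * (k * c * k⁻¹) := by group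
  have h3 := h2 hc'
  have : c = k⁻¹ * (k * c * k⁻¹) * k := by group
  rw [this]
  exact L.mul_mem (L.mul_mem (L.inv_mem hk) h3) hk

/-- K-CENT (through the structure of `V`). -/
theorem kCent (hSR : Cfsg.Agent.H52.Sr.StStruct.{u}) (hZ2 : StZ2.{u}) (h46 : St46.{u})
    (hExp : StKExp.{u}) (hNV : StKNV.{u}) : StKCent.{u} :=
  kCent_of (kConj hSR hZ2 h46) hExp hNV

/-- K-TI (through the structure of `V`). -/
theorem kTIfull (hSR : Cfsg.Agent.H52.Sr.StStruct.{u}) (hZ2 : StZ2.{u}) (h46 : St46.{u})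
    (hExp : StKExp.{u}) (hNV : StKNV.{u}) : StKTI.{u} :=
  kTI (kConj hSR hZ2 h46) (kCent hSR hZ2 h46 hExp hNV) hNV

example (hSR : Cfsg.Agent.H52.Sr.StStruct.{u}) (hZ2 : Cfsg.Agent.H64.Jz.StZ2.{u})
    (h46 : St46.{u}) (hExp : Cfsg.Agent.H59.JzK.StKExp.{u})
    (hNV : Cfsg.Agent.H59.JzK.StKNV.{u}) : Cfsg.Agent.H59.JzK.StKCent.{u} :=
  kCent hSR hZ2 h46 hExp hNV

example (hSR : Cfsg.Agent.H52.Sr.StStruct.{u}) (hZ2 : Cfsg.Agent.H64.Jz.StZ2.{u})
    (h46 : St46.{u}) (hExp : Cfsg.Agent.H59.JzK.StKExp.{u})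
    (hNV : Cfsg.Agent.H59.JzK.StKNV.{u}) : Cfsg.Agent.H59.JzK.StKTI.{u} :=
  kTIfull hSR hZ2 h46 hExp hNV

end Cfsg.Agent.H34.Jk

#print axioms Cfsg.Agent.H34.Jk.kConj
#print axioms Cfsg.Agent.H34.Jk.kCent
#print axioms Cfsg.Agent.H34.Jk.kTIfull
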