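import Mathlib

/-!
# Abstract core of (K2)/(K3) of the JZ kill (S2951 / S2952)

`V` is generated by four-groups `W i`, each acted on without nontrivial fixed points by a
subgroup `K i ≤ L` which centralizes the other `W j`; `Y` meets every `W i` nontrivially.
Then every element of `V` is `L`-conjugate into `Y` (`conj_into`); hence if centralizers of
nontrivial elements of `Y` lie in `L`, so do those of nontrivial elements of `V` (`h1_abs`),
and `V` is a TI-set as soon as `L` is the only conjugate of `L` over `J` (`ti_abs`).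
-/

set_option autoImplicit false

namespace Cfsg.Agent.H34.Jz

universe u v

variable {G : Type u} [Group G]

/-- Product form of the join of two elementwise commuting subgroups. -/
theorem mem_sup_comm (H N : Subgroup G) (hc : ∀ h ∈ H, ∀ n ∈ N, h * n = n * h) {x : G}
    (hx : x ∈ H ⊔ N) : ∃ h ∈ H, ∃ n ∈ N, h * n = x := by
  let P : Subgroup G :=
    { carrier := {x | ∃ h ∈ H, ∃ n ∈ N, h * n = x}
      one_mem' := ⟨1, H.one_mem, 1, N.one_mem, by simp⟩
      mul_mem' := by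
        rintro _ _ ⟨h1, hh1, n1, hn1, rfl⟩ ⟨h2, hh2, n2, hn2, rfl⟩
        refine ⟨h1 * h2, H.mul_mem hh1 hh2, n1 * n2, N.mul_mem hn1 hn2, ?_⟩
        have := hc h2 hh2 n1 hn1
        calc h1 * h2 * (n1 * n2) = h1 * (h2 * n1) * n2 := by group
          _ = h1 * (n1 * h2) * n2 := by rw [this]
          _ = h1 * n1 * (h2 * n2) := by group
      inv_mem' := by
        rintro _ ⟨h, hh, n, hn, rfl⟩
        refine ⟨h⁻¹, H.inv_mem hh, n⁻¹, N.inv_mem hn, ?_⟩
        have := hc h hh n hn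
        rw [← mul_inv_rev, ← this] }
  have hle : H ⊔ N ≤ P :=
    sup_le (fun h hh => ⟨h, hh, 1, N.one_mem, by simp⟩)
      (fun n hn => ⟨1, H.one_mem, n, hn, by simp⟩)
  exact hle hx

/-- A subgroup `K` normalizing a group `W` of order 4 and exponent 2 without nontrivial fixed
points is transitive on `W ∖ 1`. -/
theorem trans_of_fpf (W K : Subgroup G) (hcard : Nat.card ↥W = 4) (hW2 : ∀ w ∈ W, w * w = 1)
    (hKW : K ≤ Subgroup.normalizer (W : Set G))
    (hfpf : W ⊓ Subgroup.centralizer (K : Set G) = ⊥)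
    (a b : G) (ha : a ∈ W) (ha1 : a ≠ 1) (hb : b ∈ W) (hb1 : b ≠ 1) :
    ∃ k ∈ K, k * a * k⁻¹ = b := by
  classical
  by_cases hab : a = b
  · exact ⟨1, K.one_mem, by simp [hab]⟩
  by_contra hno
  push Not at hno
  have habW : a * b ∈ W := W.mul_mem ha hb
  have hab1 : a * b ≠ 1 := by
    intro h
    apply hab
    have hb2 := hW2 b hb
    calc a = a * (b * b) := by rw [hb2, mul_one]
      _ = a * b * b := by group
      _ = b := by rw [h, one_mul]
  have haba : a * b ≠ a := by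
    intro h
    apply hb1
    calc b = a⁻¹ * (a * b) := by group
      _ = 1 := by rw [h]; group
  have habb : a * b ≠ b := by
    intro h
    apply ha1
    calc a = a * b * b⁻¹ := by group
      _ = 1 := by rw [h]; group
  -- the four elements of `W`
  have hmem4 : ∀ w ∈ W, w = 1 ∨ w = a ∨ w = b ∨ w = a * b := by
    intro w hw
    by_contra hcon
    push Not at hcon
    obtain ⟨hw1, hwa, hwb, hwab⟩ := hcon
    let s : Finset G := {1, a, b, a * b, w}
    have hs5 : s.card = 5 := by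
      have e1 : (1 : G) ∉ ({a, b, a * b, w} : Finset G) := by
        simp only [Finset.mem_insert, Finset.mem_singleton, not_or]
        exact ⟨fun h => ha1 h.symm, fun h => hb1 h.symm, fun h => hab1 h.symm,
          fun h => hw1 h.symm⟩
      have e2 : a ∉ ({b, a * b, w} : Finset G) := by
        simp only [Finset.mem_insert, Finset.mem_singleton, not_or]
        exact ⟨hab, fun h => haba h.symm, fun h => hwa h.symm⟩
      have e3 : b ∉ ({a * b, w} : Finset G) := by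
        simp only [Finset.mem_insert, Finset.mem_singleton, not_or]
        exact ⟨fun h => habb h.symm, fun h => hwb h.symm⟩
      have e4 : a * b ∉ ({w} : Finset G) := by
        simp only [Finset.mem_singleton]
        exact fun h => hwab h.symm
      show (insert (1 : G) (insert a (insert b (insert (a * b) ({w} : Finset G))))).card = 5
      rw [Finset.card_insert_of_notMem e1, Finset.card_insert_of_notMem e2,
        Finset.card_insert_of_notMem e3, Finset.card_insert_of_notMem e4,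
        Finset.card_singleton]
    have hsub : (s : Set G) ⊆ (W : Set G) := by
      intro x hx
      have hx' : x ∈ s := hx
      simp only [s, Finset.mem_insert, Finset.mem_singleton] at hx'
      rcases hx' with rfl | rfl | rfl | rfl | rfl
      · exact W.one_mem
      · exact ha
      · exact hb
      · exact habW
      · exact hw
    haveI : Finite ↥W := Nat.finite_of_card_ne_zero (by rw [hcard]; norm_num)
    have hfin : (W : Set G).Finite := Set.toFinite _
    have h1 := Set.ncard_le_ncard hsub hfin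
    rw [Set.ncard_coe_finset, hs5] at h1
    have h2 : (W : Set G).ncard = 4 := by
      rw [← Nat.card_coe_set_eq]
      exact hcard
    omega
  -- `a` and `b` are moved
  have hmoved : ∀ c ∈ W, c ≠ 1 → ∃ k ∈ K, k * c * k⁻¹ ≠ c := by
    intro c hc hc1
    by_contra hcon
    push Not at hcon
    apply hc1
    have hcen : c ∈ Subgroup.centralizer (K : Set G) := by
      rw [Subgroup.mem_centralizer_iff]
      intro k hk
      have := hcon k hk
      calc k * c = k * c * k⁻¹ * k := by group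
        _ = c * k := by rw [this]
    have : c ∈ W ⊓ Subgroup.centralizer (K : Set G) := ⟨hc, hcen⟩
    rw [hfpf] at this
    exact Subgroup.mem_bot.mp this
  have hconjW : ∀ k ∈ K, ∀ c ∈ W, k * c * k⁻¹ ∈ W := by
    intro k hk c hc
    exact (Subgroup.mem_normalizer_iff.mp (hKW hk) c).mp hc
  have hconj1 : ∀ k c : G, c ≠ 1 → k * c * k⁻¹ ≠ 1 := by
    intro k c hc h
    apply hc
    calc c = k⁻¹ * (k * c * k⁻¹) * k := by group
      _ = 1 := by rw [h]; group
  obtain ⟨k', hk', hk'a⟩ := hmoved a ha ha1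
  have hk'ab : k' * a * k'⁻¹ = a * b := by
    rcases hmem4 _ (hconjW k' hk' a ha) with h | h | h | h
    · exact absurd h (hconj1 k' a ha1)
    · exact absurd h hk'a
    · exact absurd h (hno k' hk')
    · exact h
  obtain ⟨k, hk, hkb⟩ := hmoved b hb hb1
  rcases hmem4 _ (hconjW k hk b hb) with h | h | h | h
  · exact hconj1 k b hb1 h
  · -- `k⁻¹` maps `a` to `b`
    apply hno k⁻¹ (K.inv_mem hk)
    rw [← h]
    group
  · exact hkb h
  · -- `k⁻¹ k'` maps `a` to `b`
    apply hno (k⁻¹ * k') (K.mul_mem (K.inv_mem hk) hk')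
    calc k⁻¹ * k' * a * (k⁻¹ * k')⁻¹ = k⁻¹ * (k' * a * k'⁻¹) * k := by group
      _ = k⁻¹ * (k * b * k⁻¹) * k := by rw [hk'ab, h]
      _ = b := by group

/-- Finset version of `conj_into`. -/
theorem conj_into_fin {ι : Type v} (K W : ι → Subgroup G) (V Y : Subgroup G)
    (hWV : ∀ i, W i ≤ V) (hVc : ∀ a ∈ V, ∀ b ∈ V, a * b = b * a)
    (hcent : ∀ i j, i ≠ j → W i ≤ Subgroup.centralizer (K j : Set G))
    (htrans : ∀ i, ∀ a ∈ W i, a ≠ 1 → ∀ b ∈ W i, b ≠ 1 → ∃ k ∈ K i, k * a * k⁻¹ = b)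
    (hY : ∀ i, ∃ y ∈ W i, y ≠ 1 ∧ y ∈ Y) (s : Finset ι) :
    ∀ u ∈ ⨆ i ∈ s, W i, ∃ k ∈ ⨆ i ∈ s, K i, k * u * k⁻¹ ∈ Y ⊓ ⨆ i ∈ s, W i := by
  classical
  induction s using Finset.induction_on with
  | empty =>
    intro u hu
    simp only [Finset.notMem_empty, iSup_false, iSup_bot, Subgroup.mem_bot] at hu
    subst hu
    exact ⟨1, one_mem _, by simp⟩
  | insert j s hj ih =>
    intro u hu
    rw [Finset.iSup_insert] at hu
    rw [Finset.iSup_insert, Finset.iSup_insert]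
    have hVs : (⨆ i ∈ s, W i) ≤ V := iSup₂_le fun i _ => hWV i
    obtain ⟨a, ha, b, hb, rfl⟩ := mem_sup_comm (W j) (⨆ i ∈ s, W i)
      (fun h hh n hn => hVc h (hWV j hh) n (hVs hn)) hu
    obtain ⟨k', hk', hk'b⟩ := ih b hb
    have hNs : (⨆ i ∈ s, K i) ≤ Subgroup.centralizer (W j : Set G) :=
      iSup₂_le fun i hi => Subgroup.le_centralizer_iff.mp
        (hcent j i (by rintro rfl; exact hj hi))
    have hk'a : a * k' = k' * a := Subgroup.mem_centralizer_iff.mp (hNs hk') a ha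
    have h1 : k' * a * k'⁻¹ = a := by
      rw [← hk'a]; group
    by_cases ha1 : a = 1
    · subst ha1
      refine ⟨k', (le_sup_right : (⨆ i ∈ s, K i) ≤ K j ⊔ ⨆ i ∈ s, K i) hk', ?_⟩
      rw [one_mul]
      exact ⟨hk'b.1, (le_sup_right : (⨆ i ∈ s, W i) ≤ W j ⊔ ⨆ i ∈ s, W i) hk'b.2⟩
    · obtain ⟨y, hyW, hy1, hyY⟩ := hY j
      obtain ⟨kj, hkj, hkja⟩ := htrans j a ha ha1 y hyW hy1
      have hVsC : (⨆ i ∈ s, W i) ≤ Subgroup.centralizer (K j : Set G) :=
        iSup₂_le fun i hi => hcent i j (by rintro rfl; exact hj hi)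
      have hkjc : kj * (k' * b * k'⁻¹) = (k' * b * k'⁻¹) * kj :=
        Subgroup.mem_centralizer_iff.mp (hVsC hk'b.2) kj hkj
      refine ⟨kj * k', mul_mem ((le_sup_left : K j ≤ K j ⊔ ⨆ i ∈ s, K i) hkj)
        ((le_sup_right : (⨆ i ∈ s, K i) ≤ K j ⊔ ⨆ i ∈ s, K i) hk'), ?_⟩
      have hcalc : kj * k' * (a * b) * (kj * k')⁻¹ = y * (k' * b * k'⁻¹) := by
        calc kj * k' * (a * b) * (kj * k')⁻¹
            = kj * (k' * a * k'⁻¹) * (k' * b * k'⁻¹) * kj⁻¹ := by group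
          _ = kj * a * (k' * b * k'⁻¹) * kj⁻¹ := by rw [h1]
          _ = (kj * a * kj⁻¹) * (kj * (k' * b * k'⁻¹)) * kj⁻¹ := by group
          _ = y * ((k' * b * k'⁻¹) * kj) * kj⁻¹ := by rw [hkja, hkjc]
          _ = y * (k' * b * k'⁻¹) := by group
      rw [hcalc]
      exact ⟨mul_mem hyY hk'b.1,
        mul_mem ((le_sup_left : W j ≤ W j ⊔ ⨆ i ∈ s, W i) hyW)
          ((le_sup_right : (⨆ i ∈ s, W i) ≤ W j ⊔ ⨆ i ∈ s, W i) hk'b.2)⟩

/-- Every element of `V` is `L`-conjugate into `Y ⊓ V`. -/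
theorem conj_into {ι : Type v} [Finite ι] (K W : ι → Subgroup G) (V Y L : Subgroup G)
    (hsup : V ≤ ⨆ i, W i) (hWV : ∀ i, W i ≤ V) (hVc : ∀ a ∈ V, ∀ b ∈ V, a * b = b * a)
    (hcent : ∀ i j, i ≠ j → W i ≤ Subgroup.centralizer (K j : Set G))
    (htrans : ∀ i, ∀ a ∈ W i, a ≠ 1 → ∀ b ∈ W i, b ≠ 1 → ∃ k ∈ K i, k * a * k⁻¹ = b)
    (hY : ∀ i, ∃ y ∈ W i, y ≠ 1 ∧ y ∈ Y) (hKL : ∀ i, K i ≤ L) :
    ∀ u ∈ V, ∃ k ∈ L, k * u * k⁻¹ ∈ Y ⊓ V := by
  classical
  haveI := Fintype.ofFinite ι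
  intro u hu
  have hu' : u ∈ ⨆ i ∈ (Finset.univ : Finset ι), W i := by
    simpa using hsup hu
  obtain ⟨k, hk, hk2⟩ := conj_into_fin K W V Y hWV hVc hcent htrans hY Finset.univ u hu'
  have hkL : (⨆ i ∈ (Finset.univ : Finset ι), K i) ≤ L := iSup₂_le fun i _ => hKL i
  have hWV' : (⨆ i ∈ (Finset.univ : Finset ι), W i) ≤ V := iSup₂_le fun i _ => hWV i
  exact ⟨k, hkL hk, hk2.1, hWV' hk2.2⟩

/-- (K2): centralizers of nontrivial elements of `V` lie in `L`. -/
theorem h1_abs {ι : Type v} [Finite ι] (K W : ι → Subgroup G) (V Y L : Subgroup G)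
    (hsup : V ≤ ⨆ i, W i) (hWV : ∀ i, W i ≤ V) (hVc : ∀ a ∈ V, ∀ b ∈ V, a * b = b * a)
    (hcent : ∀ i j, i ≠ j → W i ≤ Subgroup.centralizer (K j : Set G))
    (htrans : ∀ i, ∀ a ∈ W i, a ≠ 1 → ∀ b ∈ W i, b ≠ 1 → ∃ k ∈ K i, k * a * k⁻¹ = b)
    (hY : ∀ i, ∃ y ∈ W i, y ≠ 1 ∧ y ∈ Y) (hKL : ∀ i, K i ≤ L)
    (hC : ∀ y ∈ Y, y ≠ 1 → Subgroup.centralizer ({y} : Set G) ≤ L) :
    ∀ u ∈ V, u ≠ 1 → Subgroup.centralizer ({u} : Set G) ≤ L := by
  intro u hu hu1 c hc
  obtain ⟨k, hk, hk2⟩ := conj_into K W V Y L hsup hWV hVc hcent htrans hY hKL u hu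
  have hne : k * u * k⁻¹ ≠ 1 := by
    intro h
    apply hu1
    calc u = k⁻¹ * (k * u * k⁻¹) * k := by group
      _ = 1 := by rw [h]; group
  have h2 := hC _ hk2.1 hne
  have hcu : c * u = u * c := Subgroup.mem_centralizer_singleton_iff.mp hc
  have hc' : k * c * k⁻¹ ∈ Subgroup.centralizer ({k * u * k⁻¹} : Set G) := by
    rw [Subgroup.mem_centralizer_singleton_iff]
    calc k * c * k⁻¹ * (k * u * k⁻¹) = k * (c * u) * k⁻¹ := by group
      _ = k * (u * c) * k⁻¹ := by rw [hcu]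
      _ = k * u * k⁻¹ * (k * c * k⁻¹) := by group
  have h3 := h2 hc'
  have : c = k⁻¹ * (k * c * k⁻¹) * k := by group
  rw [this]
  exact L.mul_mem (L.mul_mem (L.inv_mem hk) h3) hk

/-- (K3): `V` is a TI-set with normalizer inside `L`. -/
theorem ti_abs (V Y L J : Subgroup G)
    (hconj : ∀ u ∈ V, ∃ k ∈ L, k * u * k⁻¹ ∈ Y)
    (hJY : ∀ y ∈ Y, J ≤ Subgroup.centralizer ({y} : Set G))
    (hH1 : ∀ u ∈ V, u ≠ 1 → Subgroup.centralizer ({u} : Set G) ≤ L)
    (hX : ∀ x : G, J ≤ L.map (MulAut.conj x).toMonoidHom → x ∈ L) :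
    ∀ g : G, V ⊓ V.map (MulAut.conj g).toMonoidHom ≠ ⊥ → g ∈ L := by
  intro g hg
  obtain ⟨u, hu1⟩ := (Subgroup.ne_bot_iff_exists_ne_one).mp hg
  obtain ⟨huV, huVg⟩ := u.2
  have hu1' : (u : G) ≠ 1 := fun h => hu1 (Subtype.ext h)
  obtain ⟨v, hv, hvu⟩ := Subgroup.mem_map.mp huVg
  have hvu' : g * v * g⁻¹ = (u : G) := hvu
  have hv1 : v ≠ 1 := by
    intro h
    apply hu1'
    rw [← hvu', h]; group
  obtain ⟨k, hk, hky⟩ := hconj (u : G) huV
  have hJc := hJY _ hky
  have hCv := hH1 v hv hv1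
  have hkg : k * g ∈ L := by
    apply hX
    intro j hj
    have hjc : j * (k * (u : G) * k⁻¹) = k * (u : G) * k⁻¹ * j :=
      Subgroup.mem_centralizer_singleton_iff.mp (hJc hj)
    have hmem : (k * g)⁻¹ * j * (k * g) ∈ Subgroup.centralizer ({v} : Set G) := by
      rw [Subgroup.mem_centralizer_singleton_iff]
      rw [← hvu'] at hjc
      calc (k * g)⁻¹ * j * (k * g) * v
          = (k * g)⁻¹ * (j * (k * (g * v * g⁻¹) * k⁻¹)) * (k * g) := by group
        _ = (k * g)⁻¹ * (k * (g * v * g⁻¹) * k⁻¹ * j) * (k * g) := by rw [hjc]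
        _ = v * ((k * g)⁻¹ * j * (k * g)) := by group
    refine Subgroup.mem_map.mpr ⟨(k * g)⁻¹ * j * (k * g), hCv hmem, ?_⟩
    show (k * g) * ((k * g)⁻¹ * j * (k * g)) * (k * g)⁻¹ = j
    group
  have : g = k⁻¹ * (k * g) := by group
  rw [this]
  exact L.mul_mem (L.inv_mem hk) hkg

end Cfsg.Agent.H34.Jz
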