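import Cfsg.Agent.H34.M12OutA

/-!
# The automorphism group of `SF [D0]` (a copy of `M12`), part B: the candidate check
-/

set_option autoImplicit false

namespace Cfsg.Agent.H34

open Cfsg Cfsg.Agent.H9
open scoped Pointwise

set_option maxRecDepth 1000000 in
theorem cnd12_c0 :
    M11EL.all (fun s => cndB t0P b12P b12P' R12 CL12 (fun i => sv 984818244535754528103549039458486304 (sv s i))) = true := by
  decide +kernel

set_option maxRecDepth 1000000 in
theorem cnd12_c1 :
    M11EL.all (fun s => cndB t0P b12P b12P' R12 CL12 (fun i => sv 692660042211113276149685016064167233 (sv s i))) = true := by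
  decide +kernel

set_option maxRecDepth 1000000 in
theorem cnd12_c2 :
    M11EL.all (fun s => cndB t0P b12P b12P' R12 CL12 (fun i => sv 318538547259879962184468284234337474 (sv s i))) = true := by
  decide +kernel

set_option maxRecDepth 1000000 in
theorem cnd12_c3 :
    M11EL.all (fun s => cndB t0P b12P b12P' R12 CL12 (fun i => sv 974067180329820884612546652551845155 (sv s i))) = true := by
  decide +kernel

set_option maxRecDepth 1000000 in
theorem cnd12_c4 :
    M11EL.all (fun s => cndB t0P b12P b12P' R12 CL12 (fun i => sv 804058909238116027946970840528619556 (sv s i))) = true := by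
  decide +kernel

set_option maxRecDepth 1000000 in
theorem cnd12_c5 :
    M11EL.all (fun s => cndB t0P b12P b12P' R12 CL12 (fun i => sv 852129616014198234194323534165616677 (sv s i))) = true := by
  decide +kernel

set_option maxRecDepth 1000000 in
theorem cnd12_c6 :
    M11EL.all (fun s => cndB t0P b12P b12P' R12 CL12 (fun i => sv 848098328960940615791999642333527046 (sv s i))) = true := by
  decide +kernel

set_option maxRecDepth 1000000 in
theorem cnd12_c7 :
    M11EL.all (fun s => cndB t0P b12P b12P' R12 CL12 (fun i => sv 812893287787794176382559487276488872 (sv s i))) = true := by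
  decide +kernel

set_option maxRecDepth 1000000 in
theorem cnd12_c8 :
    M11EL.all (fun s => cndB t0P b12P b12P' R12 CL12 (fun i => sv 597585373122507956737177299240355881 (sv s i))) = true := by
  decide +kernel

set_option maxRecDepth 1000000 in
theorem cnd12_c9 :
    M11EL.all (fun s => cndB t0P b12P b12P' R12 CL12 (fun i => sv 984407287735974654271288210102620650 (sv s i))) = true := by
  decide +kernel

set_option maxRecDepth 1000000 in
theorem cnd12_c10 :
    M11EL.all (fun s => cndB t0P b12P b12P' R12 CL12 (fun i => sv 765487872852620618319304202740992047 (sv s i))) = true := by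
  decide +kernel

set_option maxRecDepth 1000000 in
theorem cnd12_c11 :
    M11EL.all (fun s => cndB t0P b12P b12P' R12 CL12 (fun i => sv 799154210308511423431056678111543409 (sv s i))) = true := by
  decide +kernel


theorem cnd12_ok : ∀ t ∈ T12,
    M11EL.all (fun s => cndB t0P b12P b12P' R12 CL12 (fun i => sv t (sv s i))) = true := by
  intro t ht
  simp only [T12, List.mem_cons, List.not_mem_nil, or_false] at ht
  rcases ht with rfl | rfl | rfl | rfl | rfl | rfl | rfl | rfl | rfl | rfl | rfl | rfl
  · exact cnd12_c0
  · exact cnd12_c1
  · exact cnd12_c2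
  · exact cnd12_c3
  · exact cnd12_c4
  · exact cnd12_c5
  · exact cnd12_c6
  · exact cnd12_c7
  · exact cnd12_c8
  · exact cnd12_c9
  · exact cnd12_c10
  · exact cnd12_c11

end Cfsg.Agent.H34
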