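import Cfsg.Agent.H34.M24AutA
import Cfsg.Prelude.Def_Spor_Mathieu

/-!
# Automorphisms of `M22`: the outer automorphism group has order two

The chain argument with the element of order 11, an element of order 5 normalising it and an
element of order 4 normalising the latter; the outer automorphism is the conjugation by an
involution of `M24` exchanging the two fixed points.
-/

set_option autoImplicit false

namespace Cfsg.Agent.H34

open Cfsg Cfsg.Agent.H9
open scoped Pointwise

theorem gPt_zero : gPt 0 = some 0 := by simp [gPt]

theorem gPt_inf : gPt 23 = none := by simp [gPt]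

theorem mem_M22_iff {g : Equiv.Perm GolayPt} :
    g ∈ Spor.M22 ↔ g ∈ M24 ∧ g (gPt 23) = gPt 23 ∧ g (gPt 0) = gPt 0 := by
  rw [gPt_zero, gPt_inf]
  simp only [Spor.M22, Spor.M23, Subgroup.mem_inf, MulAction.mem_stabilizer_iff,
    Equiv.Perm.smul_def, and_assoc]

theorem M22_le : Spor.M22 ≤ M24 := fun _ hg => (mem_M22_iff.mp hg).1

theorem lperm_mem_M22 {s : ℕ} (hs : okM24 s = true)
    (h : (Nat.beq (sv s 0) 0 && Nat.beq (sv s 23) 23) = true) : lperm s ∈ Spor.M22 := by
  rw [Bool.and_eq_true] at h
  refine mem_M22_iff.mpr ⟨lperm_mem_M24 hs, ?_, ?_⟩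
  · rw [lperm_apply (okM24_svalid hs), gIdx_gPt (by norm_num), Nat.eq_of_beq_eq_true h.2]
  · rw [lperm_apply (okM24_svalid hs), gIdx_gPt (by norm_num), Nat.eq_of_beq_eq_true h.1]

/-- An element of order 5 of `M22` normalising the subgroup generated by `b24P`. -/
def b22P : ℕ := 970459361523271695787015306425278496

/-- An element of order 4 of `M22` normalising the subgroup generated by `b22P`. -/
def c22P : ℕ := 971592914598343034710976577235617952

/-- An involution of `M24` exchanging the two fixed points, inverting `b24P` and commuting with
`b22P` and `c22P`. -/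
def g22P : ℕ := 23738686339186281899546858814486711

/-- The powers of `b22P`, from the first to the fourth. -/
def BL5 : List ℕ := [970459361523271695787015306425278496, 968955966875123533138286166201145376, 978076899444677511050001024522036256, 965300289861748889990672440075108384]

/-- The products of `c22P` with the powers of `b22P`. -/
def CB22 : List ℕ := [971592914598343034710976577235617952, 961446358753518740900183265768052896, 972852921263189925364643225991987360, 960106661994280428078404200614305952, 979544664369796679732502151852041376]

/-- Relations between `b24P` and `c22P` failing for the other candidates. -/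
def R22 : RelL := [([false, true], 7, true), ([false, false, true], 7, true)]

/-- A straight-line program from the three generators reaching a strong generating set. -/
def SLP22 : List (ℕ × ℕ × ℕ) := [(961365507626256404119956257276790816, 10, 3), (971592882964418941354553515258775584, 9, 5), (979121071158219704299181131031480352, 8, 6), (975346028712660580592452217730074656, 7, 6), (968708902336673183175954409307867168, 9, 5), (972512676110088067912772961567868960, 5, 8), (980224387687010295957922729495201824, 4, 10), (965128854020860192151391391390468128, 6, 9), (963721886883755259286232606933354528, 2, 133), (983548720921252936276249910206105632, 4, 132), (976448692869377735270425038196672544, 6, 131), (967812279691448225500382947153381408, 1, 13), (967738580936480664927891663448279072, 7, 11), (963582593757073591850928955785840672, 11, 7), (981818691054096003685363657089320992, 1, 10), (975754295934893126319599781779965984, 2, 8), (983271302155371035984055114495264800, 8, 2), (966182099583441531322624363496310816, 6, 1), (976909097487365034896521273070946336, 41, 30), (961409415667826064667231448532617248,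 30, 39), (984436632068016323118584907140532256, 16, 1), (984559288045672395699075860841728032, 1, 16), (975034621221208527148574516668794912, 36, 7), (980387487254749445020844698044237856, 6, 36), (969836898326968551397880902883313696, 3, 1), (963515095949177277443875056653535264, 1, 3), (980672675253907021562764385068845088, 36, 11), (978919966479226822581388001588611104, 9, 36), (964814382704083852376388633742510112, 14, 34), (967736399814119184820568640699566112, 34, 14), (967922996129322142687065624027695136, 25, 15), (964003056493991292843092388959389728, 13, 31), (975529566953508117686464978184767520, 31, 13), (971140178350169869617275687780157472, 13, 29), (965182136118044136288996283387283488, 29, 13), (980196299889904938888484792109991968, 13, 23), (982009244765976044190323411028445216, 23, 13), (979564699427418636421396718875248672, 13, 17), (975083881059325730487068853365114912, 17, 13), (968867065153972416576197650585651232, 11, 23), (967532269917795608261166275949135904, 23, 11), (962708746329750958865455491016493088, 11, 17), (959669356295913023828381245212461088, 17, 11), (965131035075015849898837032318863392,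 20, 11), (963346641302244241982471832828512288, 11, 18), (963824789087822382199838033533437984, 18, 13), (980226563732632765101527450628261920, 13, 16), (971552192056125901672610288160376864, 7, 11), (977871541593354397649032848603318304, 11, 7), (978185568693490561157851323605551136, 5, 13), (967768981687868742388307053739378720, 13, 5), (968912900032127568182918297745098784, 11, 3), (963622689626821674729737328088549408, 3, 11), (967601124949432676426012475972028448, 9, 5), (980659945285429986483690699286415392, 5, 9), (977621544128446532573497358555678752, 19, 1), (963591034324631849412424473746245664, 1, 19), (964847390434228569615928087096594464, 41, 20), (962289237000802257308905636882695200, 18, 41), (959451406792695100653932515533883424, 5, 1), (980633096028087438867112495488370720, 1, 5), (961249550681946764870140053412329504, 82, 22), (959951438090937094964441813682303008, 20, 33), (984534996141977609297800625156032544, 31, 80), (984769902586367543974814854303385632, 31, 30), (980747337929661736719021888413183008, 3, 33), (963553506138658502617068585850386464, 33, 3), (971125122559258282765461929287011360,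 5, 76), (977879719167744637351156139431284768, 27, 5), (965265440643394424000389797713756192, 5, 74), (970296100868769324787134536547315744, 25, 5), (970439113904133731357089650161371168, 5, 72), (968586037624577129971269864930030624, 23, 5), (984201481679962986940063858862234656, 7, 25), (984243475890652505955081765182098464, 25, 7), (970533114868804123765819035892359200, 9, 23), (978326401153112000228062716568539168, 23, 9), (969192610918565898168936684552525856, 9, 66), (964699148693276493679772495092255776, 17, 9), (975263489877008028149772600069112864, 7, 19), (963916965837474199064870387492469792, 19, 7), (958884373347878545652810198355020832, 7, 62), (982949405631865132666285925421111328, 13, 7), (972345343229328756870304486053268512, 5, 15), (971220744528308096388601287861130272, 15, 5), (981813420785505763810437852837292064, 57, 13), (963605104175864296380815482616397856, 13, 63), (965102256875004730103640868277993504, 3, 11), (969882822285374134860698308177217568, 11, 3), (965019718534836797550620169201983520, 3, 54), (974017784323799884468069586551646240, 5, 3), (973843820622353902008782544305575968,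 52, 7), (958359590719390210167753763818443808, 7, 3), (980561429393182785891440074495798304, 5, 50), (982039674185657663632002702460328992, 1, 5), (969160292160230017122544166829037600, 4, 4), (978076899444677511050001024522036256, 1, 52), (972852921263189925364643225991987360, 45, 51), (971795461774024463324370387449783456, 42, 51), (983065186069560088325262430649336864, 37, 1), (980955352321287403439080883277278240, 1, 37), (974413366612488539574606886418458880, 39, 26), (967930594597819218811168172907479488, 24, 46), (976937930048321947954596221586352544, 7, 39), (966393004695003891630708693943821760, 45, 7), (971858924817951781971248359785799136, 13, 35), (982771763305724257044699132186734048, 42, 13), (968542914025589045988561280603039168, 15, 33), (962384429720336418771715279293950048, 40, 15), (975682236602057174981184145083046592, 13, 33), (957154148225321642209203070188434656, 39, 13), (962059402338059712730523535909935520, 13, 29), (958570292008998200054535681635392096, 36, 13), (962337567855277688986390890163554432, 15, 31), (964881566828850631422085576588168480, 36, 15), (981561717943011753738169157370327232,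 15, 25), (975652755364485789391731136292602240, 32, 15), (967931992155034996124209367562630368, 13, 25), (980921234748432363318074817955308896, 31, 13), (959338569126937954691236080707378720, 11, 25), (980746303843228388338818976511111840, 30, 11), (958775594434396994563806290853205440, 13, 19), (962629368849054314911916656333838752, 26, 13), (983397861214110597825080499330361024, 11, 19), (957599056177643246977133399011314208, 25, 11), (959765056689745195626750889050757376, 9, 19), (958556167159350200491588049820131968, 24, 9), (982124124278357703536032259601154432, 9, 15), (974192857846616903476708535734645952, 21, 9), (970291861271415829892297804906541632, 7, 15), (975074981857073328387818560804173312, 20, 7), (957599965173965610068468416215593184, 7, 9), (983459282039568023475496093792705216, 16, 15), (980275914351787324191492553553580224, 5, 9), (974380510768821363662145534143076928, 15, 13), (971145362600166521812220306191095488, 5, 9), (956984442359364317686652124481818944, 14, 12), (975284342942119534910977467418354048, 7, 5), (980623620615494437327650338233436416, 11, 12), (977903326592794432676351619257413824,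 5, 5), (984818244535754528103549039458486304, 10, 4), (961365466224211430041156085672872096, 7, 0), (970499966350631336865513127433832480, 6, 6), (965300289861748889990672440075108384, 0, 0), (968955966875123533138286166201145376, 5, 5), (970567384681219435340729552166356352, 2, 0), (982051901153124072706648311500937312, 0, 0), (965063883269089610517257152230401536, 0, 0), (980668730378935070469623699575545984, 2, 2), (971592914598343034710976577235617952, 0, 0), (970459361523271695787015306425278496, 0, 0), (983435072843990828779021698901151808, 0, 0)]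

/-- The orbit of the fourth base point. -/
def O22_3 : List ℕ := [5, 14, 17]

/-- The orbit of the fifth base point. -/
def O22_4 : List ℕ := [4, 6, 7, 8, 9, 10, 11, 12, 13, 15, 16, 18, 19, 20, 21, 22]

/-- An element of `M24` mapping the four base points to the points `0, ∞, 2, 8`. -/
def w22P : ℕ := 601836579447955465408732543538432736

/-- Its inverse. -/
def wi22P : ℕ := 49637928548619607767560126525212928

/-- Elements of `M24` realising the possible images of `0, ∞, 2, 8` under an element of
`M22` commuting with `b22P`. -/
def RL22 : List ℕ := [984818244535754528103549039458486304, 975675537135223198825734660811230912, 959538034374907053171452677026582816, 979539382895621249257420746128857632, 983415825615844892438747491925990720, 982252321414438526691813546449674848, 984493151309183020353101857331488096, 984674398134570412947666313862720160, 964690094832698510982793584818990496, 968979542936252138159417201704743520, 974229240288874930814649463853036864, 965831954474671399395129810121931296, 972488943132194749370417900709887552, 960795780992459598457074047352750624, 957032397061389410190023098394330528,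 968576626061999362322321635164965472, 962062413422860289811066265951882560, 978072388290709901540768838397874496, 960638662276139187205831536714798496, 959825795834012831257997070785992832]

theorem b22_ok : okM24 b22P = true := by decide +kernel
theorem c22_ok : okM24 c22P = true := by decide +kernel
theorem g22_ok : okM24 g22P = true := by decide +kernel
theorem b22_valid : svalid b22P = true := okM24_svalid b22_ok
theorem c22_valid : svalid c22P = true := okM24_svalid c22_ok
theorem g22_valid : svalid g22P = true := okM24_svalid g22_ok

theorem a22_fix : (Nat.beq (sv b24P 0) 0 && Nat.beq (sv b24P 23) 23) = true := by decide +kernel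
theorem b22_fix : (Nat.beq (sv b22P 0) 0 && Nat.beq (sv b22P 23) 23) = true := by decide +kernel
theorem c22_fix : (Nat.beq (sv c22P 0) 0 && Nat.beq (sv c22P 23) 23) = true := by decide +kernel

theorem a22_H : lperm b24P ∈ Spor.M22 := lperm_mem_M22 b24_ok a22_fix
theorem b22_H : lperm b22P ∈ Spor.M22 := lperm_mem_M22 b22_ok b22_fix
theorem c22_H : lperm c22P ∈ Spor.M22 := lperm_mem_M22 c22_ok c22_fix

theorem BL5_len : BL5.length = 4 := by decide
theorem BL5_ok : pwChk b22P idP BL5 = true := by decide +kernel
theorem BL5_last : prB idP b22P (pwOf BL5 BL5.length) = true := by decide +kernel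

theorem b24_move : sv b24P 1 ≠ 1 := by decide +kernel

theorem b24_ne_one : lperm b24P ≠ 1 := by
  intro h
  have h1 := congrArg (fun f : Equiv.Perm GolayPt => gIdx (f (gPt 1))) h
  simp only [gIdx_lperm b24_valid, gIdx_gPt (by norm_num : 1 < 24), Equiv.Perm.one_apply] at h1
  exact b24_move h1

theorem N22_tab : (List.range (BL11.length + 1)).all (fun k => Nat.beq k 0 ||
    (List.range (BL5.length + 1)).any (fun j => conjB (pwOf BL5 j) (pwOf BL11 k) b24P ||
      conjB (pwOf BL5 j) (pwOf BL11 k) (pwOf BL11 BL11.length))) = true := by
  decide +kernel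

theorem ba22_rel : conjB b22P b24P (pwOf BL11 3) = true := by decide +kernel

theorem B1_22_tab : (List.range (BL11.length + 1)).all (fun k =>
    (List.range (BL11.length + 1)).any (fun j => mbuB (pwOf BL11 j) b22P (pwOf BL11 k))) = true := by
  decide +kernel

theorem cb22_rel : conjB c22P b22P (pwOf BL5 2) = true := by decide +kernel

theorem R22_ok : relB (sv b24P) (sv c22P) R22 = true := by decide +kernel

theorem CB22_ok : (List.range (BL5.length + 1)).all (fun i =>
    svalid (CB22.getD i 0) && prB (CB22.getD i 0) c22P (pwOf BL5 i)) = true := by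
  decide +kernel

theorem R22_bad : (List.range (BL5.length + 1)).all (fun i =>
    (Nat.beq i 0 || !(relB (sv b24P) (sv (CB22.getD i 0)) R22)) &&
    (Nat.beq i 0 || !(relB (sv (pwOf BL11 BL11.length)) (sv (CB22.getD i 0)) R22))) = true := by
  decide +kernel

/-! ### The centraliser of the element of order 5 -/

theorem w22_ok : okM24 w22P = true := by decide +kernel
theorem wi22_valid : svalid wi22P = true := by decide +kernel
theorem w22_inv : prB idP w22P wi22P = true := by decide +kernel

theorem w22_img : (Nat.beq (sv w22P 0) 0 && (Nat.beq (sv w22P 1) 23 &&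
    (Nat.beq (sv w22P 2) 2 && Nat.beq (sv w22P 3) 8))) = true := by decide +kernel

theorem RL22_ok : RL22.all okM24 = true := by decide +kernel

theorem RL22_cov : allB (fun v => Nat.beq (sv b22P v) v ||
    RL22.any (fun r => Nat.beq (sv r 0) 0 && (Nat.beq (sv r 23) 23 &&
      (Nat.beq (sv r 2) v && Nat.beq (sv r 8) (sv b22P v))))) 24 = true := by
  decide +kernel

theorem b22_vals : Nat.beq (sv b22P 2) 8 = true := by decide +kernel

set_option maxRecDepth 1000000 in
theorem cb22_main : RL22.all (fun r => Q4EL.all (fun s =>
    !(commF (fun i => sv r (sv w22P (sv s (sv wi22P i)))) b22P) ||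
    (idP :: BL5).any (fun p => eqF (fun i => sv r (sv w22P (sv s (sv wi22P i)))) p))) = true := by
  decide +kernel

/-- An element of `M22` commuting with the element of order 5 is one of its powers. -/
theorem cent_b22 {z : Equiv.Perm GolayPt} (hz : z ∈ Spor.M22)
    (hc : z * lperm b22P = lperm b22P * z) : ∃ k : ℕ, z = lperm b22P ^ k := by
  have hbv := b22_valid
  obtain ⟨hzM, hz23, hz0⟩ := mem_M22_iff.mp hz
  have hcq : ∀ q, z (lperm b22P q) = lperm b22P (z q) := by
    intro q
    have h5 := congrArg (fun f : Equiv.Perm GolayPt => f q) hc
    simp only [Equiv.Perm.mul_apply] at h5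
    exact h5
  have eb1 : lperm b22P (gPt 2) = gPt 8 := by
    rw [lperm_apply hbv, gIdx_gPt (by norm_num), Nat.eq_of_beq_eq_true b22_vals]
  have key : lperm b22P (z (gPt 2)) ≠ z (gPt 2) := by
    intro h
    rw [← hcq, eb1] at h
    have h3 := z.injective h
    have h4 := congrArg gIdx h3
    rw [gIdx_gPt (by norm_num), gIdx_gPt (by norm_num)] at h4
    exact absurd h4 (by norm_num)
  have hvfix : Nat.beq (sv b22P (gIdx (z (gPt 2)))) (gIdx (z (gPt 2))) = false := by
    by_contra h
    rw [Bool.not_eq_false] at h
    apply key
    rw [lperm_apply hbv, Nat.eq_of_beq_eq_true h, gPt_gIdx]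
  have hz2 : z (gPt 8) = gPt (sv b22P (gIdx (z (gPt 2)))) := by
    rw [← eb1, hcq, lperm_apply hbv]
  have hcov := (allB_iff _ _).mp RL22_cov _ (gIdx_lt (z (gPt 2)))
  rw [hvfix, Bool.false_or] at hcov
  obtain ⟨r, hr, hrr⟩ := List.any_eq_true.mp hcov
  simp only [Bool.and_eq_true] at hrr
  obtain ⟨hr0, hr23, hr1, hr2⟩ := hrr
  have hrok := List.all_eq_true.mp RL22_ok r hr
  have hrv := okM24_svalid hrok
  have hwv := okM24_svalid w22_ok
  have hwi := w22_img
  simp only [Bool.and_eq_true] at hwi
  obtain ⟨hw0, hw1, hw2, hw3⟩ := hwi
  have hagree : ∀ i, i < 4 → z (lperm w22P (gPt i)) = lperm r (lperm w22P (gPt i)) := by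
    intro i hi
    interval_cases i
    · rw [lperm_apply hwv, gIdx_gPt (by norm_num), Nat.eq_of_beq_eq_true hw0, lperm_apply hrv,
        gIdx_gPt (by norm_num), Nat.eq_of_beq_eq_true hr0, hz0]
    · rw [lperm_apply hwv, gIdx_gPt (by norm_num), Nat.eq_of_beq_eq_true hw1, lperm_apply hrv,
        gIdx_gPt (by norm_num), Nat.eq_of_beq_eq_true hr23, hz23]
    · rw [lperm_apply hwv, gIdx_gPt (by norm_num), Nat.eq_of_beq_eq_true hw2, lperm_apply hrv,
        gIdx_gPt (by norm_num), Nat.eq_of_beq_eq_true hr1, gPt_gIdx]
    · rw [lperm_apply hwv, gIdx_gPt (by norm_num), Nat.eq_of_beq_eq_true hw3, lperm_apply hrv,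
        gIdx_gPt (by norm_num), Nat.eq_of_beq_eq_true hr2, hz2]
  obtain ⟨s, hs, e⟩ := coset_base w22_ok wi22_valid w22_inv hzM (lperm_mem_M24 hrok) hagree
  have hsv := Q4EL_valid hs
  have hf : IdxF z (fun i => sv r (sv w22P (sv s (sv wi22P i)))) := by
    intro p
    rw [e]
    simp only [Equiv.Perm.mul_apply, gIdx_lperm hrv, gIdx_lperm hwv, gIdx_lperm hsv,
      gIdx_lperm wi22_valid]
  have hmain := List.all_eq_true.mp (List.all_eq_true.mp cb22_main r hr) s hs
  rw [commF_of_comm hf hbv hc, Bool.not_true, Bool.false_or] at hmain
  obtain ⟨p, hp, hpe⟩ := List.any_eq_true.mp hmain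
  obtain ⟨hpv, k, hk⟩ := pw_mem hbv BL5_ok hp
  exact ⟨k, by rw [eq_of_eqF hf hpv hpe, hk]⟩

/-! ### Generation -/

theorem SLP22_ok : slpL [b24P, b22P, c22P] SLP22 = true := by decide +kernel
theorem SLP22_l0 : lvB [23, 0] 1 (freeL [23, 0]) SLP22 = true := by decide +kernel
theorem SLP22_l1 : lvB [1, 23, 0] 2 (freeL [1, 23, 0]) SLP22 = true := by decide +kernel
theorem SLP22_l2 : lvB [2, 1, 23, 0] 3 (freeL [2, 1, 23, 0]) SLP22 = true := by decide +kernel
theorem SLP22_l3 : lvB [3, 2, 1, 23, 0] 5 O22_3 SLP22 = true := by decide +kernel
theorem SLP22_l4 : lvB [5, 3, 2, 1, 23, 0] 4 O22_4 SLP22 = true := by decide +kernel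

theorem q22_t3 : Q4EL.all (fun s => !(([23] : List ℕ).all (fun i => Nat.beq (sv s i) i)) ||
    O22_3.any (fun j => Nat.beq (sv s 5) j)) = true := by decide +kernel

theorem q22_t4 : Q4EL.all (fun s => !(([5, 23] : List ℕ).all (fun i => Nat.beq (sv s i) i)) ||
    O22_4.any (fun j => Nat.beq (sv s 4) j)) = true := by decide +kernel

theorem q22_bot : Q4EL.all (fun s => !(([4, 5, 23] : List ℕ).all (fun i => Nat.beq (sv s i) i)) ||
    Nat.beq s idP) = true := by decide +kernel

/-- A homomorphism of `M22` fixing the three generators is the identity. -/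
theorem gen22 (ψ : ↥Spor.M22 →* ↥Spor.M22)
    (ha : ψ ⟨lperm b24P, a22_H⟩ = ⟨lperm b24P, a22_H⟩)
    (hb : ψ ⟨lperm b22P, b22_H⟩ = ⟨lperm b22P, b22_H⟩)
    (hc : ψ ⟨lperm c22P, c22_H⟩ = ⟨lperm c22P, c22_H⟩) (g : ↥Spor.M22) : ψ g = g := by
  have hgens : ∀ s ∈ [b24P, b22P, c22P], FixG ψ s := by
    intro s hs
    simp only [List.mem_cons, List.not_mem_nil, or_false] at hs
    rcases hs with rfl | rfl | rfl
    · exact ⟨b24_valid, ⟨lperm b24P, a22_H⟩, rfl, ha⟩
    · exact ⟨b22_valid, ⟨lperm b22P, b22_H⟩, rfl, hb⟩
    · exact ⟨c22_valid, ⟨lperm c22P, c22_H⟩, rfl, hc⟩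
  have hS := FixG_slpL hgens SLP22_ok
  have hM : ∀ g : ↥Spor.M22, (g : Equiv.Perm GolayPt) ∈ M24 := fun g => M22_le g.2
  have h6 : ∀ g : ↥Spor.M22, (∀ i ∈ [4, 5, 3, 2, 1, 23, 0],
      (g : Equiv.Perm GolayPt) (gPt i) = gPt i) → ψ g = g := by
    intro g hg
    have h1 : (g : Equiv.Perm GolayPt) = 1 :=
      q4_bot (B' := [4, 5, 23]) (by decide) q22_bot (hM g) (fix4 (by decide) hg)
        (sub_fix (by decide) hg)
    have h2 : g = 1 := Subtype.ext h1
    rw [h2, map_one]
  have h5 := desc_gen hS [5, 3, 2, 1, 23, 0] (by decide) 4 (by norm_num) O22_4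
    (fun g hg => q4_target (B' := [5, 23]) (by norm_num) (by decide) q22_t4 (hM g)
      (fix4 (by decide) hg) (sub_fix (by decide) hg)) SLP22_l4 h6
  have h4 := desc_gen hS [3, 2, 1, 23, 0] (by decide) 5 (by norm_num) O22_3
    (fun g hg => q4_target (B' := [23]) (by norm_num) (by decide) q22_t3 (hM g)
      (fix4 (by decide) hg) (sub_fix (by decide) hg)) SLP22_l3 h5
  have h3 := desc_gen hS [2, 1, 23, 0] (by decide) 3 (by norm_num) (freeL [2, 1, 23, 0])
    (fun g hg => inj_target hg (by norm_num) (by decide)) SLP22_l2 h4
  have h2 := desc_gen hS [1, 23, 0] (by decide) 2 (by norm_num) (freeL [1, 23, 0])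
    (fun g hg => inj_target hg (by norm_num) (by decide)) SLP22_l1 h3
  have h1 := desc_gen hS [23, 0] (by decide) 1 (by norm_num) (freeL [23, 0])
    (fun g hg => inj_target hg (by norm_num) (by decide)) SLP22_l0 h2
  refine h1 g (fun i hi => ?_)
  have hm := mem_M22_iff.mp g.2
  simp only [List.mem_cons, List.not_mem_nil, or_false] at hi
  rcases hi with rfl | rfl
  · exact hm.2.1
  · exact hm.2.2

/-! ### The outer automorphism -/

theorem g22_swap : (Nat.beq (sv g22P 0) 23 && Nat.beq (sv g22P 23) 0) = true := by decide +kernel

theorem norm22 (k : Equiv.Perm GolayPt) :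
    k ∈ Spor.M22 ↔ (lperm g22P)⁻¹ * k * lperm g22P ∈ Spor.M22 := by
  have hm := lperm_mem_M24 g22_ok
  have hv := g22_valid
  have hs := g22_swap
  rw [Bool.and_eq_true] at hs
  have e0 : lperm g22P (gPt 0) = gPt 23 := by
    rw [lperm_apply hv, gIdx_gPt (by norm_num), Nat.eq_of_beq_eq_true hs.1]
  have e23 : lperm g22P (gPt 23) = gPt 0 := by
    rw [lperm_apply hv, gIdx_gPt (by norm_num), Nat.eq_of_beq_eq_true hs.2]
  rw [mem_M22_iff, mem_M22_iff]
  constructor
  · rintro ⟨h0, h1, h2⟩
    refine ⟨mul_mem (mul_mem (inv_mem hm) h0) hm, ?_, ?_⟩
    · rw [Equiv.Perm.mul_apply, Equiv.Perm.mul_apply, e23, h2, Equiv.Perm.inv_eq_iff_eq, e23]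
    · rw [Equiv.Perm.mul_apply, Equiv.Perm.mul_apply, e0, h1, Equiv.Perm.inv_eq_iff_eq, e0]
  · rintro ⟨h0, h1, h2⟩
    refine ⟨?_, ?_, ?_⟩
    · have e : k = lperm g22P * ((lperm g22P)⁻¹ * k * lperm g22P) * (lperm g22P)⁻¹ := by group
      rw [e]
      exact mul_mem (mul_mem hm h0) (inv_mem hm)
    · rw [Equiv.Perm.mul_apply, Equiv.Perm.mul_apply, e0, Equiv.Perm.inv_eq_iff_eq, e0] at h2
      exact h2
    · rw [Equiv.Perm.mul_apply, Equiv.Perm.mul_apply, e23, Equiv.Perm.inv_eq_iff_eq, e23] at h1
      exact h1

/-- The outer automorphism: conjugation by an involution exchanging the two fixed points. -/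
noncomputable def tau22 : MulAut ↥Spor.M22 := conjIsoG (lperm g22P) norm22

theorem g22_a : conjB g22P (pwOf BL11 BL11.length) b24P = true := by decide +kernel
theorem g22_b : conjB g22P b22P b22P = true := by decide +kernel
theorem g22_c : conjB g22P c22P c22P = true := by decide +kernel

theorem tau22_a : tau22 ⟨lperm b24P, a22_H⟩ = (⟨lperm b24P, a22_H⟩ : ↥Spor.M22)⁻¹ := by
  apply Subtype.ext
  show (lperm g22P)⁻¹ * lperm b24P * lperm g22P = (lperm b24P)⁻¹
  obtain ⟨hlv, hl⟩ := pwOf_spec b24_valid BL11_ok (k := BL11.length) (by omega)
  have hap : lperm b24P ^ (BL11.length + 1) = 1 := pw_order b24_valid BL11_ok BL11_last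
  have e2 : lperm b24P ^ BL11.length = (lperm b24P)⁻¹ := by
    apply eq_inv_of_mul_eq_one_left
    rw [← pow_succ]
    exact hap
  rw [mul_assoc, ← conjB_sound g22_valid hlv b24_valid g22_a, ← mul_assoc, inv_mul_cancel,
    one_mul, hl, e2]

theorem tau22_b : tau22 ⟨lperm b22P, b22_H⟩ = ⟨lperm b22P, b22_H⟩ := by
  apply Subtype.ext
  show (lperm g22P)⁻¹ * lperm b22P * lperm g22P = lperm b22P
  rw [mul_assoc, ← conjB_sound g22_valid b22_valid b22_valid g22_b, ← mul_assoc, inv_mul_cancel,
    one_mul]

theorem tau22_c : tau22 ⟨lperm c22P, c22_H⟩ = ⟨lperm c22P, c22_H⟩ := by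
  apply Subtype.ext
  show (lperm g22P)⁻¹ * lperm c22P * lperm g22P = lperm c22P
  rw [mul_assoc, ← conjB_sound g22_valid c22_valid c22_valid g22_c, ← mul_assoc, inv_mul_cancel,
    one_mul]

theorem tau22_not_inner : ¬ ∃ m : ↥Spor.M22, tau22 = MulAut.conj m := by
  rintro ⟨m, hm⟩
  have h1 := DFunLike.congr_fun hm ⟨lperm b24P, a22_H⟩
  have h2 : (lperm g22P)⁻¹ * lperm b24P * lperm g22P =
      (m : Equiv.Perm GolayPt) * lperm b24P * (m : Equiv.Perm GolayPt)⁻¹ :=
    congrArg Subtype.val h1
  have hmM := mem_M22_iff.mp m.2
  have hz : lperm g22P * (m : Equiv.Perm GolayPt) ∈ M24 :=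
    mul_mem (lperm_mem_M24 g22_ok) hmM.1
  have hc : (lperm g22P * (m : Equiv.Perm GolayPt)) * lperm b24P =
      lperm b24P * (lperm g22P * (m : Equiv.Perm GolayPt)) := by
    have e : (lperm g22P * (m : Equiv.Perm GolayPt)) * lperm b24P =
        lperm g22P * ((m : Equiv.Perm GolayPt) * lperm b24P * (m : Equiv.Perm GolayPt)⁻¹) *
          (m : Equiv.Perm GolayPt) := by group
    rw [e, ← h2]
    group
  obtain ⟨k, hk⟩ := cent_b24 hz hc
  have h3 : (lperm b24P ^ k) (gPt 0) = gPt 0 := (mem_M22_iff.mp (pow_mem a22_H k)).2.2
  have hs := g22_swap
  rw [Bool.and_eq_true] at hs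
  have h4 := congrArg (fun f : Equiv.Perm GolayPt => gIdx (f (gPt 0))) hk
  simp only [Equiv.Perm.mul_apply] at h4
  rw [hmM.2.2, h3, gIdx_lperm g22_valid, gIdx_gPt (by norm_num : 0 < 24),
    Nat.eq_of_beq_eq_true hs.1] at h4
  exact absurd h4 (by norm_num)

/-! ### The automorphism group -/

theorem ord_a22 : orderOf (⟨lperm b24P, a22_H⟩ : ↥Spor.M22) = 11 := by
  have h := ord_concrete (H := Spor.M22) b24_valid BL11_ok BL11_last (by rw [BL11_len]; norm_num)
    a22_H b24_ne_one
  rw [BL11_len] at h
  exact h

theorem finite_M22 : Finite ↥Spor.M22 := by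
  haveI := finite_M24
  exact Finite.of_injective (Subgroup.inclusion M22_le) (Subgroup.inclusion_injective M22_le)

/-- Every automorphism of `M22` is inner, or inner times the outer automorphism. -/
theorem aut22 (α : MulAut ↥Spor.M22) :
    (∃ g : ↥Spor.M22, α = MulAut.conj g) ∨ ∃ g : ↥Spor.M22, α = MulAut.conj g * tau22 := by
  haveI := finite_M22
  haveI : Fact (Nat.Prime 11) := ⟨by norm_num⟩
  refine aut_of_chain (p := 11) (fact_sub M22_le (by norm_num) fact_11 ord_a22)
    ⟨lperm b24P, a22_H⟩ ⟨lperm b22P, b22_H⟩ ⟨lperm c22P, c22_H⟩ ord_a22
    (hN_concrete b24_valid b22_valid BL11_ok BL5_ok BL11_last a22_H b22_H N22_tab)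
    3 (hba_concrete b24_valid b22_valid BL11_ok a22_H b22_H (by rw [BL11_len]; norm_num)
      ba22_rel)
    (hC_lift a22_H (fun x hx hc => cent_b24 (M22_le hx) hc))
    (hb1_concrete b24_valid b22_valid BL11_ok BL11_last a22_H b22_H B1_22_tab)
    2 (hcb_concrete b22_valid c22_valid BL5_ok b22_H c22_H (by rw [BL5_len]; norm_num) cb22_rel)
    (hC_lift b22_H (fun x hx hc => cent_b22 hx hc))
    tau22 ?_ gen22 α
  intro φ hφa hφb hφc
  rcases h5_concrete b24_valid b22_valid c22_valid BL11_ok BL5_ok BL11_last BL5_last a22_H
    b22_H c22_H R22 R22_ok CB22 CB22_ok 0 R22_bad φ hφa hφc with h | ⟨h1, _, h2⟩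
  · exact Or.inl h
  · right
    rw [pow_zero, mul_one] at h2
    exact ⟨by rw [h1, tau22_a], by rw [hφb, tau22_b], by rw [h2, tau22_c]⟩

/-- The outer automorphism group of `M22` has order two. -/
theorem out22 : Nat.card (Cfsg.Out ↥Spor.M22) = 2 := out_card_two tau22 aut22 tau22_not_inner

end Cfsg.Agent.H34
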