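import Cfsg.Agent.H34.AutChainC

/-!
# Automorphisms of `M24` and `M23`, part A: the elements of orders 23 and 11 and their
centralisers
-/

set_option autoImplicit false

namespace Cfsg.Agent.H34

open Cfsg Cfsg.Agent.H9
open scoped Pointwise

/-- The translation `t ↦ t + 1`, of order 23. -/
def a24P : ℕ := 956302485175575353788796878166559809

/-- The multiplication `t ↦ 2 t`, of order 11. -/
def b24P : ℕ := 983435072843990828779021698901151808

/-- The powers of `a24P`, from the first to the 22nd. -/
def AL23 : List ℕ := [956302485175575353788796878166559809, 956709441910203461498593497208492130, 958020233522794296771657265635857539, 959359269975321467281073132481517732, 960699189079096648266625002402749637, 962039135765723329579556122420093158, 963379083314314120277717844002940167, 964719030889841289394168021884709160, 966058978466210220336189714025819465, 967398926042605456335260515987534186, 968738873619001514367364102631142795, 970078821195397598087999963796060588, 971418768771793682611402458539769293, 972758716348189767159891410582815214, 974098663924585851709164314416465423,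 975438611500981936258461716743572016, 976778559077378020807759884648599121, 978118506653774105357058076477936242, 979458454230170189906356269054908051, 980798401806566274455654461655243444, 982138349382962359004952654256308949, 983478296959358443554250846857397270]

/-- The powers of `b24P`, from the first to the tenth. -/
def BL11 : List ℕ := [983435072843990828779021698901151808, 980668730378935070469623699575545984, 975166140090675008210365318152896768, 965063883269089610517257152230401536, 973782968399780250007192978068752672, 962298451038133363011374430748423744, 969184212989482915311201746032266656, 982051901153124072706648311500937312, 977903326592794432676351619257413824, 970567384681219435340729552166356352]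

theorem a24_ok : okM24 a24P = true := by decide +kernel
theorem b24_ok : okM24 b24P = true := by decide +kernel
theorem a24_valid : svalid a24P = true := okM24_svalid a24_ok
theorem b24_valid : svalid b24P = true := okM24_svalid b24_ok
theorem a24_H : lperm a24P ∈ M24 := lperm_mem_M24 a24_ok
theorem b24_H : lperm b24P ∈ M24 := lperm_mem_M24 b24_ok

theorem AL23_len : AL23.length = 22 := by decide
theorem BL11_len : BL11.length = 10 := by decide

theorem AL23_ok : pwChk a24P idP AL23 = true := by decide +kernel
theorem AL23_last : prB idP a24P (pwOf AL23 AL23.length) = true := by decide +kernel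
theorem BL11_ok : pwChk b24P idP BL11 = true := by decide +kernel
theorem BL11_last : prB idP b24P (pwOf BL11 BL11.length) = true := by decide +kernel

theorem a24_move : sv a24P 0 ≠ 0 := by decide +kernel

theorem a24_ne_one : lperm a24P ≠ 1 := by
  intro h
  have h1 := congrArg (fun f : Equiv.Perm GolayPt => gIdx (f (gPt 0))) h
  simp only [gIdx_lperm a24_valid, gIdx_gPt (by norm_num : 0 < 24), Equiv.Perm.one_apply] at h1
  exact a24_move h1

theorem N24_tab : (List.range (AL23.length + 1)).all (fun k => Nat.beq k 0 ||
    (List.range (BL11.length + 1)).any (fun j => conjB (pwOf BL11 j) (pwOf AL23 k) a24P ||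
      conjB (pwOf BL11 j) (pwOf AL23 k) (pwOf AL23 AL23.length))) = true := by
  decide +kernel

theorem ba24_rel : conjB b24P a24P (pwOf AL23 2) = true := by decide +kernel

theorem B1_24_tab : (List.range (AL23.length + 1)).all (fun k =>
    (List.range (AL23.length + 1)).any (fun j => mbuB (pwOf AL23 j) b24P (pwOf AL23 k))) = true := by
  decide +kernel

/-! ### The centraliser of the element of order 23 -/

theorem a24_act : (List.range 23).all (fun k =>
    Nat.beq (sv (pwOf AL23 k) 0) k && Nat.beq (sv (pwOf AL23 k) 23) 23) = true := by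
  decide +kernel

theorem a24_sym : (List.range 23).all (fun i => (List.range 23).all (fun j =>
    Nat.beq (sv (pwOf AL23 i) j) (sv (pwOf AL23 j) i))) = true := by
  decide +kernel

theorem a24_fix : allB (fun i => Nat.beq i 23 || !(Nat.beq (sv a24P i) i)) 24 = true := by
  decide +kernel

theorem a24_inf : sv a24P 23 = 23 := by decide +kernel

/-- A permutation commuting with the element of order 23 is one of its powers. -/
theorem cent_a24 {x : Equiv.Perm GolayPt} (hx : x * lperm a24P = lperm a24P * x) :
    ∃ k : ℕ, x = lperm a24P ^ k := by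
  have hav := a24_valid
  have hpw : ∀ k, k < 23 → svalid (pwOf AL23 k) = true ∧
      lperm (pwOf AL23 k) = lperm a24P ^ k := fun k hk =>
    pwOf_spec hav AL23_ok (by rw [AL23_len]; omega)
  have hcomm : ∀ k, k < 23 → x * lperm (pwOf AL23 k) = lperm (pwOf AL23 k) * x := by
    intro k hk
    rw [(hpw k hk).2]
    exact (Commute.pow_right (show Commute x (lperm a24P) from hx) k).eq
  have hact : ∀ k, k < 23 → sv (pwOf AL23 k) 0 = k ∧ sv (pwOf AL23 k) 23 = 23 := by
    intro k hk
    have h := List.all_eq_true.mp a24_act k (List.mem_range.mpr hk)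
    rw [Bool.and_eq_true] at h
    exact ⟨Nat.eq_of_beq_eq_true h.1, Nat.eq_of_beq_eq_true h.2⟩
  have h23 : x (gPt 23) = gPt 23 := by
    have h1 := congrArg (fun f : Equiv.Perm GolayPt => f (gPt 23)) hx
    simp only [Equiv.Perm.mul_apply] at h1
    rw [lperm_apply hav (gPt 23), gIdx_gPt (by norm_num), a24_inf] at h1
    have h2 := congrArg gIdx h1
    rw [gIdx_lperm hav] at h2
    have h3 := (allB_iff _ _).mp a24_fix _ (gIdx_lt (x (gPt 23)))
    rw [← h2, Nat.beq_refl] at h3
    simp only [Bool.not_true, Bool.or_false] at h3
    rw [← gPt_gIdx (x (gPt 23)), Nat.eq_of_beq_eq_true h3]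
  have hj : gIdx (x (gPt 0)) < 23 := by
    have h1 := gIdx_lt (x (gPt 0))
    rcases Nat.lt_or_ge (gIdx (x (gPt 0))) 23 with h | h
    · exact h
    · exfalso
      have e : gIdx (x (gPt 0)) = 23 := by omega
      have h2 : x (gPt 0) = gPt 23 := by rw [← gPt_gIdx (x (gPt 0)), e]
      have h3 := x.injective (h2.trans h23.symm)
      have h4 := congrArg gIdx h3
      rw [gIdx_gPt (by norm_num), gIdx_gPt (by norm_num)] at h4
      exact absurd h4 (by norm_num)
  refine ⟨gIdx (x (gPt 0)), ?_⟩
  rw [← (hpw _ hj).2]
  apply Equiv.ext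
  intro q
  apply gIdx_injective
  rw [gIdx_lperm (hpw _ hj).1]
  rcases Nat.lt_or_ge (gIdx q) 23 with hi | hi
  · have hq : lperm (pwOf AL23 (gIdx q)) (gPt 0) = q := by
      rw [lperm_apply (hpw _ hi).1, gIdx_gPt (by norm_num), (hact _ hi).1, gPt_gIdx]
    have h1 : x q = lperm (pwOf AL23 (gIdx q)) (x (gPt 0)) := by
      have h5 := congrArg (fun f : Equiv.Perm GolayPt => f (gPt 0)) (hcomm _ hi)
      simp only [Equiv.Perm.mul_apply] at h5
      rw [hq] at h5
      exact h5
    rw [h1, gIdx_lperm (hpw _ hi).1]
    exact Nat.eq_of_beq_eq_true (List.all_eq_true.mp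
      (List.all_eq_true.mp a24_sym _ (List.mem_range.mpr hi)) _ (List.mem_range.mpr hj))
  · have e : gIdx q = 23 := by
      have := gIdx_lt q
      omega
    have hq : q = gPt 23 := by rw [← gPt_gIdx q, e]
    rw [hq, h23, gIdx_gPt (by norm_num), (hact _ hj).2]

/-! ### The centraliser of the element of order 11 -/

/-- An element of `M24` mapping the four base points to the points `0, ∞, 1, 2`. -/
def w24P : ℕ := 853579756688108657163914129594975968

/-- Its inverse. -/
def wi24P : ℕ := 66393623195135699148455050086747200

/-- Elements of `M24` realising the possible images of `0, ∞, 1, 2` under an element commuting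
with `b24P`. -/
def RL24 : List ℕ := [984818244535754528103549039458486304, 983435072843990828779021698901151808, 984444157648628927422555044799223904, 980668730378935070469623699575545984, 970013252773947150406342195681110176, 982686927571062741593606052170543296, 981439584223258036446675352904317152, 970153664750120696298508886721249536, 981891815826421751199859901701081376, 984613815600015269656620486047224128, 975399598085175588608853591961360736, 970567384681219435340729552166356352, 969927982028180154424190624490786208, 977640838621060914847274758350149056, 968425681537536710047015686847995360, 983991688186770018405589933086615040, 980785914923783150567579905846390304, 977583155912480564851738346096277056, 962385695400323178469895031478369888, 983027155459668475977338740051396224, 973812026848765175569488322640400032, 964597779971535187721608057987749568, 7271486844730026437366892329240631, 13609982818989837247051576497541207, 19919321968349205630885883995723895, 26256906818740977468110214309388439, 5333809003096182019372930934646967, 9981997374931971074143343520198871,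 2055063036401331056936363518703863, 22658077338515514178712905169879319, 28967417349838991119115482798147895, 12338579786292969034217405281947991, 26301867089278491443052967688919415, 19030092756421757391036064031999383, 25368587869586374222442463496736183, 3147978349653863816506225970058711, 15970418544662481273896853232328183, 14498300907049219997221172577773079, 13150948225834412393533361546047031, 28079098399815498983689996384974423, 8451719374410382871492104895938167, 23743228243689824127401856341821079, 14647165584132285843677745276702391, 22717931681685808565234890257684183]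

theorem w24_ok : okM24 w24P = true := by decide +kernel
theorem wi24_valid : svalid wi24P = true := by decide +kernel
theorem w24_inv : prB idP w24P wi24P = true := by decide +kernel

theorem w24_img : (Nat.beq (sv w24P 0) 0 && (Nat.beq (sv w24P 1) 23 &&
    (Nat.beq (sv w24P 2) 1 && Nat.beq (sv w24P 3) 2))) = true := by decide +kernel

theorem RL24_ok : RL24.all okM24 = true := by decide +kernel

theorem RL24_cov : allB (fun v => Nat.beq v 0 || (Nat.beq v 23 ||
    ([0, 23] : List ℕ).all (fun u => RL24.any (fun r => Nat.beq (sv r 0) u &&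
      (Nat.beq (sv r 23) (23 - u) && (Nat.beq (sv r 1) v && Nat.beq (sv r 2) (sv b24P v))))))) 24
    = true := by
  decide +kernel

theorem b24_fix : allB (fun i => Nat.beq i 0 || (Nat.beq i 23 || !(Nat.beq (sv b24P i) i))) 24
    = true := by
  decide +kernel

theorem b24_vals : (Nat.beq (sv b24P 0) 0 && (Nat.beq (sv b24P 23) 23 && Nat.beq (sv b24P 1) 2))
    = true := by
  decide +kernel

set_option maxRecDepth 1000000 in
theorem cb24_main : RL24.all (fun r => Q4EL.all (fun s =>
    !(commF (fun i => sv r (sv w24P (sv s (sv wi24P i)))) b24P) ||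
    (idP :: BL11).any (fun p => eqF (fun i => sv r (sv w24P (sv s (sv wi24P i)))) p))) = true := by
  decide +kernel

/-- An element of `M24` commuting with the element of order 11 is one of its powers. -/
theorem cent_b24 {z : Equiv.Perm GolayPt} (hz : z ∈ M24)
    (hc : z * lperm b24P = lperm b24P * z) : ∃ k : ℕ, z = lperm b24P ^ k := by
  have hbv := b24_valid
  have hcq : ∀ q, z (lperm b24P q) = lperm b24P (z q) := by
    intro q
    have h5 := congrArg (fun f : Equiv.Perm GolayPt => f q) hc
    simp only [Equiv.Perm.mul_apply] at h5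
    exact h5
  have hfixb : ∀ q, lperm b24P q = q → gIdx q = 0 ∨ gIdx q = 23 := by
    intro q hq
    have h1 := congrArg gIdx hq
    rw [gIdx_lperm hbv] at h1
    have h2 := (allB_iff _ _).mp b24_fix _ (gIdx_lt q)
    rw [h1, Nat.beq_refl] at h2
    simp only [Bool.not_true, Bool.or_false, Bool.or_eq_true] at h2
    rcases h2 with h | h
    · exact Or.inl (Nat.eq_of_beq_eq_true h)
    · exact Or.inr (Nat.eq_of_beq_eq_true h)
  have hv := b24_vals
  simp only [Bool.and_eq_true] at hv
  obtain ⟨hb0, hb23, hb1⟩ := hv
  have eb0 : lperm b24P (gPt 0) = gPt 0 := by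
    rw [lperm_apply hbv, gIdx_gPt (by norm_num), Nat.eq_of_beq_eq_true hb0]
  have eb23 : lperm b24P (gPt 23) = gPt 23 := by
    rw [lperm_apply hbv, gIdx_gPt (by norm_num), Nat.eq_of_beq_eq_true hb23]
  have eb1 : lperm b24P (gPt 1) = gPt 2 := by
    rw [lperm_apply hbv, gIdx_gPt (by norm_num), Nat.eq_of_beq_eq_true hb1]
  have hu : gIdx (z (gPt 0)) = 0 ∨ gIdx (z (gPt 0)) = 23 := hfixb _ (by rw [← hcq, eb0])
  have hu' : gIdx (z (gPt 23)) = 0 ∨ gIdx (z (gPt 23)) = 23 := hfixb _ (by rw [← hcq, eb23])
  have hne : gIdx (z (gPt 0)) ≠ gIdx (z (gPt 23)) := by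
    intro h
    have h3 := z.injective (gIdx_injective h)
    have h4 := congrArg gIdx h3
    rw [gIdx_gPt (by norm_num), gIdx_gPt (by norm_num)] at h4
    exact absurd h4 (by norm_num)
  have hu'' : gIdx (z (gPt 23)) = 23 - gIdx (z (gPt 0)) := by omega
  have key : lperm b24P (z (gPt 1)) ≠ z (gPt 1) := by
    intro h
    rw [← hcq, eb1] at h
    have h3 := z.injective h
    have h4 := congrArg gIdx h3
    rw [gIdx_gPt (by norm_num), gIdx_gPt (by norm_num)] at h4
    exact absurd h4 (by norm_num)
  have hv0 : gIdx (z (gPt 1)) ≠ 0 := by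
    intro h
    apply key
    rw [← gPt_gIdx (z (gPt 1)), h]
    exact eb0
  have hv23 : gIdx (z (gPt 1)) ≠ 23 := by
    intro h
    apply key
    rw [← gPt_gIdx (z (gPt 1)), h]
    exact eb23
  have hz2 : z (gPt 2) = gPt (sv b24P (gIdx (z (gPt 1)))) := by
    rw [← eb1, hcq, lperm_apply hbv]
  have hcov := (allB_iff _ _).mp RL24_cov _ (gIdx_lt (z (gPt 1)))
  have e1 : Nat.beq (gIdx (z (gPt 1))) 0 = false := by
    by_contra h
    rw [Bool.not_eq_false] at h
    exact hv0 (Nat.eq_of_beq_eq_true h)
  have e2 : Nat.beq (gIdx (z (gPt 1))) 23 = false := by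
    by_contra h
    rw [Bool.not_eq_false] at h
    exact hv23 (Nat.eq_of_beq_eq_true h)
  rw [e1, e2, Bool.false_or, Bool.false_or] at hcov
  have hcu := List.all_eq_true.mp hcov (gIdx (z (gPt 0))) (by
    rcases hu with h | h <;> rw [h] <;> simp)
  obtain ⟨r, hr, hrr⟩ := List.any_eq_true.mp hcu
  simp only [Bool.and_eq_true] at hrr
  obtain ⟨hr0, hr23, hr1, hr2⟩ := hrr
  have hrok := List.all_eq_true.mp RL24_ok r hr
  have hrv := okM24_svalid hrok
  have hwv := okM24_svalid w24_ok
  have hwi := w24_img
  simp only [Bool.and_eq_true] at hwi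
  obtain ⟨hw0, hw1, hw2, hw3⟩ := hwi
  have hagree : ∀ i, i < 4 → z (lperm w24P (gPt i)) = lperm r (lperm w24P (gPt i)) := by
    intro i hi
    interval_cases i
    · rw [lperm_apply hwv, gIdx_gPt (by norm_num), Nat.eq_of_beq_eq_true hw0, lperm_apply hrv,
        gIdx_gPt (by norm_num), Nat.eq_of_beq_eq_true hr0, gPt_gIdx]
    · rw [lperm_apply hwv, gIdx_gPt (by norm_num), Nat.eq_of_beq_eq_true hw1, lperm_apply hrv,
        gIdx_gPt (by norm_num), Nat.eq_of_beq_eq_true hr23, ← hu'', gPt_gIdx]
    · rw [lperm_apply hwv, gIdx_gPt (by norm_num), Nat.eq_of_beq_eq_true hw2, lperm_apply hrv,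
        gIdx_gPt (by norm_num), Nat.eq_of_beq_eq_true hr1, gPt_gIdx]
    · rw [lperm_apply hwv, gIdx_gPt (by norm_num), Nat.eq_of_beq_eq_true hw3, lperm_apply hrv,
        gIdx_gPt (by norm_num), Nat.eq_of_beq_eq_true hr2, hz2]
  obtain ⟨s, hs, e⟩ := coset_base w24_ok wi24_valid w24_inv hz (lperm_mem_M24 hrok) hagree
  have hsv := Q4EL_valid hs
  have hf : IdxF z (fun i => sv r (sv w24P (sv s (sv wi24P i)))) := by
    intro p
    rw [e]
    simp only [Equiv.Perm.mul_apply, gIdx_lperm hrv, gIdx_lperm hwv, gIdx_lperm hsv,
      gIdx_lperm wi24_valid]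
  have hmain := List.all_eq_true.mp (List.all_eq_true.mp cb24_main r hr) s hs
  rw [commF_of_comm hf hbv hc, Bool.not_true, Bool.false_or] at hmain
  obtain ⟨p, hp, hpe⟩ := List.any_eq_true.mp hmain
  obtain ⟨hpv, k, hk⟩ := pw_mem hbv BL11_ok hp
  exact ⟨k, by rw [eq_of_eqF hf hpv hpe, hk]⟩

/-! ### The tail of the descent: elements fixing the four base points -/

theorem q4_elt {g : Equiv.Perm GolayPt} (hg : g ∈ M24) (h4 : ∀ i, i < 4 → g (gPt i) = gPt i) :
    ∃ s ∈ Q4EL, g = lperm s := by
  obtain ⟨s, hs, e⟩ := Q4_coset (g := g) (r := 1) hg (one_mem _) (h4 0 (by norm_num))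
    (h4 1 (by norm_num)) (h4 2 (by norm_num)) (h4 3 (by norm_num))
  exact ⟨s, hs, by rw [e, one_mul]⟩

theorem q4_fixed {B' : List ℕ} (hB' : ∀ i ∈ B', i < 24) {s : ℕ} (hsv : svalid s = true)
    (hB : ∀ i ∈ B', lperm s (gPt i) = gPt i) : B'.all (fun i => Nat.beq (sv s i) i) = true := by
  rw [List.all_eq_true]
  intro i hi
  have h3 := congrArg gIdx (hB i hi)
  rw [gIdx_lperm hsv, gIdx_gPt (hB' i hi)] at h3
  rw [h3]
  exact Nat.beq_refl _

theorem q4_target {B' : List ℕ} {p : ℕ} {O : List ℕ} (hp : p < 24) (hB' : ∀ i ∈ B', i < 24)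
    (hchk : Q4EL.all (fun s => !(B'.all (fun i => Nat.beq (sv s i) i)) ||
      O.any (fun j => Nat.beq (sv s p) j)) = true)
    {g : Equiv.Perm GolayPt} (hg : g ∈ M24) (h4 : ∀ i, i < 4 → g (gPt i) = gPt i)
    (hB : ∀ i ∈ B', g (gPt i) = gPt i) : gIdx (g (gPt p)) ∈ O := by
  obtain ⟨s, hs, rfl⟩ := q4_elt hg h4
  have hsv := Q4EL_valid hs
  have h1 := List.all_eq_true.mp hchk s hs
  rw [q4_fixed hB' hsv hB, Bool.not_true, Bool.false_or] at h1
  obtain ⟨j, hj, hjj⟩ := List.any_eq_true.mp h1
  rw [gIdx_lperm hsv, gIdx_gPt hp, Nat.eq_of_beq_eq_true hjj]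
  exact hj

theorem q4_bot {B' : List ℕ} (hB' : ∀ i ∈ B', i < 24)
    (hchk : Q4EL.all (fun s => !(B'.all (fun i => Nat.beq (sv s i) i)) || Nat.beq s idP) = true)
    {g : Equiv.Perm GolayPt} (hg : g ∈ M24) (h4 : ∀ i, i < 4 → g (gPt i) = gPt i)
    (hB : ∀ i ∈ B', g (gPt i) = gPt i) : g = 1 := by
  obtain ⟨s, hs, rfl⟩ := q4_elt hg h4
  have hsv := Q4EL_valid hs
  have h1 := List.all_eq_true.mp hchk s hs
  rw [q4_fixed hB' hsv hB, Bool.not_true, Bool.false_or] at h1
  rw [Nat.eq_of_beq_eq_true h1, lperm_idP]

/-- Fixing the points of a list fixes the points of a sublist. -/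
theorem sub_fix {g : Equiv.Perm GolayPt} {B B' : List ℕ}
    (hsub : B'.all (fun i => B.any (fun j => Nat.beq j i)) = true)
    (hg : ∀ i ∈ B, g (gPt i) = gPt i) : ∀ i ∈ B', g (gPt i) = gPt i := by
  intro i hi
  obtain ⟨j, hj, hji⟩ := List.any_eq_true.mp (List.all_eq_true.mp hsub i hi)
  rw [← Nat.eq_of_beq_eq_true hji]
  exact hg j hj

/-- Fixing the points of a list containing the four base points fixes these. -/
theorem fix4 {g : Equiv.Perm GolayPt} {B : List ℕ}
    (hsub : ([0, 1, 2, 3] : List ℕ).all (fun i => B.any (fun j => Nat.beq j i)) = true)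
    (hg : ∀ i ∈ B, g (gPt i) = gPt i) : ∀ i, i < 4 → g (gPt i) = gPt i := by
  intro i hi
  apply sub_fix hsub hg
  interval_cases i <;> decide

end Cfsg.Agent.H34
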