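import Mathlib
import Cfsg.Agent.H88.O7Defs

/-!
helper34: piece S2647-ABSGEN of helper88's team project S2647 (`Cfsg.Agent.H88.O7.StmtAbsGen`).
-/

set_option autoImplicit false

namespace Cfsg.Agent.H34.O7

open Cfsg.Agent.H88.O7 Equiv

/-- The diagonal element `⟨ε, 1⟩`. -/
abbrev dg (ε : Sg) : W := SemidirectProduct.inl ε

/-- The permutation element `⟨1, π⟩`. -/
abbrev pm (π : Perm (Fin 7)) : W := SemidirectProduct.inr π

theorem dg_mul (a b : Sg) : dg (a * b) = dg a * dg b := map_mul _ a b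

theorem dg_one : dg 1 = 1 := map_one _

theorem pm_mul (a b : Perm (Fin 7)) : pm (a * b) = pm a * pm b := map_mul _ a b

theorem pm_one : pm 1 = 1 := map_one _

theorem pm_inv (a : Perm (Fin 7)) : pm a⁻¹ = (pm a)⁻¹ := map_inv _ a

theorem sigHom_dg (ε : Sg) : sigHom (dg ε) = ∏ i, ε i := rfl

theorem sigHom_pm (π : Perm (Fin 7)) : sigHom (pm π) = 1 := by
  rw [sigHom_apply]
  simp

theorem sigHom_conj (w x : W) : sigHom (w * x * w⁻¹) = sigHom x := by
  rw [map_mul, map_mul, map_inv, mul_comm, inv_mul_cancel_left]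

theorem pm_mem_Wp {ρ : Perm (Fin 7)} (h : Perm.sign ρ = 1) : pm ρ ∈ Wp :=
  mem_Wp.2 ⟨sigHom_pm ρ, h⟩

theorem arrow_apply (ρ : Perm (Fin 7)) (ε : Sg) (i : Fin 7) :
    (mulAutArrow ρ ε : Sg) i = ε (ρ⁻¹ i) := rfl

theorem arrow_single (ρ : Perm (Fin 7)) (a : Fin 7) (u : ℤˣ) :
    (mulAutArrow ρ (Pi.mulSingle a u : Sg) : Sg) = Pi.mulSingle (ρ a) u := by
  funext i
  rw [arrow_apply, Pi.mulSingle_apply, Pi.mulSingle_apply]
  have : (ρ⁻¹ i = a) ↔ (i = ρ a) := Equiv.Perm.inv_eq_iff_eq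
  simp only [this]

/-- The pair flip at `a, b`. -/
def pr (a b : Fin 7) : Sg := Pi.mulSingle a (-1) * Pi.mulSingle b (-1)

theorem arrow_pr (ρ : Perm (Fin 7)) (a b : Fin 7) :
    (mulAutArrow ρ (pr a b) : Sg) = pr (ρ a) (ρ b) := by
  rw [pr, map_mul, arrow_single, arrow_single, pr]

theorem exists_other : ∀ a b : Fin 7, ∃ x y : Fin 7, x ≠ y ∧ x ≠ a ∧ x ≠ b ∧ y ≠ a ∧ y ≠ b := by
  decide

theorem exists_even (a b c d : Fin 7) (hab : a ≠ b) (hcd : c ≠ d) :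
    ∃ ρ : Perm (Fin 7), Perm.sign ρ = 1 ∧ ρ a = c ∧ ρ b = d := by
  have hb' : swap a c b ≠ c := by
    intro h
    have : swap a c b = swap a c a := by rw [h, swap_apply_left]
    exact hab ((swap a c).injective this).symm
  set σ : Perm (Fin 7) := swap (swap a c b) d * swap a c with hσ
  have h1 : σ a = c := by
    rw [hσ, Perm.mul_apply, swap_apply_left]
    exact swap_apply_of_ne_of_ne hb'.symm hcd
  have h2 : σ b = d := by
    rw [hσ, Perm.mul_apply, swap_apply_left]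
  rcases Int.units_eq_one_or (Perm.sign σ) with hs | hs
  · exact ⟨σ, hs, h1, h2⟩
  · obtain ⟨x, y, hxy, hxa, hxb, hya, hyb⟩ := exists_other a b
    refine ⟨σ * swap x y, ?_, ?_, ?_⟩
    · rw [Perm.sign_mul, hs, Perm.sign_swap hxy]; rfl
    · rw [Perm.mul_apply, swap_apply_of_ne_of_ne hxa.symm hya.symm, h1]
    · rw [Perm.mul_apply, swap_apply_of_ne_of_ne hxb.symm hyb.symm, h2]

-- base cases
theorem base4 : sgOf {0, 1, 2, 3} * (mulAutArrow (swap (3 : Fin 7) 4 * swap 5 6) (sgOf {0, 1, 2, 3}) : Sg)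
    = pr 3 4 := by
  funext i
  rw [Pi.mul_apply, arrow_apply]
  fin_cases i <;> decide

theorem base2 : sgOf {4, 5} = pr 4 5 := by
  funext i
  fin_cases i <;> decide

theorem base6 : sgOf {0, 1, 2, 3, 4, 5} *
    (mulAutArrow (swap (5 : Fin 7) 6 * swap 0 1) (sgOf {0, 1, 2, 3, 4, 5}) : Sg) = pr 5 6 := by
  funext i
  rw [Pi.mul_apply, arrow_apply]
  fin_cases i <;> decide

theorem prod_sgOf4 : ∏ i, sgOf {0, 1, 2, 3} i = 1 := by decide
theorem prod_sgOf02 : ∏ i, sgOf {0, 2} i = 1 := by decide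

theorem decomp (ε : Sg) (h : ∏ i, ε i = 1) :
    ε = ∏ k, (Pi.mulSingle k (ε k) * Pi.mulSingle (6 : Fin 7) (ε k) : Sg) := by
  have h1 : ∏ k, (Pi.mulSingle k (ε k) : Sg) = ε := Finset.univ_prod_mulSingle ε
  have h2 : ∏ k, (Pi.mulSingle (6 : Fin 7) (ε k) : Sg) = 1 := by
    have := map_prod (MonoidHom.mulSingle (fun _ : Fin 7 => ℤˣ) 6) (fun k => ε k) Finset.univ
    simp only [MonoidHom.mulSingle_apply] at this
    rw [← this, h, Pi.mulSingle_one]
  rw [Finset.prod_mul_distrib, h1, h2, mul_one]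

def s1 : Perm (Fin 7) := swap 0 3 * swap 1 2
def s2 : Perm (Fin 7) := swap 0 2 * swap 1 3
def bb : Perm (Fin 7) := swap 0 2 * swap 4 5
def bc : Perm (Fin 7) := swap 1 3 * swap 4 5

def r1 : Perm (Fin 7) := swap 1 3 * swap 4 5
def r2 : Perm (Fin 7) := swap 1 2 * swap 4 5
def r3 : Perm (Fin 7) := swap 1 2 * swap 2 4 * swap 4 3 * swap 3 5
def r4 : Perm (Fin 7) := swap 0 1 * swap 1 3 * swap 3 5 * swap 2 4

theorem tP_eq_swaps : tP = swap 0 1 * swap 2 3 := by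
  ext i
  fin_cases i <;> rfl

theorem sign_tP : Perm.sign tP = 1 := by
  rw [tP_eq_swaps]
  simp [Perm.sign_mul, Perm.sign_swap']

theorem sign_r1 : Perm.sign r1 = 1 := by simp [r1, Perm.sign_mul, Perm.sign_swap']
theorem sign_r2 : Perm.sign r2 = 1 := by simp [r2, Perm.sign_mul, Perm.sign_swap']
theorem sign_r3 : Perm.sign r3 = 1 := by simp [r3, Perm.sign_mul, Perm.sign_swap']
theorem sign_r4 : Perm.sign r4 = 1 := by simp [r4, Perm.sign_mul, Perm.sign_swap']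

theorem conj1 : r1 * tP * r1⁻¹ = s1 := by
  ext i
  fin_cases i <;> rfl
theorem conj2 : r2 * tP * r2⁻¹ = s2 := by
  ext i
  fin_cases i <;> rfl
theorem conj3 : r3 * tP * r3⁻¹ = bb := by
  ext i
  fin_cases i <;> rfl
theorem conj4 : r4 * tP * r4⁻¹ = bc := by
  ext i
  fin_cases i <;> rfl

theorem sign_s1 : Perm.sign s1 = 1 := by simp [s1, Perm.sign_mul, Perm.sign_swap']
theorem sign_s2 : Perm.sign s2 = 1 := by simp [s2, Perm.sign_mul, Perm.sign_swap']
theorem sign_bb : Perm.sign bb = 1 := by simp [bb, Perm.sign_mul, Perm.sign_swap']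
theorem sign_bc : Perm.sign bc = 1 := by simp [bc, Perm.sign_mul, Perm.sign_swap']

theorem adj_s1 : ∀ i j, adj (s1 i) (s1 j) = adj i j := by decide
theorem adj_s2 : ∀ i j, adj (s2 i) (s2 j) = adj i j := by decide
theorem adj_bb : ∀ i j, adj (bb i) (bb j) = adj i j := by decide
theorem adj_bc : ∀ i j, adj (bc i) (bc j) = adj i j := by decide

theorem s1_mem : s1 ∈ D8 := mem_D8.2 ⟨adj_s1, sign_s1⟩
theorem s2_mem : s2 ∈ D8 := mem_D8.2 ⟨adj_s2, sign_s2⟩
theorem bb_mem : bb ∈ D8 := mem_D8.2 ⟨adj_bb, sign_bb⟩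
theorem bc_mem : bc ∈ D8 := mem_D8.2 ⟨adj_bc, sign_bc⟩

/-- The eight elements of `D8`. -/
def E8 : Fin 8 → Perm (Fin 7) := ![1, tP, s1, s2, bb, bc, bb * tP, tP * bb]

/-- Their value tables. -/
def L8 : Fin 8 → Fin 7 → Fin 7 :=
  ![![0, 1, 2, 3, 4, 5, 6], ![1, 0, 3, 2, 4, 5, 6], ![3, 2, 1, 0, 4, 5, 6], ![2, 3, 0, 1, 4, 5, 6],
    ![2, 1, 0, 3, 5, 4, 6], ![0, 3, 2, 1, 5, 4, 6], ![1, 2, 3, 0, 5, 4, 6], ![3, 0, 1, 2, 5, 4, 6]]

theorem E8_L8 : ∀ k i, E8 k i = L8 k i := by decide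

/-- The sign of a function, by inversions. -/
def sgnF (x : Fin 7 → Fin 7) : ℤˣ := ∏ i, ∏ j ∈ Finset.Ioi i, if x i < x j then 1 else -1

theorem sign_eq_sgnF (π : Perm (Fin 7)) : Perm.sign π = sgnF π :=
  Equiv.Perm.sign_eq_prod_prod_Ioi π

set_option synthInstance.maxHeartbeats 2000000 in
set_option synthInstance.maxSize 100000 in
set_option maxRecDepth 100000 in
theorem tuples : ∀ x0 x1 : Fin 7, adj x0 x1 = true → ∀ x2 : Fin 7, adj x1 x2 = true → x2 ≠ x0 →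
    ∀ x3 : Fin 7, adj x2 x3 = true → adj x3 x0 = true → x3 ≠ x1 →
    ∀ x4 : Fin 7, x4 ≠ x0 → x4 ≠ x1 → x4 ≠ x2 → x4 ≠ x3 → ∀ x5 : Fin 7, adj x4 x5 = true →
    ∀ x6 : Fin 7, x6 ≠ x0 → x6 ≠ x1 → x6 ≠ x2 → x6 ≠ x3 → x6 ≠ x4 → x6 ≠ x5 →
    sgnF ![x0, x1, x2, x3, x4, x5, x6] = 1 →
    ∃ k : Fin 8, x0 = L8 k 0 ∧ x1 = L8 k 1 ∧ x2 = L8 k 2 ∧ x3 = L8 k 3 ∧ x4 = L8 k 4 ∧
      x5 = L8 k 5 ∧ x6 = L8 k 6 := by
  decide

/-- Piece ABS-GEN of S2647 (helper88): a subgroup of `W0` closed under `Wp`-fusion and the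
extra fusion `dEl ↦ tEl`, containing a nontrivial central element, is `W0`. -/
theorem absGen : StmtAbsGen := by
  intro T hT0 hT hdt hz
  have hN_arrow : ∀ ε : Sg, dg ε ∈ T → ∀ ρ : Perm (Fin 7), Perm.sign ρ = 1 →
      dg (mulAutArrow ρ ε) ∈ T := by
    intro ε hε ρ hρ
    have hc : dg (mulAutArrow ρ ε) = pm ρ * dg ε * (pm ρ)⁻¹ := by
      rw [← map_inv]
      exact SemidirectProduct.inl_aut ρ ε
    rw [hc]
    refine hT _ hε _ (pm_mem_Wp hρ) ?_
    rw [mem_W0]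
    refine ⟨?_, ?_⟩
    · rw [sigHom_conj]
      exact (mem_W0.1 (hT0 hε)).1
    · rw [← hc]
      exact D8.one_mem
  have hpair : ∃ a b : Fin 7, a ≠ b ∧ dg (pr a b) ∈ T := by
    rcases hz with h | h | h
    · refine ⟨3, 4, by decide, ?_⟩
      have h' : dg (sgOf {0, 1, 2, 3}) ∈ T := h
      have h2 := hN_arrow _ h' (swap 3 4 * swap 5 6) (by simp [Perm.sign_mul, Perm.sign_swap'])
      have h3 := T.mul_mem h' h2
      rw [← dg_mul, base4] at h3
      exact h3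
    · refine ⟨4, 5, by decide, ?_⟩
      rw [← base2]
      exact h
    · refine ⟨5, 6, by decide, ?_⟩
      have h' : dg (sgOf {0, 1, 2, 3, 4, 5}) ∈ T := h
      have h2 := hN_arrow _ h' (swap 5 6 * swap 0 1) (by simp [Perm.sign_mul, Perm.sign_swap'])
      have h3 := T.mul_mem h' h2
      rw [← dg_mul, base6] at h3
      exact h3
  obtain ⟨a, b, hab, hprab⟩ := hpair
  have hall : ∀ c d : Fin 7, c ≠ d → dg (pr c d) ∈ T := by
    intro c d hcd
    obtain ⟨ρ, hρ, h1, h2⟩ := exists_even a b c d hab hcd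
    have h3 := hN_arrow _ hprab ρ hρ
    rwa [arrow_pr, h1, h2] at h3
  have hEw : ∀ ε : Sg, ∏ i, ε i = 1 → dg ε ∈ T := by
    intro ε hε
    suffices hsuff : ε ∈ T.comap (SemidirectProduct.inl : Sg →* W) from hsuff
    rw [decomp ε hε]
    refine Subgroup.prod_mem _ (fun k _ => ?_)
    show dg (Pi.mulSingle k (ε k) * Pi.mulSingle (6 : Fin 7) (ε k)) ∈ T
    rcases Int.units_eq_one_or (ε k) with h | h
    · rw [h, Pi.mulSingle_one, Pi.mulSingle_one, mul_one, dg_one]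
      exact T.one_mem
    · rw [h]
      by_cases hk : k = 6
      · subst hk
        have h1 : (Pi.mulSingle (6 : Fin 7) (-1 : ℤˣ) * Pi.mulSingle (6 : Fin 7) (-1 : ℤˣ) : Sg)
            = 1 := by
          rw [← Pi.mulSingle_mul]
          simp
        rw [h1, dg_one]
        exact T.one_mem
      · exact hall k 6 hk
  have htEl : pm tP ∈ T := hdt (hEw _ prod_sgOf02)
  have hconj : ∀ σ : Perm (Fin 7), pm σ ∈ T → ∀ ρ : Perm (Fin 7), Perm.sign ρ = 1 →
      ρ * σ * ρ⁻¹ ∈ D8 → pm (ρ * σ * ρ⁻¹) ∈ T := by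
    intro σ hσ ρ hρ hD
    have hc : pm (ρ * σ * ρ⁻¹) = pm ρ * pm σ * (pm ρ)⁻¹ := by
      rw [pm_mul, pm_mul, pm_inv]
    rw [hc]
    refine hT _ hσ _ (pm_mem_Wp hρ) ?_
    rw [mem_W0]
    refine ⟨?_, ?_⟩
    · rw [sigHom_conj]
      exact sigHom_pm σ
    · rw [← hc]
      exact hD
  have hs1 : pm s1 ∈ T := by
    have h := hconj tP htEl r1 sign_r1 (by rw [conj1]; exact s1_mem)
    rwa [conj1] at h
  have hs2 : pm s2 ∈ T := by
    have h := hconj tP htEl r2 sign_r2 (by rw [conj2]; exact s2_mem)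
    rwa [conj2] at h
  have hbb : pm bb ∈ T := by
    have h := hconj tP htEl r3 sign_r3 (by rw [conj3]; exact bb_mem)
    rwa [conj3] at h
  have hbc : pm bc ∈ T := by
    have h := hconj tP htEl r4 sign_r4 (by rw [conj4]; exact bc_mem)
    rwa [conj4] at h
  have hE : ∀ k, pm (E8 k) ∈ T := by
    intro k
    fin_cases k
    · show pm (1 : Perm (Fin 7)) ∈ T
      rw [pm_one]
      exact T.one_mem
    · exact htEl
    · exact hs1
    · exact hs2
    · exact hbb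
    · exact hbc
    · show pm (bb * tP) ∈ T
      rw [pm_mul]
      exact T.mul_mem hbb htEl
    · show pm (tP * bb) ∈ T
      rw [pm_mul]
      exact T.mul_mem htEl hbb
  have hD8 : ∀ π ∈ D8, pm π ∈ T := by
    intro π hπ
    obtain ⟨hadj, hsign⟩ := mem_D8.1 hπ
    have hx : (⇑π : Fin 7 → Fin 7) = ![π 0, π 1, π 2, π 3, π 4, π 5, π 6] := by
      funext i
      fin_cases i <;> rfl
    have hs : sgnF ![π 0, π 1, π 2, π 3, π 4, π 5, π 6] = 1 := by
      rw [← hx, ← sign_eq_sgnF]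
      exact hsign
    have hne : ∀ {i j : Fin 7}, i ≠ j → π i ≠ π j := fun h => π.injective.ne h
    obtain ⟨k, e0, e1, e2, e3, e4, e5, e6⟩ := tuples (π 0) (π 1) (by rw [hadj]; rfl)
      (π 2) (by rw [hadj]; rfl) (hne (by decide))
      (π 3) (by rw [hadj]; rfl) (by rw [hadj]; rfl) (hne (by decide))
      (π 4) (hne (by decide)) (hne (by decide)) (hne (by decide)) (hne (by decide))
      (π 5) (by rw [hadj]; rfl)
      (π 6) (hne (by decide)) (hne (by decide)) (hne (by decide)) (hne (by decide))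
      (hne (by decide)) (hne (by decide)) hs
    have hπE : π = E8 k := by
      refine Equiv.ext (fun i => ?_)
      rw [E8_L8]
      fin_cases i
      · exact e0
      · exact e1
      · exact e2
      · exact e3
      · exact e4
      · exact e5
      · exact e6
    rw [hπE]
    exact hE k
  refine le_antisymm hT0 (fun w hw => ?_)
  obtain ⟨hw1, hw2⟩ := mem_W0.1 hw
  rw [← SemidirectProduct.inl_left_mul_inr_right w]
  exact T.mul_mem (hEw _ (by rw [← sigHom_apply]; exact hw1)) (hD8 _ hw2)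

example : Cfsg.Agent.H88.O7.StmtAbsGen := absGen

end Cfsg.Agent.H34.O7
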