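import Mathlib
import Cfsg.Agent.H7.PsDefs

/-! PS-TW13 (S3664, helper7's team project): over a field with 8 elements, a `4 × 4` matrix `g`
with `g ^ 13 = 1` and no fixed vector admits no non-zero `X` with `g X = X g⁽²⁾`.

Route: the Gaussian period `s = g + g^5 + g^8 + g^12` satisfies `s^3 + s^2 + 1 = 0`, the cubic
splits over `F`, and every kernel of a matrix commuting with `g` is `0` or everything (orbit
counting), so `s` is a scalar `r` with `r^2 ≠ r`; then `r X = r^2 X`. -/

set_option autoImplicit false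

namespace Cfsg.Agent.H34.Ps

open Polynomial

section
variable {F : Type} [Field F] [Fintype F]

theorem two_eq_zero_of_card (hF : Fintype.card F = 8) : (2 : F) = 0 := by
  have h8 : ((Fintype.card F : ℕ) : F) = 0 := Nat.cast_card_eq_zero F
  rw [hF] at h8
  have h : (2 : F) ^ 3 = 0 := by rw [← h8]; norm_num
  exact (pow_eq_zero_iff (by norm_num)).mp h

theorem exists_root (hF : Fintype.card F = 8) : ∃ c : F, c ^ 3 + c ^ 2 + 1 = 0 := by
  classical
  have h2 := two_eq_zero_of_card hF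
  obtain ⟨c, hc0, hc1⟩ : ∃ c : F, c ≠ 0 ∧ c ≠ 1 := by
    by_contra hcon
    have hcon' : ∀ c : F, c ≠ 0 → c = 1 := by
      intro c hc
      by_contra h1
      exact hcon ⟨c, hc, h1⟩
    have hle : Fintype.card F ≤ Fintype.card (Fin 2) :=
      Fintype.card_le_of_injective (fun x : F => if x = 0 then (0 : Fin 2) else 1) (by
        intro x y hxy
        by_cases hx : x = 0 <;> by_cases hy : y = 0
        · rw [hx, hy]
        · simp [hx, hy] at hxy
        · simp [hx, hy] at hxy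
        · rw [hcon' x hx, hcon' y hy])
    rw [hF] at hle
    simp at hle
  have h7 : c ^ 7 = 1 := by
    have := FiniteField.pow_card_sub_one_eq_one c hc0
    rwa [hF] at this
  have hprod : (c - 1) * (c ^ 3 + c + 1) * (c ^ 3 + c ^ 2 + 1) = 0 := by
    linear_combination h7 + (-c ^ 3 + c ^ 4) * h2
  rcases mul_eq_zero.mp hprod with h | h
  · rcases mul_eq_zero.mp h with h | h
    · exact absurd (sub_eq_zero.mp h) hc1
    · exact ⟨c + 1, by linear_combination h + (1 + 2 * c + 2 * c ^ 2) * h2⟩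
  · exact ⟨c, h⟩

theorem root_sq (h2 : (2 : F) = 0) (r : F) (hr : r ^ 3 + r ^ 2 + 1 = 0) :
    (r ^ 2) ^ 3 + (r ^ 2) ^ 2 + 1 = 0 := by
  linear_combination (-3 + 2 * r - r ^ 2 + r ^ 3) * hr + (2 - r + 2 * r ^ 2) * h2

theorem root_ne (h2 : (2 : F) = 0) (r : F) (hr : r ^ 3 + r ^ 2 + 1 = 0) : r ^ 2 ≠ r := by
  intro h
  have h3 : r ^ 3 = r := by
    calc r ^ 3 = r ^ 2 * r := by ring
      _ = r * r := by rw [h]
      _ = r ^ 2 := by ring
      _ = r := h
  have h10 : (1 : F) = 0 := by linear_combination hr - h3 - h - r * h2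
  exact one_ne_zero h10

theorem period_poly (h2 : (2 : F[X]) = 0) :
    ((X + X ^ 5 + X ^ 8 + X ^ 12 : F[X])) ^ 3 + (X + X ^ 5 + X ^ 8 + X ^ 12) ^ 2 + 1 =
      (∑ j ∈ Finset.range 13, (X : F[X]) ^ j) + (X ^ 13 - 1) *
        (4 + 9 * X + 4 * X ^ 2 + 4 * X ^ 3 + 5 * X ^ 4 + 9 * X ^ 5 + 3 * X ^ 6 + 2 * X ^ 7 +
          9 * X ^ 8 + 3 * X ^ 9 + X ^ 10 + 2 * X ^ 11 + 9 * X ^ 12 + 3 * X ^ 15 + 3 * X ^ 16 +
          3 * X ^ 19 + X ^ 23) := by
  simp only [Finset.sum_range_succ, Finset.sum_range_zero]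
  linear_combination (2 + 4 * X + 2 * X ^ 2 + 2 * X ^ 3 + 2 * X ^ 4 + 4 * X ^ 5 + 2 * X ^ 6 +
    2 * X ^ 7 + 4 * X ^ 8 + 2 * X ^ 9 + 2 * X ^ 10 + 2 * X ^ 11 + 4 * X ^ 12 : F[X]) * h2

theorem root_prod (h2 : (2 : F[X]) = 0) (P k : F[X]) (hk : k ^ 3 + k ^ 2 + 1 = 0) :
    (P + k) * (P + k ^ 2) * (P + k ^ 4) = P ^ 3 + P ^ 2 + 1 := by
  linear_combination (P ^ 2 * (k - 1) + P * k ^ 3 + (3 - 2 * k + k ^ 2 - k ^ 3 + k ^ 4)) * hk +
    (P ^ 2 * k ^ 2 + (-2 + k - 2 * k ^ 2)) * h2

theorem geom_zero (g : Matrix (Fin 4) (Fin 4) F) (hg : g ^ 13 = 1)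
    (hfix : ∀ v : Fin 4 → F, g.mulVec v = v → v = 0) :
    ∑ j ∈ Finset.range 13, g ^ j = 0 := by
  have h := mul_geom_sum g 13
  rw [hg, sub_self, sub_mul, one_mul] at h
  have h' : g * ∑ j ∈ Finset.range 13, g ^ j = ∑ j ∈ Finset.range 13, g ^ j := sub_eq_zero.mp h
  ext i j
  have hv := hfix ((∑ j ∈ Finset.range 13, g ^ j).mulVec (Pi.single j 1)) (by
    rw [Matrix.mulVec_mulVec, h'])
  have := congrFun hv i
  rw [Matrix.mulVec_single_one] at this
  simpa using this

/-- a matrix commuting with `g` is zero or injective -/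
theorem ker_dich (hF : Fintype.card F = 8) (g : Matrix (Fin 4) (Fin 4) F) (hg : g ^ 13 = 1)
    (hfix : ∀ v : Fin 4 → F, g.mulVec v = v → v = 0)
    (M : Matrix (Fin 4) (Fin 4) F) (hM : M * g = g * M) :
    M = 0 ∨ ∀ v : Fin 4 → F, M.mulVec v = 0 → v = 0 := by
  classical
  let W : Submodule F (Fin 4 → F) := LinearMap.ker (Matrix.mulVecLin M)
  have hmem : ∀ v, v ∈ W ↔ M.mulVec v = 0 := fun v => by
    simp only [W, LinearMap.mem_ker, Matrix.mulVecLin_apply]
  have hinv : ∀ v ∈ W, g.mulVec v ∈ W := by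
    intro v hv
    rw [hmem] at hv ⊢
    rw [Matrix.mulVec_mulVec, hM, ← Matrix.mulVec_mulVec, hv, Matrix.mulVec_zero]
  let f : Function.End W := fun v => ⟨g.mulVec v.1, hinv v.1 v.2⟩
  have hfk : ∀ k : ℕ, ∀ v : W, ((f ^ k) v).1 = (g ^ k).mulVec v.1 := by
    intro k
    induction k with
    | zero => intro v; rw [pow_zero, pow_zero, Matrix.one_mulVec]; rfl
    | succ k ih =>
      intro v
      rw [pow_succ' f k, pow_succ' g k]
      show g.mulVec ((f ^ k) v).1 = _
      rw [ih, Matrix.mulVec_mulVec]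
  have hf13 : f ^ 13 ^ 1 = 1 := by
    funext v
    apply Subtype.ext
    rw [pow_one, hfk, hg, Matrix.one_mulVec]
    rfl
  haveI : Fact (Nat.Prime 13) := ⟨by norm_num⟩
  have hmod := Equiv.Perm.card_fixedPoints_modEq (p := 13) (n := 1) hf13
  have hfp : Fintype.card (Function.fixedPoints f) = 1 := by
    rw [Fintype.card_eq_one_iff]
    refine ⟨⟨0, ?_⟩, ?_⟩
    · show f 0 = 0
      apply Subtype.ext
      show g.mulVec (0 : Fin 4 → F) = 0
      exact Matrix.mulVec_zero g
    · rintro ⟨v, hv⟩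
      apply Subtype.ext
      apply Subtype.ext
      have h1 : g.mulVec v.1 = v.1 := congrArg Subtype.val hv
      exact hfix _ h1
  have hcard : Fintype.card W = 8 ^ Module.finrank F W := by
    rw [Module.card_eq_pow_finrank (K := F), hF]
  have hle : Module.finrank F W ≤ 4 := by
    have := Submodule.finrank_le W
    simpa using this
  have hd : Module.finrank F W = 0 ∨ Module.finrank F W = 4 := by
    rw [hcard, hfp] at hmod
    generalize Module.finrank F W = d at hmod hle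
    interval_cases d
    · left; rfl
    · exfalso; revert hmod; decide
    · exfalso; revert hmod; decide
    · exfalso; revert hmod; decide
    · right; rfl
  rcases hd with h0 | h4
  · right
    intro v hv
    have hbot : W = ⊥ := Submodule.finrank_eq_zero.mp h0
    have hvW : v ∈ W := (hmem v).2 hv
    rw [hbot] at hvW
    simpa using hvW
  · left
    have htop : W = ⊤ := Submodule.eq_top_of_finrank_eq (by rw [h4]; simp)
    ext i j
    have hvW : (Pi.single j 1 : Fin 4 → F) ∈ W := by rw [htop]; trivial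
    have := congrFun ((hmem _).1 hvW) i
    rw [Matrix.mulVec_single_one] at this
    simpa using this

theorem aeval_comm (g : Matrix (Fin 4) (Fin 4) F) (p : F[X]) :
    aeval g p * g = g * aeval g p := by
  calc aeval g p * g = aeval g (p * X) := by rw [map_mul, aeval_X]
    _ = aeval g (X * p) := by rw [mul_comm]
    _ = g * aeval g p := by rw [map_mul, aeval_X]

/-- the squaring map as a ring homomorphism -/
def sqHom (h2 : (2 : F) = 0) : F →+* F where
  toFun a := a ^ 2
  map_one' := one_pow 2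
  map_mul' a b := mul_pow a b 2
  map_zero' := by simp
  map_add' a b := by linear_combination (a * b) * h2

theorem tw13 : Cfsg.Agent.H7.Ps.StTw13 := by
  intro F _ _ hF g hg hfix Y hY
  have h2 : (2 : F) = 0 := two_eq_zero_of_card hF
  have h2X : (2 : F[X]) = 0 := by
    rw [← map_ofNat (C : F →+* F[X]) 2, h2, map_zero]
  obtain ⟨c, hc⟩ := exists_root hF
  have hper : aeval g (((X + X ^ 5 + X ^ 8 + X ^ 12 : F[X])) ^ 3 +
      (X + X ^ 5 + X ^ 8 + X ^ 12) ^ 2 + 1) = 0 := by
    rw [period_poly h2X, map_add, map_mul, map_sub, map_pow, aeval_X, hg, map_one, sub_self,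
      zero_mul, add_zero, map_sum]
    simp only [map_pow, aeval_X]
    exact geom_zero g hg hfix
  have hk : (C c : F[X]) ^ 3 + (C c) ^ 2 + 1 = 0 := by
    rw [← C_pow, ← C_pow, ← C_1, ← C_add, ← C_add, hc, C_0]
  have hprod := root_prod h2X (X + X ^ 5 + X ^ 8 + X ^ 12 : F[X]) (C c) hk
  -- some factor vanishes
  have key : ∃ r : F, r ^ 3 + r ^ 2 + 1 = 0 ∧
      aeval g ((X + X ^ 5 + X ^ 8 + X ^ 12 : F[X]) + C r) = 0 := by
    by_contra hcon
    have hinj : ∀ r : F, r ^ 3 + r ^ 2 + 1 = 0 → ∀ v : Fin 4 → F,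
        (aeval g ((X + X ^ 5 + X ^ 8 + X ^ 12 : F[X]) + C r)).mulVec v = 0 → v = 0 := by
      intro r hr
      rcases ker_dich hF g hg hfix _ (aeval_comm g _) with h | h
      · exact absurd ⟨r, hr, h⟩ hcon
      · exact h
    have hr2 := root_sq h2 c hc
    have hr4 := root_sq h2 (c ^ 2) hr2
    have h0 : aeval g (((X + X ^ 5 + X ^ 8 + X ^ 12 : F[X]) + C c) *
        ((X + X ^ 5 + X ^ 8 + X ^ 12 : F[X]) + C (c ^ 2)) *
        ((X + X ^ 5 + X ^ 8 + X ^ 12 : F[X]) + C ((c ^ 2) ^ 2))) = 0 := by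
      have e : ((c ^ 2) ^ 2 : F) = c ^ 4 := by ring
      rw [e, C_pow, C_pow, hprod, hper]
    rw [map_mul, map_mul] at h0
    have hv : (Pi.single 0 1 : Fin 4 → F) = 0 := by
      apply hinj _ hr4
      apply hinj _ hr2
      apply hinj _ hc
      rw [Matrix.mulVec_mulVec, Matrix.mulVec_mulVec, h0, Matrix.zero_mulVec]
    have := congrFun hv 0
    simp at this
  obtain ⟨r, hr, hr0⟩ := key
  have hs : g + g ^ 5 + g ^ 8 + g ^ 12 = algebraMap F (Matrix (Fin 4) (Fin 4) F) r := by
    have h := hr0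
    rw [map_add, aeval_C] at h
    simp only [map_add, map_pow, aeval_X] at h
    have hneg : algebraMap F (Matrix (Fin 4) (Fin 4) F) r
        = - algebraMap F (Matrix (Fin 4) (Fin 4) F) r := by
      rw [← map_neg]
      congr 1
      linear_combination r * h2
    rw [hneg]
    exact eq_neg_of_add_eq_zero_left h
  -- transport along the intertwining relation
  have hG : g.map (fun a => a ^ 2) = (sqHom h2).mapMatrix g := rfl
  rw [hG] at hY
  have hpow : ∀ k : ℕ, g ^ k * Y = Y * ((sqHom h2).mapMatrix g) ^ k := by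
    intro k
    induction k with
    | zero => simp
    | succ k ih => rw [pow_succ, mul_assoc, hY, ← mul_assoc, ih, mul_assoc, ← pow_succ]
  have hsX : (g + g ^ 5 + g ^ 8 + g ^ 12) * Y
      = Y * (sqHom h2).mapMatrix (g + g ^ 5 + g ^ 8 + g ^ 12) := by
    rw [map_add, map_add, map_add, map_pow, map_pow, map_pow]
    simp only [add_mul, mul_add, hpow]
    rw [hY]
  rw [hs] at hsX
  have hmap : (sqHom h2).mapMatrix (algebraMap F (Matrix (Fin 4) (Fin 4) F) r)
      = algebraMap F (Matrix (Fin 4) (Fin 4) F) (r ^ 2) := by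
    ext i j
    simp only [RingHom.mapMatrix_apply, Matrix.map_apply, Matrix.algebraMap_matrix_apply]
    split_ifs
    · rfl
    · show (0 : F) ^ 2 = 0
      simp
  rw [hmap, Algebra.algebraMap_eq_smul_one, Algebra.algebraMap_eq_smul_one, smul_mul_assoc,
    one_mul, mul_smul_comm, mul_one] at hsX
  have hne : r ^ 2 - r ≠ 0 := sub_ne_zero.mpr (root_ne h2 r hr)
  have hz : (r ^ 2 - r) • Y = 0 := by rw [sub_smul, hsX, sub_self]
  rcases smul_eq_zero.mp hz with h | h
  · exact absurd h hne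
  · exact h

end

example : Cfsg.Agent.H7.Ps.StTw13 := tw13

end Cfsg.Agent.H34.Ps

#print axioms Cfsg.Agent.H34.Ps.tw13
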