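import Mathlib
import Cfsg.Prelude.Def_Transfer

/-!
# A group of order 512 described by names (helper34 library)

The abstract part of the analysis of the Sylow 2-subgroup of `M24` modulo its centre: a finite
group `Q` of order 512 whose elements are named by natural numbers, with a Boolean commutation
test on names.  From certificates on lists of names: the centres of the maximal subgroups have
order at most 8, and there is exactly one commutative subgroup of order 64, which is elementary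
abelian.
-/

set_option autoImplicit false

namespace Cfsg.Agent.H34

/-- A coatom of a finite `p`-group has index `p`. -/
theorem coatom_idx {G : Type*} [Group G] {p : ℕ} [Fact p.Prime] [Finite G] (hG : IsPGroup p G)
    {M : Subgroup G} (hM : IsCoatom M) : M.index = p := by
  have := hG.isNilpotent
  have : M.Normal :=
    Subgroup.NormalizerCondition.normal_of_coatom _ Group.normalizerCondition_of_isNilpotent hM
  have hQ : IsPGroup p (G ⧸ M) := hG.to_quotient M
  have hcard : Nat.card (G ⧸ M) ≠ 1 := by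
    intro h1
    have : M.index = 1 := h1
    exact hM.1 (Subgroup.index_eq_one.mp this)
  have hdvd : p ∣ Nat.card (G ⧸ M) := hQ.card_eq_or_dvd.resolve_left hcard
  obtain ⟨x, hx⟩ := exists_prime_orderOf_dvd_card' p hdvd
  have hMK : M ≤ (Subgroup.zpowers x).comap (QuotientGroup.mk' M) := by
    intro m hm
    rw [Subgroup.mem_comap]
    have : (QuotientGroup.mk' M) m = 1 := (QuotientGroup.eq_one_iff m).mpr hm
    rw [this]; exact Subgroup.one_mem _
  have hne : M ≠ (Subgroup.zpowers x).comap (QuotientGroup.mk' M) := by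
    intro h
    obtain ⟨y, rfl⟩ := QuotientGroup.mk'_surjective M x
    have hy : y ∈ (Subgroup.zpowers ((QuotientGroup.mk' M) y)).comap (QuotientGroup.mk' M) :=
      Subgroup.mem_zpowers _
    rw [← h] at hy
    have h1 : (QuotientGroup.mk' M) y = 1 := (QuotientGroup.eq_one_iff y).mpr hy
    rw [h1, orderOf_one] at hx
    exact (Fact.out : p.Prime).one_lt.ne hx
  have htop : (Subgroup.zpowers x).comap (QuotientGroup.mk' M) = ⊤ :=
    hM.2 _ (lt_of_le_of_ne hMK hne)
  have hz : Subgroup.zpowers x = ⊤ := by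
    rw [eq_top_iff]
    intro q _
    obtain ⟨y, rfl⟩ := QuotientGroup.mk'_surjective M q
    have : y ∈ (Subgroup.zpowers x).comap (QuotientGroup.mk' M) := by rw [htop]; trivial
    exact this
  have : Nat.card (G ⧸ M) = p := by
    rw [← hx, ← Nat.card_zpowers, hz, Subgroup.card_top]
  exact this

/-- A type that injects into the image of a list has at most as many elements as the list. -/
theorem card_le_len {X Q I : Type*} (ι : X → Q) (hι : Function.Injective ι) (f : I → Q)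
    (Lst : List I) (h : ∀ x : X, ∃ i ∈ Lst, f i = ι x) : Nat.card X ≤ Lst.length := by
  classical
  let S : Finset Q := (Lst.map f).toFinset
  have hS : ∀ x : X, ι x ∈ S := by
    intro x
    obtain ⟨i, hi, e⟩ := h x
    exact List.mem_toFinset.mpr (List.mem_map.mpr ⟨i, hi, e⟩)
  let j : X → ↥S := fun x => ⟨ι x, hS x⟩
  have hj : Function.Injective j := fun a b e => hι (congrArg Subtype.val e)
  have h1 : Nat.card X ≤ Nat.card ↥S := Nat.card_le_card_of_injective j hj
  have h2 : Nat.card ↥S = S.card := by rw [Nat.card_eq_fintype_card, Fintype.card_coe]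
  have h3 : S.card ≤ (Lst.map f).length := List.toFinset_card_le _
  rw [List.length_map] at h3
  omega

/-- The description of a group of order 512 by names: `φ` names the elements, `cm` tests
commutation, `pr` gives names of quotients of the elements of `TL`, and every element is a product
of one of the elements of `RL` with one of `EL`. -/
structure QD (Q : Type*) [Group Q] (φ : ℕ → Q) (cm : ℕ → ℕ → Bool) (pr : ℕ → ℕ → ℕ)
    (L EL RL TL : List ℕ) : Prop where
  card : Nat.card Q = 512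
  surj : ∀ x : Q, ∃ s ∈ L, φ s = x
  comm : ∀ s ∈ L, ∀ t ∈ L, (φ s * φ t = φ t * φ s ↔ cm s t = true)
  dec : ∀ t ∈ L, ∃ r ∈ RL, ∃ e ∈ EL, φ t = φ r * φ e
  sq : ∀ s ∈ EL, φ s * φ s = 1
  prd : ∀ g ∈ TL, ∀ g' ∈ TL, pr g g' ∈ L ∧ φ (pr g g') = (φ g)⁻¹ * φ g'

/-- The description is carried along an isomorphism. -/
theorem QD.map {Q Q' : Type*} [Group Q] [Group Q'] {φ : ℕ → Q} {cm : ℕ → ℕ → Bool}
    {pr : ℕ → ℕ → ℕ} {L EL RL TL : List ℕ} (h : QD Q φ cm pr L EL RL TL) (e : Q ≃* Q') :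
    QD Q' (fun s => e (φ s)) cm pr L EL RL TL where
  card := by rw [← Nat.card_congr e.toEquiv]; exact h.card
  surj := by
    intro x
    obtain ⟨s, hs, hx⟩ := h.surj (e.symm x)
    exact ⟨s, hs, by simp [hx]⟩
  comm := by
    intro s hs t ht
    rw [← h.comm s hs t ht]
    show e (φ s) * e (φ t) = e (φ t) * e (φ s) ↔ _
    rw [← map_mul, ← map_mul, e.injective.eq_iff]
  dec := by
    intro t ht
    obtain ⟨r, hr, e', he', hx⟩ := h.dec t ht
    refine ⟨r, hr, e', he', ?_⟩
    show e (φ t) = e (φ r) * e (φ e')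
    rw [← map_mul, hx]
  sq := by
    intro s hs
    show e (φ s) * e (φ s) = 1
    rw [← map_mul, h.sq s hs, map_one]
  prd := by
    intro g hg g' hg'
    obtain ⟨h1, h2⟩ := h.prd g hg g' hg'
    refine ⟨h1, ?_⟩
    show e (φ (pr g g')) = (e (φ g))⁻¹ * e (φ g')
    rw [h2, map_mul, map_inv]

/-- The certificates on the lists of names. -/
structure LD (cm : ℕ → ℕ → Bool) (pr : ℕ → ℕ → ℕ) (L EL RL TL YL ZL WL : List ℕ) (r0 : ℕ) :
    Prop where
  EL_sub : ∀ s ∈ EL, s ∈ L
  RL_sub : ∀ s ∈ RL, s ∈ L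
  TL_sub : ∀ s ∈ TL, s ∈ L
  WL_sub : ∀ s ∈ WL, s ∈ L
  r0_mem : r0 ∈ EL
  EL_len : EL.length = 64
  RL_len : RL.length = 8
  Ecm : ∀ s ∈ EL, ∀ t ∈ EL, cm s t = true
  Emax : ∀ t ∈ L, (∀ s ∈ EL, cm t s = true) → t ∈ EL
  hT : ∀ T ∈ RL.sublists,
    T = [r0] ∨ T.length * (EL.filter (fun s => T.all (cm s))).length < 64
  hY : ∀ t ∈ L,
    TL.all (fun g => cm t g || TL.all (fun g' => cm t g' || cm t (pr g g'))) = true → t ∈ YL
  hZ : ∀ t ∈ YL, (∀ u ∈ L, cm t u = true) → t ∈ ZL
  ZL_len : ZL.length ≤ 8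
  hW : ∀ t ∈ YL, (YL.filter (fun s => WL.all (fun u => !(cm t u) || cm s u))).length ≤ 8

section

variable {Q : Type*} [Group Q] {φ : ℕ → Q} {cm : ℕ → ℕ → Bool} {pr : ℕ → ℕ → ℕ}
  {L EL RL TL YL ZL WL : List ℕ} {r0 : ℕ}

/-- The subgroup named by `EL`. -/
def QD.E (_ : QD Q φ cm pr L EL RL TL) : Subgroup Q :=
  Subgroup.centralizer {x : Q | ∃ s ∈ EL, φ s = x}

theorem QD.mem_E (hQ : QD Q φ cm pr L EL RL TL) (hL : LD cm pr L EL RL TL YL ZL WL r0) {x : Q} :
    x ∈ hQ.E ↔ ∃ s ∈ EL, φ s = x := by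
  unfold QD.E
  rw [Subgroup.mem_centralizer_iff]
  constructor
  · intro h
    obtain ⟨t, ht, rfl⟩ := hQ.surj x
    refine ⟨t, hL.Emax t ht ?_, rfl⟩
    intro s hs
    exact (hQ.comm t ht s (hL.EL_sub s hs)).mp (h (φ s) ⟨s, hs, rfl⟩).symm
  · rintro ⟨s, hs, rfl⟩ y ⟨s', hs', rfl⟩
    exact (hQ.comm s' (hL.EL_sub s' hs') s (hL.EL_sub s hs)).mpr (hL.Ecm s' hs' s hs)

theorem QD.E_comm (hQ : QD Q φ cm pr L EL RL TL) (hL : LD cm pr L EL RL TL YL ZL WL r0) {x y : Q}
    (hx : x ∈ hQ.E) (hy : y ∈ hQ.E) : x * y = y * x := by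
  obtain ⟨s, hs, rfl⟩ := (hQ.mem_E hL).mp hx
  obtain ⟨t, ht, rfl⟩ := (hQ.mem_E hL).mp hy
  exact (hQ.comm s (hL.EL_sub s hs) t (hL.EL_sub t ht)).mpr (hL.Ecm s hs t ht)

theorem QD.finite (hQ : QD Q φ cm pr L EL RL TL) : Finite Q :=
  Nat.finite_of_card_ne_zero (by rw [hQ.card]; norm_num)

theorem QD.card_E (hQ : QD Q φ cm pr L EL RL TL) (hL : LD cm pr L EL RL TL YL ZL WL r0) :
    Nat.card ↥hQ.E = 64 := by
  have h1 : Nat.card ↥hQ.E ≤ EL.length :=
    card_le_len (fun x : ↥hQ.E => (x : Q)) Subtype.val_injective φ EL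
      (fun x => (hQ.mem_E hL).mp x.2)
  rw [hL.EL_len] at h1
  have h2 : Nat.card (Q ⧸ hQ.E) ≤ RL.length := by
    refine card_le_len (fun q : Q ⧸ hQ.E => q) (fun a b e => e)
      (fun r => (QuotientGroup.mk (φ r) : Q ⧸ hQ.E)) RL ?_
    intro q
    induction q using QuotientGroup.induction_on with
    | H x =>
      obtain ⟨t, ht, rfl⟩ := hQ.surj x
      obtain ⟨r, hr, e, he, hx⟩ := hQ.dec t ht
      refine ⟨r, hr, ?_⟩
      rw [hx]
      exact (QuotientGroup.mk_mul_of_mem (φ r) ((hQ.mem_E hL).mpr ⟨e, he, rfl⟩)).symm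
  rw [hL.RL_len] at h2
  have h3 := Subgroup.card_eq_card_quotient_mul_card_subgroup hQ.E
  rw [hQ.card] at h3
  by_contra hne
  have h4 : Nat.card ↥hQ.E ≤ 63 := by omega
  have h5 : Nat.card (Q ⧸ hQ.E) * Nat.card ↥hQ.E ≤ 8 * 63 := Nat.mul_le_mul h2 h4
  omega

/-- Every commutative subgroup of order 64 is the subgroup named by `EL`. -/
theorem QD.eq_E (hQ : QD Q φ cm pr L EL RL TL) (hL : LD cm pr L EL RL TL YL ZL WL r0)
    (A : Subgroup Q) (hA : IsMulCommutative ↥A) (hc : Nat.card ↥A = 64) : A = hQ.E := by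
  classical
  have hfin : Finite Q := hQ.finite
  have hAc : ∀ a ∈ A, ∀ b ∈ A, a * b = b * a := fun a ha b hb =>
    congrArg Subtype.val (hA.is_comm.comm ⟨a, ha⟩ ⟨b, hb⟩)
  let met : ℕ → Prop := fun r => ∃ a ∈ A, ∃ e ∈ EL, a = φ r * φ e
  let T : List ℕ := RL.filter (fun r => decide (met r))
  have hTsub : T ∈ RL.sublists := List.mem_sublists.mpr List.filter_sublist
  have hTRL : ∀ r ∈ T, r ∈ RL := fun r hr => (List.mem_filter.mp hr).1
  have hmet : ∀ r ∈ T, ∃ a, a ∈ A ∧ ∃ e, e ∈ EL ∧ a = φ r * φ e := fun r hr =>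
    of_decide_eq_true (List.mem_filter.mp hr).2
  choose! α hαA ε hε hαe using hmet
  let DL : List ℕ := EL.filter (fun s => T.all (cm s))
  -- every element of `A` lies in a coset met by `A`
  have hrep : ∀ a ∈ A, ∃ r ∈ T, ∃ e ∈ EL, a = φ r * φ e := by
    intro a ha
    obtain ⟨t, ht, rfl⟩ := hQ.surj a
    obtain ⟨r, hr, e, he, hx⟩ := hQ.dec t ht
    exact ⟨r, List.mem_filter.mpr ⟨hr, decide_eq_true ⟨φ t, ha, e, he, hx⟩⟩, e, he, hx⟩
  have hkey : ∀ a : ↥A, ∃ p ∈ T ×ˢ DL, α p.1 * φ p.2 = (a : Q) := by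
    rintro ⟨a, ha⟩
    obtain ⟨r, hr, e, he, hx⟩ := hrep a ha
    have hy : (α r)⁻¹ * a ∈ A := A.mul_mem (A.inv_mem (hαA r hr)) ha
    have hyE : (α r)⁻¹ * a ∈ hQ.E := by
      rw [hαe r hr, hx]
      have e1 : (φ r * φ (ε r))⁻¹ * (φ r * φ e) = (φ (ε r))⁻¹ * φ e := by group
      rw [e1]
      exact hQ.E.mul_mem (hQ.E.inv_mem ((hQ.mem_E hL).mpr ⟨ε r, hε r hr, rfl⟩))
        ((hQ.mem_E hL).mpr ⟨e, he, rfl⟩)
    obtain ⟨s, hs, hsy⟩ := (hQ.mem_E hL).mp hyE
    have hsD : s ∈ DL := by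
      refine List.mem_filter.mpr ⟨hs, List.all_eq_true.mpr ?_⟩
      intro r' hr'
      refine (hQ.comm s (hL.EL_sub s hs) r' (hL.RL_sub r' (hTRL r' hr'))).mp ?_
      have h1 := hAc _ hy _ (hαA r' hr')
      rw [← hsy, hαe r' hr'] at h1
      have h2 : φ (ε r') * φ s = φ s * φ (ε r') :=
        hQ.E_comm hL ((hQ.mem_E hL).mpr ⟨ε r', hε r' hr', rfl⟩) ((hQ.mem_E hL).mpr ⟨s, hs, rfl⟩)
      have h3 : φ s * φ r' * φ (ε r') = φ r' * φ s * φ (ε r') := by
        rw [mul_assoc, h1, mul_assoc, h2, mul_assoc]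
      exact mul_right_cancel h3
    refine ⟨(r, s), List.mem_product.mpr ⟨hr, hsD⟩, ?_⟩
    show α r * φ s = a
    rw [hsy]
    group
  have hle : Nat.card ↥A ≤ (T ×ˢ DL).length :=
    card_le_len (fun a : ↥A => (a : Q)) Subtype.val_injective (fun p : ℕ × ℕ => α p.1 * φ p.2)
      (T ×ˢ DL) hkey
  rw [List.length_product, hc] at hle
  have hT1 : T = [r0] := by
    rcases hL.hT T hTsub with h | h
    · exact h
    · exact absurd hle (not_le.mpr h)
  have hAE : A ≤ hQ.E := by
    intro a ha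
    obtain ⟨r, hr, e, he, hx⟩ := hrep a ha
    rw [hT1, List.mem_singleton] at hr
    rw [hx, hr]
    exact hQ.E.mul_mem ((hQ.mem_E hL).mpr ⟨r0, hL.r0_mem, rfl⟩) ((hQ.mem_E hL).mpr ⟨e, he, rfl⟩)
  exact Subgroup.eq_of_le_of_card_ge hAE (by rw [hQ.card_E hL, hc])

/-- The centre of every maximal subgroup has order at most 8. -/
theorem QD.center_le (hQ : QD Q φ cm pr L EL RL TL) (hL : LD cm pr L EL RL TL YL ZL WL r0)
    (M : Subgroup Q) (hM : IsCoatom M) : Nat.card ↥(Subgroup.center ↥M) ≤ 8 := by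
  classical
  have hfin : Finite Q := hQ.finite
  have hp : IsPGroup 2 Q := IsPGroup.of_card (n := 9) (by rw [hQ.card]; norm_num)
  have hidx : M.index = 2 := coatom_idx hp hM
  let ι : ↥(Subgroup.center ↥M) → Q := fun x => ((x : ↥M) : Q)
  have hι : Function.Injective ι := fun a b e => Subtype.ext (Subtype.ext e)
  have hιM : ∀ x, ι x ∈ M := fun x => (x : ↥M).2
  have hcomm : ∀ x, ∀ m ∈ M, m * ι x = ι x * m := by
    intro x m hm
    have := Subgroup.mem_center_iff.mp x.2 ⟨m, hm⟩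
    exact congrArg Subtype.val this
  -- names of the elements of the centre lie in `YL`
  have hname : ∀ x, ∃ t ∈ L, φ t = ι x ∧ t ∈ YL := by
    intro x
    obtain ⟨t, ht, hφ⟩ := hQ.surj (ι x)
    refine ⟨t, ht, hφ, hL.hY t ht ?_⟩
    have hcm : ∀ u ∈ L, φ u ∈ M → cm t u = true := by
      intro u hu hum
      refine (hQ.comm t ht u hu).mp ?_
      rw [hφ]
      exact (hcomm x _ hum).symm
    refine List.all_eq_true.mpr (fun g hg => ?_)
    by_cases hgM : φ g ∈ M
    · rw [hcm g (hL.TL_sub g hg) hgM, Bool.true_or]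
    · rw [Bool.or_eq_true]
      right
      refine List.all_eq_true.mpr (fun g' hg' => ?_)
      by_cases hgM' : φ g' ∈ M
      · rw [hcm g' (hL.TL_sub g' hg') hgM', Bool.true_or]
      · rw [Bool.or_eq_true]
        right
        obtain ⟨h1, h2⟩ := hQ.prd g hg g' hg'
        refine hcm _ h1 ?_
        rw [h2]
        exact (Subgroup.mul_mem_iff_of_index_two hidx).mpr
          (iff_of_false (fun h => hgM (M.inv_mem_iff.mp h)) hgM')
  by_cases hc : ∀ x, ι x ∈ Subgroup.center Q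
  · have h1 : Nat.card ↥(Subgroup.center ↥M) ≤ ZL.length := by
      refine card_le_len ι hι φ ZL ?_
      intro x
      obtain ⟨t, ht, hφ, hY⟩ := hname x
      refine ⟨t, hL.hZ t hY ?_, hφ⟩
      intro u hu
      refine (hQ.comm t ht u hu).mp ?_
      rw [hφ]
      exact (Subgroup.mem_center_iff.mp (hc x) (φ u)).symm
    exact le_trans h1 hL.ZL_len
  · rw [not_forall] at hc
    obtain ⟨x0, hx0⟩ := hc
    obtain ⟨t0, ht0, hφ0, hY0⟩ := hname x0
    have hMC : M ≤ Subgroup.centralizer {ι x0} := by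
      intro m hm
      rw [Subgroup.mem_centralizer_iff]
      intro h hh
      rw [Set.mem_singleton_iff] at hh
      rw [hh]
      exact (hcomm x0 m hm).symm
    have hCtop : Subgroup.centralizer {ι x0} ≠ ⊤ := by
      intro h
      apply hx0
      rw [Subgroup.mem_center_iff]
      intro g
      have hg : g ∈ Subgroup.centralizer {ι x0} := by rw [h]; trivial
      exact (Subgroup.mem_centralizer_iff.mp hg (ι x0) rfl).symm
    have hCM : Subgroup.centralizer {ι x0} = M := (hM.le_iff.mp hMC).resolve_left hCtop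
    have h1 : Nat.card ↥(Subgroup.center ↥M) ≤
        (YL.filter (fun s => WL.all (fun u => !(cm t0 u) || cm s u))).length := by
      refine card_le_len ι hι φ _ ?_
      intro x
      obtain ⟨s, hs, hφ, hY⟩ := hname x
      refine ⟨s, List.mem_filter.mpr ⟨hY, List.all_eq_true.mpr ?_⟩, hφ⟩
      intro u hu
      cases hcu : cm t0 u with
      | false => rfl
      | true =>
        have huL := hL.WL_sub u hu
        have h2 : φ t0 * φ u = φ u * φ t0 := (hQ.comm t0 ht0 u huL).mpr hcu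
        have h3 : φ u ∈ M := by
          rw [← hCM, Subgroup.mem_centralizer_iff]
          intro h hh
          rw [Set.mem_singleton_iff] at hh
          rw [hh, ← hφ0]
          exact h2
        have h4 : cm s u = true := by
          refine (hQ.comm s hs u huL).mp ?_
          rw [hφ]
          exact (hcomm x _ h3).symm
        rw [h4]
        rfl
    exact le_trans h1 (hL.hW t0 hY0)

/-- The three properties of the group described by the names. -/
theorem QD.main (hQ : QD Q φ cm pr L EL RL TL) (hL : LD cm pr L EL RL TL YL ZL WL r0) :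
    (∀ M : Subgroup Q, IsCoatom M → Nat.card ↥(Subgroup.center ↥M) ≤ 8) ∧
      (∃ A : Subgroup Q, Cfsg.IsElementaryAbelian 2 A ∧ Nat.card ↥A = 64) ∧
      ∀ A B : Subgroup Q,
        IsMulCommutative ↥A → Nat.card ↥A = 64 → IsMulCommutative ↥B → Nat.card ↥B = 64 → A = B := by
  refine ⟨hQ.center_le hL, ⟨hQ.E, ⟨⟨⟨fun a b => Subtype.ext (hQ.E_comm hL a.2 b.2)⟩⟩, ?_⟩,
    hQ.card_E hL⟩, ?_⟩
  · intro a ha
    obtain ⟨s, hs, rfl⟩ := (hQ.mem_E hL).mp ha
    rw [pow_two]
    exact hQ.sq s hs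
  · intro A B hA hcA hB hcB
    rw [hQ.eq_E hL A hA hcA, hQ.eq_E hL B hB hcB]

end

end Cfsg.Agent.H34
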