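import Cfsg.Agent.H34.Syl2Data
import Cfsg.Agent.H34.Syl2Abs

/-!
# A Sylow 2-subgroup of `M24` modulo its centre (helper34 library)

The subgroup `syP` of `M24` generated by four involutions has order `1024`, its centre has order
two, and the quotient by the centre is described by the names of `Syl2Data`.  Hence, for every
Sylow 2-subgroup of `M24`: the centres of the maximal subgroups of the quotient by the centre have
order at most 8, and the quotient has exactly one commutative subgroup of order 64, which is
elementary abelian.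
-/

set_option autoImplicit false

namespace Cfsg.Agent.H34

open Cfsg Cfsg.Agent.H9
open scoped Pointwise

/-! ### Words of packed permutations -/

theorem evalW_spec {u : List ℕ} (hu : ∀ a ∈ u, svalid a = true) (p : GolayPt) :
    gIdx ((u.map lperm).prod p) = evalW u (gIdx p) := by
  induction u with
  | nil => simp [evalW]
  | cons a u ih =>
    rw [List.map_cons, List.prod_cons, Equiv.Perm.mul_apply, gIdx_lperm (hu a List.mem_cons_self),
      ih (fun b hb => hu b (List.mem_cons_of_mem _ hb))]
    rfl

theorem evalW_eq {u : List ℕ} (hu : ∀ a ∈ u, svalid a = true) {i : ℕ} (hi : i < 24) :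
    evalW u i = gIdx ((u.map lperm).prod (gPt i)) := by
  rw [evalW_spec hu, gIdx_gPt hi]

theorem eq22_sound {a b c d : ℕ} (ha : svalid a = true) (hb : svalid b = true)
    (hc : svalid c = true) (hd : svalid d = true) (h : eq22 a b c d = true) :
    lperm a * lperm b = lperm c * lperm d := by
  apply Equiv.ext
  intro p
  apply gIdx_injective
  rw [gIdx_lperm_mul ha hb, gIdx_lperm_mul hc hd]
  exact Nat.eq_of_beq_eq_true ((allB_iff _ _).mp h _ (gIdx_lt p))

/-! ### The subgroup -/

/-- The subgroup generated by the four involutions. -/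
def syP : Subgroup (Equiv.Perm GolayPt) := Subgroup.closure {x | ∃ g ∈ syG, x = lperm g}

theorem syG_valid {g : ℕ} (hg : g ∈ syG) : svalid g = true :=
  okM24_svalid (List.all_eq_true.mp sy_G_ok g hg)

theorem syG_mem {g : ℕ} (hg : g ∈ syG) : lperm g ∈ syP :=
  Subgroup.subset_closure ⟨g, hg, rfl⟩

theorem syP_le : syP ≤ M24 := by
  unfold syP
  rw [Subgroup.closure_le]
  rintro x ⟨g, hg, rfl⟩
  exact lperm_mem_M24 (List.all_eq_true.mp sy_G_ok g hg)

/-- The names are valid and name elements of the subgroup. -/
theorem syL_ok {s : ℕ} (hs : s ∈ syL) : svalid s = true ∧ lperm s ∈ syP := by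
  obtain ⟨e, he, rfl⟩ := List.mem_map.mp hs
  refine slpL_sound (Q := fun s => svalid s = true ∧ lperm s ∈ syP) ?_ ?_ syQ sy_slp e he
  · intro g hg
    rcases List.mem_cons.mp hg with rfl | hg'
    · exact ⟨idP_valid, by rw [lperm_idP]; exact syP.one_mem⟩
    · exact ⟨syG_valid hg', syG_mem hg'⟩
  · intro r s t hr hs ht hp
    refine ⟨hr, ?_⟩
    rw [prB_sound hr hs.1 ht.1 hp]
    exact syP.mul_mem hs.2 ht.2

theorem syz_comm_gen {g : ℕ} (hg : g ∈ syG) : lperm syz * lperm g = lperm g * lperm syz :=
  eq22_sound sy_z_valid (syG_valid hg) (syG_valid hg) sy_z_valid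
    (List.all_eq_true.mp sy_z_comm g hg)

theorem syz_central {x : Equiv.Perm GolayPt} (hx : x ∈ syP) : lperm syz * x = x * lperm syz := by
  have h : syP ≤ Subgroup.centralizer {lperm syz} := by
    unfold syP
    rw [Subgroup.closure_le]
    rintro y ⟨g, hg, rfl⟩
    rw [SetLike.mem_coe, Subgroup.mem_centralizer_iff]
    intro h hh
    rw [Set.mem_singleton_iff] at hh
    rw [hh]
    exact syz_comm_gen hg
  exact Subgroup.mem_centralizer_iff.mp (h hx) (lperm syz) rfl

theorem syz_sq : lperm syz * lperm syz = 1 := by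
  have := eq22_sound sy_z_valid sy_z_valid idP_valid idP_valid sy_z_sq
  rwa [lperm_idP, mul_one] at this

theorem syz_inv : (lperm syz)⁻¹ = lperm syz := inv_eq_of_mul_eq_one_left syz_sq

theorem syz_ne : lperm syz ≠ 1 := by
  intro h
  have h1 := gIdx_lperm sy_z_valid (gPt 1)
  rw [h, Equiv.Perm.one_apply, gIdx_gPt (by norm_num)] at h1
  exact sy_z_ne h1.symm

theorem syz_mem : lperm syz ∈ syP := by
  have h := sy_z_mem
  simp only [Bool.and_eq_true] at h
  obtain ⟨h1, h2, h3⟩ := h
  have ha := syL_ok (memB_iff.mp h2)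
  have hb := syL_ok (memB_iff.mp h3)
  have := eq22_sound sy_z_valid idP_valid ha.1 hb.1 h1
  rw [lperm_idP, mul_one] at this
  rw [this]
  exact syP.mul_mem ha.2 hb.2

theorem syG_sq {g : ℕ} (hg : g ∈ syG) : lperm g * lperm g = 1 := by
  have := eq22_sound (syG_valid hg) (syG_valid hg) idP_valid idP_valid
    (List.all_eq_true.mp sy_G_sq g hg)
  rwa [lperm_idP, mul_one] at this

/-! ### The enumeration -/

/-- The indices of the elements: a name, or a name with the central involution. -/
def syIL : List (Bool × ℕ) := syL.map (Prod.mk false) ++ syL.map (Prod.mk true)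

/-- The element with a given index. -/
noncomputable def syF (p : Bool × ℕ) : Equiv.Perm GolayPt :=
  cond p.1 (lperm syz * lperm p.2) (lperm p.2)

/-- The key of an index. -/
def syKI (p : Bool × ℕ) : ℕ := cond p.1 (syKZ p.2) (syKN p.2)

/-- The key of a permutation: the images of the three base points. -/
def keyP (x : Equiv.Perm GolayPt) : ℕ :=
  gIdx (x (gPt 0)) + 24 * gIdx (x (gPt 1)) + 576 * gIdx (x (gPt 3))

theorem syIL_mem {p : Bool × ℕ} (hp : p ∈ syIL) : p.2 ∈ syL := by
  unfold syIL at hp
  rcases List.mem_append.mp hp with h | h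
  · obtain ⟨s, hs, rfl⟩ := List.mem_map.mp h
    exact hs
  · obtain ⟨s, hs, rfl⟩ := List.mem_map.mp h
    exact hs

theorem syIL_false {s : ℕ} (hs : s ∈ syL) : (false, s) ∈ syIL :=
  List.mem_append_left _ (List.mem_map.mpr ⟨s, hs, rfl⟩)

theorem syIL_true {s : ℕ} (hs : s ∈ syL) : (true, s) ∈ syIL :=
  List.mem_append_right _ (List.mem_map.mpr ⟨s, hs, rfl⟩)

theorem syF_mem {p : Bool × ℕ} (hp : p ∈ syIL) : syF p ∈ syP := by
  have h := (syL_ok (syIL_mem hp)).2
  obtain ⟨b, s⟩ := p
  cases b
  · exact h
  · exact syP.mul_mem syz_mem h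

theorem syF_key {p : Bool × ℕ} (hp : p ∈ syIL) : keyP (syF p) = syKI p := by
  have h := (syL_ok (syIL_mem hp)).1
  obtain ⟨b, s⟩ := p
  cases b
  · show keyP (lperm s) = syKN s
    unfold keyP syKN
    rw [gIdx_lperm h, gIdx_lperm h, gIdx_lperm h, gIdx_gPt (i := 0) (by norm_num),
      gIdx_gPt (i := 1) (by norm_num), gIdx_gPt (i := 3) (by norm_num)]
  · show keyP (lperm syz * lperm s) = syKZ s
    unfold keyP syKZ
    rw [gIdx_lperm_mul sy_z_valid h, gIdx_lperm_mul sy_z_valid h, gIdx_lperm_mul sy_z_valid h,
      gIdx_gPt (i := 0) (by norm_num), gIdx_gPt (i := 1) (by norm_num),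
      gIdx_gPt (i := 3) (by norm_num)]

theorem syIL_nodup : (syIL.map syKI).Nodup := by
  have h : syIL.map syKI = syL.map syKN ++ syL.map syKZ := by
    unfold syIL
    rw [List.map_append, List.map_map, List.map_map]
    rfl
  rw [h]
  exact (nodupM_spec _ _ sy_keys).1

theorem sy_inj {p q : Bool × ℕ} (hp : p ∈ syIL) (hq : q ∈ syIL)
    (h : keyP (syF p) = keyP (syF q)) : p = q :=
  List.inj_on_of_nodup_map syIL_nodup hp hq (by rw [← syF_key hp, ← syF_key hq]; exact h)

/-- Left multiplication by a generator preserves the enumerated set. -/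
theorem sy_step {g : ℕ} (hg : g ∈ syG) {y : Equiv.Perm GolayPt} (hy : ∃ p ∈ syIL, y = syF p) :
    ∃ p ∈ syIL, lperm g * y = syF p := by
  obtain ⟨⟨b, s⟩, hp, rfl⟩ := hy
  have hs : s ∈ syL := syIL_mem hp
  have hsv := (syL_ok hs).1
  have hgv := syG_valid hg
  obtain ⟨q, hq, hqg⟩ : ∃ q ∈ syC, q.1 = g := by
    have : g ∈ syC.map Prod.fst := by rw [sy_C_fst]; exact hg
    obtain ⟨q, hq, e⟩ := List.mem_map.mp this
    exact ⟨q, hq, e⟩
  have hrow := List.all_eq_true.mp sy_close q hq
  obtain ⟨s', -, hs'⟩ := zipAllB_spec hrow s hs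
  simp only [Bool.and_eq_true, Bool.or_eq_true] at hs'
  rw [hqg] at hs'
  obtain ⟨hm, hprod⟩ := hs'
  have hs'L := memB_iff.mp hm
  have hs'v := (syL_ok hs'L).1
  have hprod' : lperm g * lperm s = lperm s' ∨ lperm g * lperm s = lperm syz * lperm s' := by
    rcases hprod with h | h
    · left
      have := eq22_sound hgv hsv idP_valid hs'v h
      rwa [lperm_idP, one_mul] at this
    · right
      exact eq22_sound hgv hsv sy_z_valid hs'v h
  cases b
  · rcases hprod' with h | h
    · exact ⟨(false, s'), syIL_false hs'L, h⟩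
    · exact ⟨(true, s'), syIL_true hs'L, h⟩
  · have e : lperm g * (lperm syz * lperm s) = lperm syz * (lperm g * lperm s) := by
      rw [← mul_assoc, ← syz_comm_gen hg, mul_assoc]
    rcases hprod' with h | h
    · refine ⟨(true, s'), syIL_true hs'L, ?_⟩
      show lperm g * (lperm syz * lperm s) = lperm syz * lperm s'
      rw [e, h]
    · refine ⟨(false, s'), syIL_false hs'L, ?_⟩
      show lperm g * (lperm syz * lperm s) = lperm s'
      rw [e, h, ← mul_assoc, syz_sq, one_mul]

theorem sy_enum {x : Equiv.Perm GolayPt} (hx : x ∈ syP) : ∃ p ∈ syIL, x = syF p := by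
  unfold syP at hx
  induction hx using Subgroup.closure_induction_left with
  | one =>
    refine ⟨(false, idP), syIL_false (memB_iff.mp sy_id_mem), ?_⟩
    show 1 = lperm idP
    rw [lperm_idP]
  | mul_left x hx y hy ih =>
    obtain ⟨g, hg, rfl⟩ := hx
    exact sy_step hg ih
  | inv_mul_cancel x hx y hy ih =>
    obtain ⟨g, hg, rfl⟩ := hx
    rw [inv_eq_of_mul_eq_one_left (syG_sq hg)]
    exact sy_step hg ih

/-- Two elements of the subgroup with the same key are equal. -/
theorem syP_ext {x y : Equiv.Perm GolayPt} (hx : x ∈ syP) (hy : y ∈ syP) (h : keyP x = keyP y) :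
    x = y := by
  obtain ⟨p, hp, rfl⟩ := sy_enum hx
  obtain ⟨q, hq, rfl⟩ := sy_enum hy
  rw [sy_inj hp hq h]

theorem card_syP : Nat.card ↥syP = 1024 := by
  classical
  have hnd : (syIL.map syF).Nodup := by
    refine List.Nodup.map_on ?_ (List.Nodup.of_map _ syIL_nodup)
    intro p hp q hq e
    exact sy_inj hp hq (by rw [e])
  have hset : (syP : Set (Equiv.Perm GolayPt)) = ↑(syIL.map syF).toFinset := by
    ext g
    simp only [List.mem_toFinset, List.mem_map, SetLike.mem_coe]
    constructor
    · intro hg
      obtain ⟨p, hp, e⟩ := sy_enum hg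
      exact ⟨p, hp, e.symm⟩
    · rintro ⟨p, hp, rfl⟩
      exact syF_mem hp
  have h1 : Nat.card ↥syP = (syP : Set (Equiv.Perm GolayPt)).ncard :=
    Nat.card_coe_set_eq (syP : Set (Equiv.Perm GolayPt))
  rw [h1, hset, Set.ncard_coe_finset, List.toFinset_card_of_nodup hnd, List.length_map]
  unfold syIL
  rw [List.length_append, List.length_map, List.length_map, sy_len]

/-! ### Words in the subgroup -/

/-- A letter: a valid packed permutation naming an element of the subgroup. -/
def syGood (a : ℕ) : Prop := svalid a = true ∧ lperm a ∈ syP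

theorem syGood_z : syGood syz := ⟨sy_z_valid, syz_mem⟩

theorem word_mem {u : List ℕ} (hu : ∀ a ∈ u, syGood a) : (u.map lperm).prod ∈ syP := by
  refine Subgroup.list_prod_mem _ ?_
  intro x hx
  obtain ⟨a, ha, rfl⟩ := List.mem_map.mp hx
  exact (hu a ha).2

theorem word_key {u : List ℕ} (hu : ∀ a ∈ u, syGood a) :
    keyP ((u.map lperm).prod) = evalW u 0 + 24 * evalW u 1 + 576 * evalW u 3 := by
  have hv : ∀ a ∈ u, svalid a = true := fun a ha => (hu a ha).1
  unfold keyP
  rw [← evalW_eq hv (by norm_num), ← evalW_eq hv (by norm_num), ← evalW_eq hv (by norm_num)]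

/-- Two words in the subgroup have the same product when they agree on the three base points. -/
theorem word3 {u v : List ℕ} (hu : ∀ a ∈ u, syGood a) (hv : ∀ a ∈ v, syGood a) :
    (u.map lperm).prod = (v.map lperm).prod ↔ eqK u v = true := by
  have hu' : ∀ a ∈ u, svalid a = true := fun a ha => (hu a ha).1
  have hv' : ∀ a ∈ v, svalid a = true := fun a ha => (hv a ha).1
  unfold eqK k3
  rw [Bool.and_eq_true, Bool.and_eq_true, Nat.beq_eq, Nat.beq_eq, Nat.beq_eq]
  constructor
  · intro h
    refine ⟨⟨?_, ?_⟩, ?_⟩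
    · rw [evalW_eq hu' (by norm_num), evalW_eq hv' (by norm_num), h]
    · rw [evalW_eq hu' (by norm_num), evalW_eq hv' (by norm_num), h]
    · rw [evalW_eq hu' (by norm_num), evalW_eq hv' (by norm_num), h]
  · intro h
    refine syP_ext (word_mem hu) (word_mem hv) ?_
    rw [word_key hu, word_key hv, h.1.1, h.1.2, h.2]

/-! ### The quotient by the centre -/

/-- The quotient of the subgroup by its centre. -/
abbrev SyQ : Type := ↥syP ⧸ Subgroup.center ↥syP

/-- The element of the quotient with a given name. -/
noncomputable def syφ (s : ℕ) : SyQ := by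
  classical
  exact if h : lperm s ∈ syP then QuotientGroup.mk ⟨lperm s, h⟩ else 1

/-- The central involution as an element of the subgroup. -/
noncomputable def syzS : ↥syP := ⟨lperm syz, syz_mem⟩

theorem syz_center : syzS ∈ Subgroup.center ↥syP := by
  rw [Subgroup.mem_center_iff]
  intro g
  exact Subtype.ext (syz_central g.2).symm

theorem sy_center {x : ↥syP} : x ∈ Subgroup.center ↥syP ↔ x = 1 ∨ x = syzS := by
  constructor
  · intro hx
    have hcg : ∀ g ∈ syG, lperm g * x.1 = x.1 * lperm g := by
      intro g hg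
      have := Subgroup.mem_center_iff.mp hx ⟨lperm g, syG_mem hg⟩
      exact congrArg Subtype.val this
    obtain ⟨⟨b, s⟩, hp, hxp⟩ := sy_enum x.2
    have hs := syIL_mem hp
    have hcs : ∀ g ∈ syG, lperm s * lperm g = lperm g * lperm s := by
      intro g hg
      have h1 := hcg g hg
      rw [hxp] at h1
      cases b
      · exact h1.symm
      · have h1' : lperm g * (lperm syz * lperm s) = lperm syz * lperm s * lperm g := h1
        have h2 : lperm syz * (lperm g * lperm s) = lperm syz * (lperm s * lperm g) := by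
          rw [← mul_assoc, syz_comm_gen hg, mul_assoc, h1', mul_assoc]
        exact (mul_left_cancel h2).symm
    have hid : s = idP := by
      have h := List.all_eq_true.mp sy_cent s hs
      rw [Bool.or_eq_true, Bool.not_eq_true'] at h
      rcases h with h | h
      · exfalso
        have hall : syG.all (fun g => sycE s g) = true := by
          refine List.all_eq_true.mpr (fun g hg => ?_)
          have hw := word3 (u := [s, g]) (v := [g, s])
            (by
              intro a ha
              rcases List.mem_cons.mp ha with rfl | ha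
              · exact syL_ok hs
              · rw [List.mem_singleton] at ha
                rw [ha]
                exact ⟨syG_valid hg, syG_mem hg⟩)
            (by
              intro a ha
              rcases List.mem_cons.mp ha with rfl | ha
              · exact ⟨syG_valid hg, syG_mem hg⟩
              · rw [List.mem_singleton] at ha
                rw [ha]
                exact syL_ok hs)
          refine hw.mp ?_
          show lperm s * (lperm g * 1) = lperm g * (lperm s * 1)
          rw [mul_one, mul_one]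
          exact hcs g hg
        rw [hall] at h
        exact Bool.noConfusion h
      · exact Nat.eq_of_beq_eq_true h
    subst hid
    cases b
    · left
      apply Subtype.ext
      rw [hxp]
      exact lperm_idP
    · right
      apply Subtype.ext
      rw [hxp]
      show lperm syz * lperm idP = lperm syz
      rw [lperm_idP, mul_one]
  · rintro (rfl | rfl)
    · exact Subgroup.one_mem _
    · exact syz_center

theorem card_center_syP : Nat.card ↥(Subgroup.center ↥syP) = 2 := by
  have hset : (Subgroup.center ↥syP : Set ↥syP) = {1, syzS} := by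
    ext x
    rw [SetLike.mem_coe, sy_center, Set.mem_insert_iff, Set.mem_singleton_iff]
  have hne : (1 : ↥syP) ≠ syzS := fun h => syz_ne (congrArg Subtype.val h).symm
  have h1 : Nat.card ↥(Subgroup.center ↥syP) = (Subgroup.center ↥syP : Set ↥syP).ncard :=
    Nat.card_coe_set_eq (Subgroup.center ↥syP : Set ↥syP)
  rw [h1, hset, Set.ncard_pair hne]

theorem card_SyQ : Nat.card SyQ = 512 := by
  have h := Subgroup.card_eq_card_quotient_mul_card_subgroup (Subgroup.center ↥syP)
  rw [card_syP, card_center_syP] at h
  show Nat.card (↥syP ⧸ Subgroup.center ↥syP) = 512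
  omega

theorem sy_mk_eq (a b : ↥syP) :
    (QuotientGroup.mk a : SyQ) = QuotientGroup.mk b ↔ a.1 = b.1 ∨ a.1 = lperm syz * b.1 := by
  rw [QuotientGroup.eq, sy_center]
  constructor
  · rintro (h | h)
    · left
      rw [inv_mul_eq_one] at h
      rw [h]
    · right
      have h' : b = a * syzS := by
        rw [← h]
        group
      have h2 : b.1 = a.1 * lperm syz := congrArg Subtype.val h'
      rw [h2, ← mul_assoc, syz_central a.2, mul_assoc, syz_sq, mul_one]
  · rintro (h | h)
    · left
      have : a = b := Subtype.ext h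
      rw [this, inv_mul_cancel]
    · right
      apply Subtype.ext
      show a.1⁻¹ * b.1 = lperm syz
      rw [h, mul_inv_rev, syz_inv, mul_assoc, syz_central b.2, inv_mul_cancel_left]

theorem syφ_eq {s : ℕ} (h : lperm s ∈ syP) : syφ s = QuotientGroup.mk ⟨lperm s, h⟩ := by
  unfold syφ
  exact dif_pos h

theorem syφ_prod {u : List ℕ} (hu : ∀ a ∈ u, syGood a) :
    (u.map syφ).prod = (QuotientGroup.mk ⟨(u.map lperm).prod, word_mem hu⟩ : SyQ) := by
  induction u with
  | nil => rfl
  | cons a u ih =>
    show syφ a * (u.map syφ).prod = _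
    rw [ih (fun b hb => hu b (List.mem_cons_of_mem _ hb)), syφ_eq (hu a List.mem_cons_self).2]
    rfl

/-- Two words have the same product in the quotient when they agree on the base points, up to
the central involution. -/
theorem φ_word {u v : List ℕ} (hu : ∀ a ∈ u, syGood a) (hv : ∀ a ∈ v, syGood a) :
    (u.map syφ).prod = (v.map syφ).prod ↔ (eqK u v || eqK u (syz :: v)) = true := by
  have hv' : ∀ a ∈ syz :: v, syGood a := by
    intro a ha
    rcases List.mem_cons.mp ha with rfl | h
    · exact syGood_z
    · exact hv a h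
  rw [syφ_prod hu, syφ_prod hv, sy_mk_eq, Bool.or_eq_true, ← word3 hu hv, ← word3 hu hv']
  rfl

theorem good1 {a : ℕ} (ha : a ∈ syL) : ∀ x ∈ [a], syGood x := by
  intro x hx
  rw [List.mem_singleton] at hx
  rw [hx]
  exact syL_ok ha

theorem good2 {a b : ℕ} (ha : a ∈ syL) (hb : b ∈ syL) : ∀ x ∈ [a, b], syGood x := by
  intro x hx
  rcases List.mem_cons.mp hx with rfl | hx
  · exact syL_ok ha
  · exact good1 hb x hx

theorem syE_sub {s : ℕ} (hs : s ∈ syE) : s ∈ syL :=
  memB_iff.mp (List.all_eq_true.mp sy_E_sub s hs)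

theorem syR_sub {s : ℕ} (hs : s ∈ syR) : s ∈ syL :=
  memB_iff.mp (List.all_eq_true.mp sy_R_sub s hs)

theorem syT_sub {s : ℕ} (hs : s ∈ syT) : s ∈ syL :=
  memB_iff.mp (List.all_eq_true.mp sy_T_sub s hs)

theorem syW_sub {s : ℕ} (hs : s ∈ syW) : s ∈ syL :=
  memB_iff.mp (List.all_eq_true.mp sy_W_sub s hs)

theorem syφ_dec {t r e : ℕ} (ht : t ∈ syL) (hr : r ∈ syL) (he : e ∈ syL)
    (h : syDec t r e = true) : syφ t = syφ r * syφ e := by
  have hw := φ_word (good1 ht) (good2 hr he)
  simp only [List.map_cons, List.map_nil, List.prod_cons, List.prod_nil, mul_one] at hw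
  exact hw.mpr h

theorem syφ_sq {s : ℕ} (hs : s ∈ syL) (h : sySq s = true) : syφ s * syφ s = 1 := by
  have hw := φ_word (good2 hs hs) (v := []) (fun a ha => absurd ha List.not_mem_nil)
  simp only [List.map_cons, List.map_nil, List.prod_cons, List.prod_nil, mul_one] at hw
  exact hw.mpr h

/-- The description of the quotient by the names. -/
theorem sy_QD : QD SyQ syφ sycm sypr syL syE syR syT where
  card := card_SyQ
  surj := by
    intro x
    induction x using QuotientGroup.induction_on with
    | H y =>
      obtain ⟨⟨b, s⟩, hp, hy⟩ := sy_enum y.2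
      have hs := syIL_mem hp
      refine ⟨s, hs, ?_⟩
      rw [syφ_eq (syL_ok hs).2, sy_mk_eq]
      cases b
      · left
        exact hy.symm
      · right
        show lperm s = lperm syz * y.1
        rw [hy]
        show lperm s = lperm syz * (lperm syz * lperm s)
        rw [← mul_assoc, syz_sq, one_mul]
  comm := by
    intro s hs t ht
    have hw := φ_word (good2 hs ht) (good2 ht hs)
    simp only [List.map_cons, List.map_nil, List.prod_cons, List.prod_nil, mul_one] at hw
    exact hw
  dec := by
    intro t ht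
    obtain ⟨c, -, hc⟩ := zipAllB_spec sy_dec t ht
    simp only [Bool.and_eq_true] at hc
    obtain ⟨h1, h2, h3⟩ := hc
    have hr := memB_iff.mp h1
    have he := memB_iff.mp h2
    exact ⟨c.1, hr, c.2, he, syφ_dec ht (syR_sub hr) (syE_sub he) h3⟩
  sq := by
    intro s hs
    exact syφ_sq (syE_sub hs) (List.all_eq_true.mp sy_sq s hs)
  prd := by
    intro g hg g' hg'
    have h := List.all_eq_true.mp sy_pr g hg
    rw [Bool.and_eq_true] at h
    obtain ⟨h1, h2⟩ := h
    have h3 := List.all_eq_true.mp h2 g' hg'
    rw [Bool.and_eq_true] at h3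
    obtain ⟨h4, h5⟩ := h3
    have hp := memB_iff.mp h4
    refine ⟨hp, ?_⟩
    rw [inv_eq_of_mul_eq_one_left (syφ_sq (syT_sub hg) h1)]
    exact syφ_dec hp (syT_sub hg) (syT_sub hg') h5

/-- The certificates on the lists of names. -/
theorem sy_LD : LD sycm sypr syL syE syR syT syY syZ syW idP where
  EL_sub := fun _ hs => syE_sub hs
  RL_sub := fun _ hs => syR_sub hs
  TL_sub := fun _ hs => syT_sub hs
  WL_sub := fun _ hs => syW_sub hs
  r0_mem := memB_iff.mp sy_r0
  EL_len := sy_E_len
  RL_len := sy_R_len
  Ecm := fun s hs t ht => List.all_eq_true.mp (List.all_eq_true.mp sy_Ecm s hs) t ht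
  Emax := by
    intro t ht h
    have h1 := List.all_eq_true.mp sy_Emax t ht
    rw [Bool.or_eq_true, Bool.not_eq_true'] at h1
    rcases h1 with h1 | h1
    · have h2 : syE.all (fun s => sycm t s) = true := List.all_eq_true.mpr h
      rw [h2] at h1
      exact Bool.noConfusion h1
    · exact memB_iff.mp h1
  hT := by
    intro T hT
    have h1 := List.all_eq_true.mp sy_hT T hT
    rw [Bool.or_eq_true] at h1
    rcases h1 with h1 | h1
    · left
      exact isSingle_spec h1
    · right
      exact Nat.blt_eq.mp h1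
  hY := by
    intro t ht h
    have h1 := List.all_eq_true.mp sy_hY t ht
    rw [Bool.or_eq_true, Bool.not_eq_true'] at h1
    rcases h1 with h1 | h1
    · rw [h] at h1
      exact Bool.noConfusion h1
    · exact memB_iff.mp h1
  hZ := by
    intro t ht h
    have h1 := List.all_eq_true.mp sy_hZ t ht
    rw [Bool.or_eq_true, Bool.not_eq_true'] at h1
    rcases h1 with h1 | h1
    · have h2 : syL.all (sycm t) = true := List.all_eq_true.mpr h
      rw [h2] at h1
      exact Bool.noConfusion h1
    · exact memB_iff.mp h1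
  ZL_len := sy_Z_len
  hW := by
    intro t ht
    exact Nat.ble_eq.mp (List.all_eq_true.mp sy_hW t ht)

/-! ### Transport to an arbitrary Sylow 2-subgroup -/

theorem fact_2 : (244823040 : ℕ).factorization 2 = 10 := by
  have e : (244823040 : ℕ) = 2 ^ 10 * 239085 := by norm_num
  rw [e, Nat.factorization_mul (by norm_num) (by norm_num), Nat.factorization_pow]
  have h1 : (2 : ℕ).factorization 2 = 1 := Nat.Prime.factorization_self (by norm_num)
  have h2 : (239085 : ℕ).factorization 2 = 0 :=
    Nat.factorization_eq_zero_of_not_dvd (by norm_num)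
  simp [h1, h2]

/-- An isomorphism maps the centre onto the centre. -/
theorem map_center_eq {G H : Type*} [Group G] [Group H] (e : G ≃* H) :
    (Subgroup.center G).map e.toMonoidHom = Subgroup.center H := by
  ext x
  rw [Subgroup.mem_map, Subgroup.mem_center_iff]
  constructor
  · rintro ⟨y, hy, rfl⟩ h
    have h1 := Subgroup.mem_center_iff.mp hy (e.symm h)
    have h2 := congrArg e h1
    simpa using h2
  · intro hx
    refine ⟨e.symm x, ?_, by simp⟩
    rw [Subgroup.mem_center_iff]
    intro g
    have h1 := hx (e g)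
    apply e.injective
    simpa using h1

/-- Every Sylow 2-subgroup of `M24` is isomorphic to `syP`. -/
theorem sylow2_iso (P : Sylow 2 ↥M24) : Nonempty (↥syP ≃* ↥(P : Subgroup ↥M24)) := by
  have : Finite ↥M24 := finite_M24
  have hcard : Nat.card ↥(syP.subgroupOf M24) = 2 ^ (Nat.card ↥M24).factorization 2 := by
    rw [card_M24, fact_2, Nat.card_congr (Subgroup.subgroupOfEquivOfLe syP_le).toEquiv, card_syP]
    norm_num
  obtain ⟨g, hg⟩ := MulAction.exists_smul_eq ↥M24 (Sylow.ofCard (syP.subgroupOf M24) hcard) P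
  have hP : (P : Subgroup ↥M24) = MulAut.conj g • syP.subgroupOf M24 := by
    have := congrArg (fun P : Sylow 2 ↥M24 => (P : Subgroup ↥M24)) hg
    simpa [Sylow.coe_subgroup_smul] using this.symm
  exact ⟨(Subgroup.subgroupOfEquivOfLe syP_le).symm.trans
    ((Subgroup.equivSMul (MulAut.conj g) (syP.subgroupOf M24)).trans
      (MulEquiv.subgroupCongr hP.symm))⟩

/-- The Sylow 2-subgroups of `M24` modulo their centre. -/
theorem syl2_main (P : Sylow 2 ↥M24) :
    (∀ M : Subgroup (↥(P : Subgroup ↥M24) ⧸ Subgroup.center ↥(P : Subgroup ↥M24)), IsCoatom M →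
        Nat.card ↥(Subgroup.center ↥M) ≤ 8) ∧
      (∃ A : Subgroup (↥(P : Subgroup ↥M24) ⧸ Subgroup.center ↥(P : Subgroup ↥M24)),
        Cfsg.IsElementaryAbelian 2 A ∧ Nat.card ↥A = 64) ∧
      ∀ A B : Subgroup (↥(P : Subgroup ↥M24) ⧸ Subgroup.center ↥(P : Subgroup ↥M24)),
        IsMulCommutative ↥A → Nat.card ↥A = 64 → IsMulCommutative ↥B → Nat.card ↥B = 64 →
          A = B := by
  obtain ⟨e⟩ := sylow2_iso P
  exact (sy_QD.map (QuotientGroup.congr _ _ e (map_center_eq e))).main sy_LD

end Cfsg.Agent.H34
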