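import Cfsg.Agent.S0425
import Cfsg.Agent.S1592
import Cfsg.Agent.S1593
import Cfsg.Agent.H34.TernaryHex

/-!
# The monomial group of the ternary code of length 12

The permutations admitting signs that make them automorphisms of the code are exactly the
automorphisms of the system of hexads; the monomial group has order `2 * 95040`.  The proof uses
the sharp 5-transitivity of the automorphism group of a Steiner system `S(5, 6, 12)` and fifty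
explicit monomial automorphisms forming transversals along the first five positions.
-/

set_option autoImplicit false

namespace Cfsg.Agent.H34

open Cfsg
open scoped Pointwise

/-- The pair preserves the ternary code. -/
def TPres (σ : Equiv.Perm ArrayPt) (c : ArrayPt → (ZMod 3)ˣ) : Prop :=
  ∀ x ∈ ternaryGolayCode, monomialMap σ c x ∈ ternaryGolayCode

theorem monomialMap_comp {α F : Type*} [Field F] (σ τ : Equiv.Perm α) (c d : α → Fˣ)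
    (x : α → F) : monomialMap σ c (monomialMap τ d x) =
      monomialMap (σ * τ) (fun i => c i * d (σ.symm i)) x := by
  funext i
  simp only [monomialMap, Units.val_mul]
  rw [mul_assoc]
  rfl

theorem TPres_mul {σ τ : Equiv.Perm ArrayPt} {c d : ArrayPt → (ZMod 3)ˣ} (h1 : TPres σ c)
    (h2 : TPres τ d) : TPres (σ * τ) (fun i => c i * d (σ.symm i)) := by
  intro x hx
  rw [← monomialMap_comp]
  exact h1 _ (h2 x hx)

theorem TPres_of_gen {σ : Equiv.Perm ArrayPt} {c : ArrayPt → (ZMod 3)ˣ}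
    (h : ∀ j : Fin 6, monomialMap σ c (tgen j) ∈ ternaryGolayCode) : TPres σ c := by
  intro x hx
  obtain ⟨b, rfl⟩ := (mem_ternary_iff x).mp hx
  have e : monomialMap σ c (tenc b) = b.1 • monomialMap σ c (tgen 0) +
      b.2.1 • monomialMap σ c (tgen 1) + b.2.2.1 • monomialMap σ c (tgen 2) +
      b.2.2.2.1 • monomialMap σ c (tgen 3) + b.2.2.2.2.1 • monomialMap σ c (tgen 4) +
      b.2.2.2.2.2 • monomialMap σ c (tgen 5) := by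
    funext p
    simp only [monomialMap, Pi.add_apply, Pi.smul_apply, smul_eq_mul, tenc_lin b]
    ring
  rw [e]
  exact add_mem (add_mem (add_mem (add_mem (add_mem (Submodule.smul_mem _ _ (h 0))
    (Submodule.smul_mem _ _ (h 1))) (Submodule.smul_mem _ _ (h 2)))
    (Submodule.smul_mem _ _ (h 3))) (Submodule.smul_mem _ _ (h 4))) (Submodule.smul_mem _ _ (h 5))

theorem supp_mono (σ : Equiv.Perm ArrayPt) (c : ArrayPt → (ZMod 3)ˣ) (x : ArrayPt → ZMod 3) :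
    ternarySupport (monomialMap σ c x) = σ • ternarySupport x := by
  ext p
  rw [← Finset.inv_smul_mem_iff]
  unfold ternarySupport
  rw [Finset.mem_filter, Finset.mem_filter]
  simp only [Finset.mem_univ, true_and]
  show (c p : ZMod 3) * x (σ.symm p) ≠ 0 ↔ x (σ.symm p) ≠ 0
  constructor
  · intro h h0
    exact h (by rw [h0, mul_zero])
  · intro h h0
    rcases mul_eq_zero.mp h0 with h1 | h1
    · exact (c p).ne_zero h1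
    · exact h h1

/-- A permutation admitting signs is an automorphism of the system of hexads. -/
theorem mono_le_aut {σ : Equiv.Perm ArrayPt} {c : ArrayPt → (ZMod 3)ˣ} (h : TPres σ c) :
    σ ∈ setSystemAut ternHexads := by
  rw [MulAction.mem_stabilizer_iff]
  have hsub : σ • ternHexads ⊆ ternHexads := by
    rintro _ ⟨h0, ⟨x, hx, rfl, hc⟩, rfl⟩
    refine ⟨monomialMap σ c x, h x hx, supp_mono σ c x, ?_⟩
    rw [Finset.card_smul_finset]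
    exact hc
  refine Set.eq_of_subset_of_ncard_le hsub ?_ (Set.toFinite _)
  rw [← Set.image_smul, Set.ncard_image_of_injective _ (MulAction.injective σ)]

/-! ### The transversal elements -/

/-- The images of the twelve positions under the fifty transversal elements. -/
def tF (k : Fin 50) : Fin 12 → Fin 12 :=
  (![![0, 1, 2, 3, 4, 5, 6, 7, 8, 9, 10, 11], ![1, 0, 2, 3, 4, 5, 11, 9, 10, 7, 8, 6], ![2, 0, 1, 3, 4, 5, 8, 6, 7, 10, 11, 9], ![3, 0, 1, 2, 4, 5, 10, 7, 6, 8, 9, 11], ![4, 0, 1, 2, 3, 5, 6, 9, 10, 11, 7, 8], ![5, 0, 1, 2, 3, 4, 9, 6, 8, 7, 11, 10], ![6, 0, 1, 2, 3, 9, 5, 4, 7, 10, 8, 11], ![7, 0, 1, 2, 3, 11, 10, 8, 9, 4, 5, 6], ![8, 0, 1, 2, 3, 10, 7, 11, 4, 6, 9, 5], ![9, 0, 1, 2, 3, 6, 4, 5, 11, 8, 10, 7], ![10, 0, 1, 2, 3, 8, 11, 7, 5, 9, 6, 4], ![11, 0, 1, 2, 3, 7, 8, 10, 6, 5, 4, 9], ![0, 1, 2, 3, 4, 5, 6, 7, 8, 9, 10, 11],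 ![0, 2, 1, 3, 4, 5, 9, 10, 11, 6, 7, 8], ![0, 3, 1, 2, 4, 5, 11, 8, 9, 7, 6, 10], ![0, 4, 1, 2, 3, 5, 8, 11, 7, 9, 10, 6], ![0, 5, 1, 2, 3, 4, 10, 7, 11, 6, 8, 9], ![0, 6, 1, 2, 3, 9, 11, 10, 8, 4, 7, 5], ![0, 7, 1, 2, 3, 11, 6, 4, 5, 8, 9, 10], ![0, 8, 1, 2, 3, 10, 5, 6, 9, 11, 4, 7], ![0, 9, 1, 2, 3, 6, 7, 8, 10, 5, 11, 4], ![0, 10, 1, 2, 3, 8, 4, 9, 6, 7, 5, 11], ![0, 11, 1, 2, 3, 7, 9, 5, 4, 10, 6, 8], ![0, 1, 2, 3, 4, 5, 6, 7, 8, 9, 10, 11], ![0, 1, 3, 2, 4, 5, 7, 6, 10, 11, 8, 9], ![0, 1, 4, 2, 3, 5, 9, 10, 6, 8, 11, 7], ![0, 1, 5, 2, 3, 4, 6, 8, 9, 10, 7, 11], ![0, 1, 6, 2, 3, 9, 4, 7, 5, 11, 10, 8], ![0, 1, 7, 2, 3, 11, 8, 9, 10, 6, 4, 5], ![0, 1, 8, 2, 3, 10, 11, 4, 7, 5, 6, 9], ![0, 1, 9, 2, 3, 6, 5, 11, 4, 7, 8, 10], ![0, 1, 10, 2, 3, 8, 7, 5, 11, 4, 9, 6], ![0, 1, 11, 2, 3, 7, 10, 6, 8, 9, 5, 4], ![0, 1, 2, 3, 4, 5, 6, 7, 8, 9,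 10, 11], ![0, 1, 2, 4, 3, 5, 10, 9, 11, 7, 6, 8], ![0, 1, 2, 5, 3, 4, 8, 6, 7, 11, 9, 10], ![0, 1, 2, 6, 3, 9, 7, 4, 10, 8, 5, 11], ![0, 1, 2, 7, 3, 11, 9, 8, 4, 5, 10, 6], ![0, 1, 2, 8, 3, 10, 4, 11, 6, 9, 7, 5], ![0, 1, 2, 9, 3, 6, 11, 5, 8, 10, 4, 7], ![0, 1, 2, 10, 3, 8, 5, 7, 9, 6, 11, 4], ![0, 1, 2, 11, 3, 7, 6, 10, 5, 4, 8, 9], ![0, 1, 2, 3, 4, 5, 6, 7, 8, 9, 10, 11], ![0, 1, 2, 3, 5, 4, 9, 11, 10, 6, 8, 7], ![0, 1, 2, 3, 6, 9, 5, 8, 11, 4, 7, 10], ![0, 1, 2, 3, 7, 11, 10, 5, 6, 8, 9, 4], ![0, 1, 2, 3, 8, 10, 7, 9, 5, 11, 4, 6], ![0, 1, 2, 3, 9, 6, 4, 10, 7, 5, 11, 8], ![0, 1, 2, 3, 10, 8, 11, 6, 4, 7, 5, 9], ![0, 1, 2, 3, 11, 7, 8, 4, 9, 10, 6, 5]] : Fin 50 → Fin 12 → Fin 12) k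

/-- The inverse images. -/
def tG (k : Fin 50) : Fin 12 → Fin 12 :=
  (![![0, 1, 2, 3, 4, 5, 6, 7, 8, 9, 10, 11], ![1, 0, 2, 3, 4, 5, 11, 9, 10, 7, 8, 6], ![1, 2, 0, 3, 4, 5, 7, 8, 6, 11, 9, 10], ![1, 2, 3, 0, 4, 5, 8, 7, 9, 10, 6, 11], ![1, 2, 3, 4, 0, 5, 6, 10, 11, 7, 8, 9], ![1, 2, 3, 4, 5, 0, 7, 9, 8, 6, 11, 10], ![1, 2, 3, 4, 7, 6, 0, 8, 10, 5, 9, 11], ![1, 2, 3, 4, 9, 10, 11, 0, 7, 8, 6, 5], ![1, 2, 3, 4, 8, 11, 9, 6, 0, 10, 5, 7], ![1, 2, 3, 4, 6, 7, 5, 11, 9, 0, 10, 8], ![1, 2, 3, 4, 11, 8, 10, 7, 5, 9, 0, 6], ![1, 2, 3, 4, 10, 9, 8, 5, 6, 11, 7, 0], ![0, 1, 2, 3, 4, 5, 6, 7, 8, 9, 10, 11], ![0, 2, 1, 3, 4, 5, 9, 10, 11, 6, 7, 8], ![0, 2, 3, 1, 4, 5, 10, 9, 7, 8, 11, 6], ![0, 2, 3, 4, 1, 5, 11, 8, 6, 9, 10, 7], ![0, 2, 3, 4, 5, 1, 9, 7, 10, 11, 6, 8], ![0, 2, 3, 4, 9, 11, 1, 10, 8, 5, 7, 6], ![0, 2, 3, 4, 7, 8, 6, 1, 9, 10, 11, 5],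 ![0, 2, 3, 4, 10, 6, 7, 11, 1, 8, 5, 9], ![0, 2, 3, 4, 11, 9, 5, 6, 7, 1, 8, 10], ![0, 2, 3, 4, 6, 10, 8, 9, 5, 7, 1, 11], ![0, 2, 3, 4, 8, 7, 10, 5, 11, 6, 9, 1], ![0, 1, 2, 3, 4, 5, 6, 7, 8, 9, 10, 11], ![0, 1, 3, 2, 4, 5, 7, 6, 10, 11, 8, 9], ![0, 1, 3, 4, 2, 5, 8, 11, 9, 6, 7, 10], ![0, 1, 3, 4, 5, 2, 6, 10, 7, 8, 9, 11], ![0, 1, 3, 4, 6, 8, 2, 7, 11, 5, 10, 9], ![0, 1, 3, 4, 10, 11, 9, 2, 6, 7, 8, 5], ![0, 1, 3, 4, 7, 9, 10, 8, 2, 11, 5, 6], ![0, 1, 3, 4, 8, 6, 5, 9, 10, 2, 11, 7], ![0, 1, 3, 4, 9, 7, 11, 6, 5, 10, 2, 8], ![0, 1, 3, 4, 11, 10, 7, 5, 8, 9, 6, 2], ![0, 1, 2, 3, 4, 5, 6, 7, 8, 9, 10, 11], ![0, 1, 2, 4, 3, 5, 10, 9, 11, 7, 6, 8], ![0, 1, 2, 4, 5, 3, 7, 8, 6, 10, 11, 9], ![0, 1, 2, 4, 7, 10, 3, 6, 9, 5, 8, 11], ![0, 1, 2, 4, 8, 9, 11, 3, 7, 6, 10, 5], ![0, 1, 2, 4, 6, 11, 8, 10, 3, 9, 5, 7], ![0, 1, 2, 4, 10, 7, 5, 11, 8, 3,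 9, 6], ![0, 1, 2, 4, 11, 6, 9, 7, 5, 8, 3, 10], ![0, 1, 2, 4, 9, 8, 6, 5, 10, 11, 7, 3], ![0, 1, 2, 3, 4, 5, 6, 7, 8, 9, 10, 11], ![0, 1, 2, 3, 5, 4, 9, 11, 10, 6, 8, 7], ![0, 1, 2, 3, 9, 6, 4, 10, 7, 5, 11, 8], ![0, 1, 2, 3, 11, 7, 8, 4, 9, 10, 6, 5], ![0, 1, 2, 3, 10, 8, 11, 6, 4, 7, 5, 9], ![0, 1, 2, 3, 6, 9, 5, 8, 11, 4, 7, 10], ![0, 1, 2, 3, 8, 10, 7, 9, 5, 11, 4, 6], ![0, 1, 2, 3, 7, 11, 10, 5, 6, 8, 9, 4]] : Fin 50 → Fin 12 → Fin 12) k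

/-- The signs. -/
def tCv (k : Fin 50) : Fin 12 → (ZMod 3)ˣ :=
  (![![1, 1, 1, 1, 1, 1, 1, 1, 1, 1, 1, 1], ![1, 1, 1, 1, 1, 1, 1, 1, 1, 1, 1, 1], ![1, 1, 1, 1, 1, 1, 1, 1, 1, 1, 1, 1], ![1, 1, -1, -1, 1, 1, -1, -1, 1, -1, 1, -1], ![1, 1, -1, 1, -1, 1, 1, -1, -1, -1, -1, 1], ![1, 1, -1, 1, 1, -1, -1, 1, -1, 1, -1, -1], ![1, -1, 1, 1, -1, 1, -1, -1, -1, 1, 1, -1], ![1, -1, -1, -1, -1, 1, 1, 1, 1, 1, -1, -1], ![1, 1, 1, -1, 1, 1, -1, -1, 1, 1, -1, 1], ![1, -1, 1, 1, 1, -1, 1, -1, 1, -1, -1, -1], ![1, 1, 1, -1, 1, 1, 1, 1, -1, -1, 1, -1], ![1, -1, -1, -1, 1, -1, 1, -1, -1, 1, 1, 1], ![1, 1, 1, 1, 1, 1, 1, 1, 1, 1, 1, 1], ![1, 1, 1, 1, 1, 1, 1, 1, 1, 1, 1, 1], ![1, 1, -1, -1, 1, 1, -1, -1, 1, -1, 1, -1], ![1, 1, -1, 1, -1, 1, 1, -1, -1, -1, -1, 1], ![1, 1, -1, 1, 1, -1, -1, 1, -1, 1, -1, -1], ![1, -1, 1, 1, -1, 1, -1, -1, -1, 1, 1, -1], ![1, -1,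 -1, -1, -1, 1, 1, 1, 1, 1, -1, -1], ![1, 1, 1, -1, 1, 1, -1, -1, 1, 1, -1, 1], ![1, -1, 1, 1, 1, -1, 1, -1, 1, -1, -1, -1], ![1, 1, 1, -1, 1, 1, 1, 1, -1, -1, 1, -1], ![1, -1, -1, -1, 1, -1, 1, -1, -1, 1, 1, 1], ![1, 1, 1, 1, 1, 1, 1, 1, 1, 1, 1, 1], ![1, 1, -1, -1, 1, 1, -1, -1, 1, -1, 1, -1], ![1, 1, -1, 1, -1, 1, 1, -1, -1, -1, -1, 1], ![1, 1, -1, 1, 1, -1, -1, 1, -1, 1, -1, -1], ![1, -1, 1, 1, -1, 1, -1, -1, -1, 1, 1, -1], ![1, -1, -1, -1, -1, 1, 1, 1, 1, 1, -1, -1], ![1, 1, 1, -1, 1, 1, -1, -1, 1, 1, -1, 1], ![1, -1, 1, 1, 1, -1, 1, -1, 1, -1, -1, -1], ![1, 1, 1, -1, 1, 1, 1, 1, -1, -1, 1, -1], ![1, -1, -1, -1, 1, -1, 1, -1, -1, 1, 1, 1], ![1, 1, 1, 1, 1, 1, 1, 1, 1, 1, 1, 1], ![1, 1, 1, 1, 1, 1, 1, 1, 1, 1, 1, 1], ![1, 1, 1, 1, 1, 1, 1, 1, 1, 1, 1, 1], ![1, -1, -1, 1, 1, 1, 1, 1, 1, 1, 1, 1], ![1, -1, 1, -1, -1, -1, -1, -1, -1, -1, -1,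 -1], ![1, 1, -1, -1, -1, -1, -1, -1, -1, -1, -1, -1], ![1, -1, -1, 1, 1, 1, 1, 1, 1, 1, 1, 1], ![1, 1, -1, -1, -1, -1, -1, -1, -1, -1, -1, -1], ![1, -1, 1, -1, -1, -1, -1, -1, -1, -1, -1, -1], ![1, 1, 1, 1, 1, 1, 1, 1, 1, 1, 1, 1], ![1, 1, 1, 1, 1, 1, 1, 1, 1, 1, 1, 1], ![1, -1, -1, 1, 1, 1, 1, 1, 1, 1, 1, 1], ![1, -1, 1, -1, -1, -1, -1, -1, -1, -1, -1, -1], ![1, 1, -1, -1, -1, -1, -1, -1, -1, -1, -1, -1], ![1, -1, -1, 1, 1, 1, 1, 1, 1, 1, 1, 1], ![1, 1, -1, -1, -1, -1, -1, -1, -1, -1, -1, -1], ![1, -1, 1, -1, -1, -1, -1, -1, -1, -1, -1, -1]] : Fin 50 → Fin 12 → (ZMod 3)ˣ) k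

theorem tFG : ∀ k i, tG k (tF k i) = i := by decide +kernel

theorem tGF : ∀ k i, tF k (tG k i) = i := by decide +kernel

/-- The transversal permutations. -/
def tPerm (k : Fin 50) : Equiv.Perm ArrayPt :=
  aE.symm.permCongr ⟨tF k, tG k, tFG k, tGF k⟩

/-- The transversal signs. -/
def tSgn (k : Fin 50) : ArrayPt → (ZMod 3)ˣ := fun p => tCv k (aE p)

theorem tPerm_apply (k : Fin 50) (p : ArrayPt) : tPerm k p = aE.symm (tF k (aE p)) := rfl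

theorem tpres_gen : ∀ k : Fin 50, ∀ j : Fin 6,
    TernCond (monomialMap (tPerm k) (tSgn k) (tgen j)) := by decide +kernel

theorem tPres (k : Fin 50) : TPres (tPerm k) (tSgn k) :=
  TPres_of_gen (fun j => (mem_ternary_iff_cond _).mpr (tpres_gen k j))

theorem ttab : ∀ l : Fin 5, ∀ j : Fin 12, l.val ≤ j.val → ∃ k : Fin 50,
    (∀ i : Fin 12, i.val < l.val → tF k i = i) ∧ tF k (Fin.castLE (by norm_num) l) = j := by
  decide +kernel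

theorem chain_step (l : Fin 5) {σ : Equiv.Perm ArrayPt}
    (hfix : ∀ i : Fin 12, i.val < l.val → σ (aE.symm i) = aE.symm i) :
    ∃ k : Fin 50, ∀ i : Fin 12, i.val < l.val + 1 →
      ((tPerm k)⁻¹ * σ) (aE.symm i) = aE.symm i := by
  obtain ⟨j, hj⟩ : ∃ j : Fin 12, j = aE (σ (aE.symm (Fin.castLE (by norm_num) l))) := ⟨_, rfl⟩
  have hlj : l.val ≤ j.val := by
    rcases Nat.lt_or_ge j.val l.val with hlt | hge
    · exfalso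
      have h1 := hfix j hlt
      have h2 : aE.symm j = σ (aE.symm (Fin.castLE (by norm_num) l)) := by
        rw [hj, Equiv.symm_apply_apply]
      rw [h2] at h1
      have h3 := σ.injective h1
      rw [← h2] at h3
      have h4 := aE.symm.injective h3
      have h5 := congrArg Fin.val h4
      simp only [Fin.val_castLE] at h5
      omega
    · exact hge
  obtain ⟨k, hk1, hk2⟩ := ttab l j hlj
  refine ⟨k, fun i hi => ?_⟩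
  rw [Equiv.Perm.mul_apply, Equiv.Perm.inv_eq_iff_eq, tPerm_apply, Equiv.apply_symm_apply]
  rcases Nat.lt_succ_iff_lt_or_eq.mp hi with h | h
  · rw [hfix i h, hk1 i h]
  · have e : i = Fin.castLE (by norm_num) l := Fin.ext h
    rw [e, hk2, hj, Equiv.symm_apply_apply]

theorem card_arrayPt : Fintype.card ArrayPt = 12 := by decide

/-- The first five positions. -/
def base5 : Fin 5 ↪ ArrayPt :=
  ⟨fun i => aE.symm (Fin.castLE (by norm_num) i), fun a b h => by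
    have h1 := aE.symm.injective h
    exact Fin.castLE_injective _ h1⟩

/-- An automorphism of the system of hexads admits signs. -/
theorem aut_le_mono {σ : Equiv.Perm ArrayPt} (hσ : σ ∈ setSystemAut ternHexads) :
    ∃ c : ArrayPt → (ZMod 3)ˣ, TPres σ c := by
  obtain ⟨k0, h0⟩ := chain_step 0 (σ := σ) (fun i hi => absurd hi (Nat.not_lt_zero _))
  obtain ⟨k1, h1⟩ := chain_step 1 h0
  obtain ⟨k2, h2⟩ := chain_step 2 h1
  obtain ⟨k3, h3⟩ := chain_step 3 h2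
  obtain ⟨k4, h4⟩ := chain_step 4 h3
  have hA : ∀ k, tPerm k ∈ setSystemAut ternHexads := fun k => mono_le_aut (tPres k)
  obtain ⟨τ, hτ⟩ : ∃ τ : Equiv.Perm ArrayPt, τ = (tPerm k4)⁻¹ * ((tPerm k3)⁻¹ *
      ((tPerm k2)⁻¹ * ((tPerm k1)⁻¹ * ((tPerm k0)⁻¹ * σ)))) := ⟨_, rfl⟩
  rw [← hτ] at h4
  have hτA : τ ∈ setSystemAut ternHexads := by
    rw [hτ]
    exact mul_mem (inv_mem (hA k4)) (mul_mem (inv_mem (hA k3)) (mul_mem (inv_mem (hA k2))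
      (mul_mem (inv_mem (hA k1)) (mul_mem (inv_mem (hA k0)) hσ))))
  have hτ1 : τ = 1 := by
    have hs := (Cfsg.Agent.S0425.result (α := ArrayPt) card_arrayPt
      Cfsg.Agent.S1592.result.1).2.2 base5
    have hm : (⟨τ, hτA⟩ : ↥(setSystemAut ternHexads)) ∈
        MulAction.stabilizer ↥(setSystemAut ternHexads) base5 := by
      rw [MulAction.mem_stabilizer_iff]
      refine Function.Embedding.ext (fun i => ?_)
      exact h4 (Fin.castLE (by norm_num) i) (by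
        have := i.isLt
        simp only [Fin.val_castLE]
        omega)
    have hm' : (⟨τ, hτA⟩ : ↥(setSystemAut ternHexads)) = 1 := by
      have h5 := hm
      rw [show MulAction.stabilizer ↥(setSystemAut ternHexads) base5 = ⊥ from hs] at h5
      exact Subgroup.mem_bot.mp h5
    exact congrArg Subtype.val hm'
  have e : σ = tPerm k0 * (tPerm k1 * (tPerm k2 * (tPerm k3 * tPerm k4))) := by
    have e1 : σ = tPerm k0 * (tPerm k1 * (tPerm k2 * (tPerm k3 * (tPerm k4 * τ)))) := by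
      rw [hτ]
      group
    rw [e1, hτ1, mul_one]
  rw [e]
  exact ⟨_, TPres_mul (tPres k0) (TPres_mul (tPres k1) (TPres_mul (tPres k2)
    (TPres_mul (tPres k3) (tPres k4))))⟩

/-! ### Counting -/

theorem monomialMap_injective (σ : Equiv.Perm ArrayPt) (c : ArrayPt → (ZMod 3)ˣ) :
    Function.Injective (monomialMap σ c) := by
  intro x y h
  funext p
  have h1 := congrFun h (σ p)
  simp only [monomialMap, Equiv.symm_apply_apply] at h1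
  exact (c (σ p)).isUnit.mul_left_cancel h1

theorem TPres_surj {σ : Equiv.Perm ArrayPt} {c : ArrayPt → (ZMod 3)ˣ} (h : TPres σ c)
    {y : ArrayPt → ZMod 3} (hy : y ∈ ternaryGolayCode) :
    ∃ x ∈ ternaryGolayCode, monomialMap σ c x = y := by
  let f : ↥ternaryGolayCode → ↥ternaryGolayCode := fun x => ⟨monomialMap σ c x.1, h x.1 x.2⟩
  have hf : Function.Injective f := by
    intro x x' hxx
    exact Subtype.ext (monomialMap_injective σ c (congrArg Subtype.val hxx))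
  obtain ⟨x, hx⟩ := (Finite.injective_iff_surjective.mp hf) ⟨y, hy⟩
  exact ⟨x.1, x.2, congrArg Subtype.val hx⟩

theorem units3_neg : ∀ a b : (ZMod 3)ˣ, a ≠ b → -a = b := by decide

theorem units3_ne : (1 : (ZMod 3)ˣ) ≠ -1 := by decide

/-- Two sign vectors for the same permutation agreeing at one position are equal. -/
theorem sgn_unique {σ : Equiv.Perm ArrayPt} {c d : ArrayPt → (ZMod 3)ˣ} (hc : TPres σ c)
    (hd : TPres σ d) (p0 : ArrayPt) (h0 : c p0 = d p0) : c = d := by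
  have hq : ∀ x ∈ ternaryGolayCode, monomialMap 1 (fun i => d i * (c i)⁻¹) x ∈
      ternaryGolayCode := by
    intro y hy
    obtain ⟨x, hx, rfl⟩ := TPres_surj hc hy
    have e : monomialMap 1 (fun i => d i * (c i)⁻¹) (monomialMap σ c x) = monomialMap σ d x := by
      funext i
      simp only [monomialMap, Units.val_mul]
      have e1 : (1 : Equiv.Perm ArrayPt).symm i = i := rfl
      rw [e1, mul_assoc, ← mul_assoc ((c i)⁻¹ : (ZMod 3)ˣ).val, ← Units.val_mul, inv_mul_cancel,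
        Units.val_one, one_mul]
    rw [e]
    exact hd x hx
  rcases Cfsg.Agent.S1593.result _ hq with h | h
  · funext p
    have h1 := h p
    rw [mul_inv_eq_one] at h1
    exact h1.symm
  · exfalso
    have h1 := h p0
    rw [← h0, mul_inv_cancel] at h1
    exact units3_ne h1

theorem TPres_neg {σ : Equiv.Perm ArrayPt} {c : ArrayPt → (ZMod 3)ˣ} (h : TPres σ c) :
    TPres σ (fun i => -c i) := by
  intro x hx
  have e : monomialMap σ (fun i => -c i) x = -monomialMap σ c x := by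
    funext i
    simp only [monomialMap, Pi.neg_apply, Units.val_neg, neg_mul]
  rw [e]
  exact neg_mem (h x hx)

/-- The monomial group of the ternary code has order `190080`. -/
theorem card_mono : Nat.card {f : Equiv.Perm ArrayPt × (ArrayPt → (ZMod 3)ˣ) //
    (∀ x ∈ ternaryGolayCode, monomialMap f.1 f.2 x ∈ ternaryGolayCode)} = 190080 := by
  let Φ : {f : Equiv.Perm ArrayPt × (ArrayPt → (ZMod 3)ˣ) //
      (∀ x ∈ ternaryGolayCode, monomialMap f.1 f.2 x ∈ ternaryGolayCode)} →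
      ↥(setSystemAut ternHexads) × (ZMod 3)ˣ :=
    fun f => (⟨f.1.1, mono_le_aut f.2⟩, f.1.2 (0, 0))
  have hinj : Function.Injective Φ := by
    rintro ⟨⟨σ, c⟩, hc⟩ ⟨⟨σ', d⟩, hd⟩ hfg
    have h1 : σ = σ' := congrArg (fun z => (z.1 : Equiv.Perm ArrayPt)) hfg
    have h2 : c (0, 0) = d (0, 0) := congrArg Prod.snd hfg
    subst h1
    have h3 : c = d := sgn_unique hc hd (0, 0) h2
    subst h3
    rfl
  have hsurj : Function.Surjective Φ := by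
    rintro ⟨⟨σ, hσ⟩, u⟩
    obtain ⟨c, hc⟩ := aut_le_mono hσ
    by_cases hu : c (0, 0) = u
    · exact ⟨⟨(σ, c), hc⟩, by rw [← hu]⟩
    · refine ⟨⟨(σ, fun i => -c i), TPres_neg hc⟩, ?_⟩
      have h1 : -c (0, 0) = u := units3_neg _ _ hu
      rw [← h1]
  rw [Nat.card_congr (Equiv.ofBijective Φ ⟨hinj, hsurj⟩), Nat.card_prod]
  have h1 : Nat.card ↥(setSystemAut ternHexads) = 95040 :=
    (Cfsg.Agent.S0425.result (α := ArrayPt) card_arrayPt Cfsg.Agent.S1592.result.1).1.2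
  have h2 : Nat.card (ZMod 3)ˣ = 2 := by
    rw [Nat.card_eq_fintype_card]
    decide
  rw [h1, h2]

end Cfsg.Agent.H34
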